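import Cfsg.Agent.MinSimple.EmptyTI
import Cfsg.Agent.MinSimple.VModule

/-!
# Leaf (3b-E), THEOREM E0 (helper99, #13645), part 1: lines and maximal flats

`J = J(S)`, `Z = Ω₁(Z(S))`, `V = ⟨Z^{N_G(J)}⟩`, `L = N_G(V)`, `L₀ = N_G(C_S(V))`. The lines are the conjugates of
`V`. Hypotheses (`Hyp S V`): `V` is not FF, `C_V(T)` lies in every line through `D = V ∩ V^g ≠ 1` for a Sylow
2-subgroup `T ≥ J` of `C_G(D)` (EMP), `J` centralises `⟨Z^H⟩` for all 2-locals `H ≥ S`, `V ≤ O₂(C_G(Z))`,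
`C_G(Z) ≰ L`.

* `Hyp.loc_le` : (0) a 2-local `H ≥ L₀` lies in `L`;
* `Hyp.exists_c` : (1) a line through `D ≤ V` is `V^c`, `c ∈ ⟨J^{C_G(D)}⟩`;
* `Hyp.comm_point` : (2); `Hyp.comm_of_inter` : (3) two lines which meet nontrivially commute;
* `Flat S V F T`, `Hyp.exists_flat` : (4) an intersection `F = V ∩ V^g` of maximal order, `T = C_S(F)`;
  `Flat.inf_cent` : `C_V(T) = F`; `Flat.four_le` : `|V : F| ≥ 4`.
-/

set_option autoImplicit false

namespace Cfsg.Agent.Omega.NO3b.EZero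

open Subgroup Cfsg Cfsg.Agent.ZN Cfsg.Agent.ZN.ChoiceBase Cfsg.Agent.ZN.ChoiceSit
open Cfsg.Agent.MinSimple.EmptyTI (jcl cj_le_jcl le_jcl jcl_le jcl_mono jcl_cj cj_jcl le_normalizer_jcl
  jcl_le_self exists_conj_jj le_normalizer_jj frattini_jcl syl_of_le)

universe u

variable {G : Type u} [Group G]

/-- `V` is not FF: `|V : C_V(A)| > |A : C_A(V)|` for all 2-subgroups `A` acting on `V` as nontrivial elementary
abelian groups. -/
def NotFF (V : Subgroup G) : Prop :=
  ∀ A : Subgroup G, IsPGroup 2 A → A ≤ normalizer (V : Set G) → (∀ a ∈ A, a ^ 2 ∈ centralizer (V : Set G)) →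
    (∀ a ∈ A, ∀ b ∈ A, a * b * a⁻¹ * b⁻¹ ∈ centralizer (V : Set G)) → ¬ A ≤ centralizer (V : Set G) →
    (centralizer (V : Set G)).relIndex A < (centralizer (A : Set G)).relIndex V

theorem relIndex_cj (g : G) (A B : Subgroup G) : (cj g A).relIndex (cj g B) = A.relIndex B :=
  relIndex_map_map_of_injective A B (MulAut.conj g).injective

theorem mem_cj_self {g x : G} {A : Subgroup G} (hx : x ∈ A) : g * x * g⁻¹ ∈ cj g A := by
  rw [mem_cj]
  have e : g⁻¹ * (g * x * g⁻¹) * g = x := by group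
  rwa [e]

theorem cent_symm {A B : Subgroup G} (h : A ≤ centralizer (B : Set G)) : B ≤ centralizer (A : Set G) :=
  Subgroup.le_centralizer_iff.1 h

theorem cj_cent {g : G} {A B : Subgroup G} (h : A ≤ centralizer (B : Set G)) :
    cj g A ≤ centralizer ((cj g B : Subgroup G) : Set G) := by
  rw [← cj_centralizer]
  exact cj_mono g h

theorem cj_norm {g : G} {A B : Subgroup G} (h : A ≤ normalizer (B : Set G)) :
    cj g A ≤ normalizer ((cj g B : Subgroup G) : Set G) := by
  rw [← cj_normalizer]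
  exact cj_mono g h

theorem cj_eq_cj_iff {a b : G} {A : Subgroup G} : cj a A = cj b A ↔ b⁻¹ * a ∈ normalizer (A : Set G) := by
  rw [mem_normalizer_iff_cj, ← cj_cj]
  constructor
  · intro h
    rw [h, cj_inv_cj]
  · intro h
    have := congrArg (cj b) h
    rwa [cj_cj_inv] at this

theorem NotFF.cj {V : Subgroup G} (h : NotFF V) (g : G) : NotFF (cj g V) := by
  intro A hA hN hsq hcm hne
  have h1 : ChoiceBase.cj g (ChoiceBase.cj g⁻¹ A) = A := cj_cj_inv g A
  have hcen : ∀ x, x ∈ centralizer ((ChoiceBase.cj g V : Subgroup G) : Set G) →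
      g⁻¹ * x * g ∈ centralizer (V : Set G) := by
    intro x hx
    rw [← cj_centralizer] at hx
    exact mem_cj.1 hx
  have h2 := h (ChoiceBase.cj g⁻¹ A) (isPGroup_cj _ hA) (by
      rw [cj_le_iff, inv_inv, cj_normalizer]; exact hN) (by
      intro a ha
      have ha' := mem_cj.1 ha
      rw [inv_inv] at ha'
      have h3 := hcen _ (hsq _ ha')
      have e : g⁻¹ * (g * a * g⁻¹) ^ 2 * g = a ^ 2 := by rw [pow_two, pow_two]; group
      rwa [e] at h3) (by
      intro a ha b hb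
      have ha' := mem_cj.1 ha
      have hb' := mem_cj.1 hb
      rw [inv_inv] at ha' hb'
      have h3 := hcen _ (hcm _ ha' _ hb')
      have e : g⁻¹ * (g * a * g⁻¹ * (g * b * g⁻¹) * (g * a * g⁻¹)⁻¹ * (g * b * g⁻¹)⁻¹) * g =
          a * b * a⁻¹ * b⁻¹ := by group
      rwa [e] at h3) (by
      intro h3
      apply hne
      have h4 := cj_cent (g := g) h3
      rwa [h1] at h4)
  rw [← relIndex_cj g, ← relIndex_cj g (centralizer _) V, cj_centralizer, cj_centralizer, h1] at h2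
  exact h2

/-- Two abelian subgroups of exponent 2, not FF, which normalise each other commute. -/
theorem comm_of_norm {A B : Subgroup G} (hA : NotFF A) (hB : NotFF B) (hA2 : ∀ a ∈ A, a ^ 2 = 1)
    (hB2 : ∀ b ∈ B, b ^ 2 = 1) (hAc : A ≤ centralizer (A : Set G)) (hBc : B ≤ centralizer (B : Set G))
    (hAB : A ≤ normalizer (B : Set G)) (hBA : B ≤ normalizer (A : Set G)) : A ≤ centralizer (B : Set G) := by
  by_contra hcon
  have hcon' : ¬ B ≤ centralizer (A : Set G) := fun h => hcon (cent_symm h)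
  have pg : ∀ {X : Subgroup G}, (∀ x ∈ X, x ^ 2 = 1) → IsPGroup 2 X := fun hX x =>
    ⟨1, Subtype.ext (by simpa using hX x x.2)⟩
  have h1 := hA B (pg hB2) hBA (fun b hb => by rw [hB2 b hb]; exact one_mem _) (fun a ha b hb => by
    have e : a * b = b * a := (mem_centralizer_iff.1 (hBc ha) b hb).symm
    rw [e, mul_inv_cancel_right, mul_inv_cancel]; exact one_mem _) hcon'
  have h2 := hB A (pg hA2) hAB (fun b hb => by rw [hA2 b hb]; exact one_mem _) (fun a ha b hb => by
    have e : a * b = b * a := (mem_centralizer_iff.1 (hAc ha) b hb).symm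
    rw [e, mul_inv_cancel_right, mul_inv_cancel]; exact one_mem _) hcon
  exact absurd h1 (not_lt.2 h2.le)

/-- The hypotheses of THEOREM E0. -/
structure Hyp [Finite G] (S : Sylow 2 G) (V : Subgroup G) : Prop where
  eq : V = zl (S : Subgroup G) (normalizer ((jj (S : Subgroup G) : Subgroup G) : Set G))
  nff : NotFF V
  emp : ∀ g : G, cj g V ≠ V → V ⊓ cj g V ≠ ⊥ → ∀ T : Subgroup G,
    Syl T (centralizer ((V ⊓ cj g V : Subgroup G) : Set G)) → jj (S : Subgroup G) ≤ T →
    ∀ b : G, V ⊓ cj g V ≤ cj b V → V ⊓ centralizer (T : Set G) ≤ cj b V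
  empS : ∀ H : Subgroup G, IsTwoLocal H → (S : Subgroup G) ≤ H →
    jj (S : Subgroup G) ≤ centralizer ((zl (S : Subgroup G) H : Subgroup G) : Set G)
  low : V ≤ o2 (centralizer (zc (S : Subgroup G) : Set G))
  nle : ¬ centralizer (zc (S : Subgroup G) : Set G) ≤ normalizer (V : Set G)

section basic

variable [Finite G] {S : Sylow 2 G} {V : Subgroup G}

theorem le_NJ : (S : Subgroup G) ≤ normalizer ((jj (S : Subgroup G) : Subgroup G) : Set G) :=
  le_normalizer_jj S S.isPGroup' (jj_le _)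

omit [Finite G] in
theorem isPGroup_Q0 : IsPGroup 2 ((S : Subgroup G) ⊓ centralizer (V : Set G) : Subgroup G) :=
  S.isPGroup'.to_le inf_le_left

namespace Hyp

variable (h : Hyp S V)
include h

theorem NJ_le : normalizer ((jj (S : Subgroup G) : Subgroup G) : Set G) ≤ normalizer (V : Set G) := by
  have h1 := MinSimple.VModule.le_normalizer_zl (S : Subgroup G)
    (normalizer ((jj (S : Subgroup G) : Subgroup G) : Set G))
  rwa [← h.eq] at h1

theorem S_le : (S : Subgroup G) ≤ normalizer (V : Set G) := le_NJ.trans h.NJ_le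

theorem Z_le : zc (S : Subgroup G) ≤ V := by
  have h1 := zc_le_zl (S : Subgroup G) (normalizer ((jj (S : Subgroup G) : Subgroup G) : Set G))
  rwa [← h.eq] at h1

theorem le_zj : V ≤ zj (S : Subgroup G) := by
  rw [h.eq]
  refine iSup_le fun g => ?_
  have h1 : cj (g : G) (zj (S : Subgroup G)) = zj (S : Subgroup G) := by
    rw [← zj_cj]
    refine zj_congr ?_
    rw [jj_cj, mem_normalizer_iff_cj.1 g.2]
  have h2 := cj_mono (g : G) (zc_le_zj (S : Subgroup G))
  rwa [h1] at h2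

theorem J_cent : jj (S : Subgroup G) ≤ centralizer (V : Set G) := by
  intro j hj
  rw [mem_centralizer_iff]
  intro v hv
  exact ((mem_zj.1 (h.le_zj hv)).2.2 j hj).symm

theorem comm : V ≤ centralizer (V : Set G) := by
  intro v hv
  rw [mem_centralizer_iff]
  intro w hw
  exact (mem_zj.1 (h.le_zj hv)).2.2 w (mem_zj.1 (h.le_zj hw)).1

theorem sq : ∀ v ∈ V, v ^ 2 = 1 := fun _ hv => (mem_zj.1 (h.le_zj hv)).2.1

theorem le_S : V ≤ (S : Subgroup G) := fun _ hv => jj_le _ (mem_zj.1 (h.le_zj hv)).1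

theorem cj_comm (g : G) : cj g V ≤ centralizer ((cj g V : Subgroup G) : Set G) := cj_cent h.comm

theorem cj_sq (g : G) : ∀ v ∈ cj g V, v ^ 2 = 1 := by
  intro v hv
  have h1 := h.sq _ (mem_cj.1 hv)
  have e : v ^ 2 = g * (g⁻¹ * v * g) ^ 2 * g⁻¹ := by rw [pow_two, pow_two]; group
  rw [e, h1]; group

theorem isPGroup : IsPGroup 2 V := S.isPGroup'.to_le h.le_S

/-- Two lines which normalise each other commute. -/
theorem comm_lines {a b : G} (h1 : cj a V ≤ normalizer ((cj b V : Subgroup G) : Set G))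
    (h2 : cj b V ≤ normalizer ((cj a V : Subgroup G) : Set G)) :
    cj a V ≤ centralizer ((cj b V : Subgroup G) : Set G) :=
  comm_of_norm (h.nff.cj a) (h.nff.cj b) (h.cj_sq a) (h.cj_sq b) (h.cj_comm a) (h.cj_comm b) h1 h2

/-! ### (0) -/

theorem Q0_J : jj (S : Subgroup G) ≤ (S : Subgroup G) ⊓ centralizer (V : Set G) := le_inf (jj_le _) h.J_cent

/-- `L₀ ≤ N_G(J)` -/
theorem L0_le : normalizer (((S : Subgroup G) ⊓ centralizer (V : Set G) : Subgroup G) : Set G) ≤
    normalizer ((jj (S : Subgroup G) : Subgroup G) : Set G) := by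
  have h1 := normalizer_le_jj ((S : Subgroup G) ⊓ centralizer (V : Set G))
  rwa [MinSimple.EmptyTI.jj_eq S isPGroup_Q0 h.Q0_J] at h1

theorem S_le_L0 : (S : Subgroup G) ≤
    normalizer (((S : Subgroup G) ⊓ centralizer (V : Set G) : Subgroup G) : Set G) := by
  intro s hs
  rw [mem_normalizer_iff_cj, cj_inf, cj_centralizer, mem_normalizer_iff_cj.1 (h.S_le hs)]
  congr 1
  exact cj_eq_of_mem_normalizer (Subgroup.le_normalizer hs)

/-- `C_S(V)` is a Sylow 2-subgroup of `C_G(V)` -/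
theorem syl_Q0 : Syl ((S : Subgroup G) ⊓ centralizer (V : Set G)) (centralizer (V : Set G)) := by
  refine ⟨inf_le_right, isPGroup_Q0, fun Q hQ hp hle => ?_⟩
  have hQL : Q ≤ normalizer (V : Set G) := hQ.trans (centralizer_le_normalizer _)
  obtain ⟨T, hT, hQT⟩ := exists_syl hp hQL
  obtain ⟨x, hx, hxT⟩ := syl_conj hT (syl_of_le h.S_le)
  have h1 : cj x Q ≤ (S : Subgroup G) ⊓ centralizer (V : Set G) := by
    refine le_inf ?_ ?_
    · rw [← hxT]; exact cj_mono x hQT
    · have h2 := cj_mono x hQ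
      rwa [cj_centralizer, mem_normalizer_iff_cj.1 hx] at h2
  have h2 := card_le_of_le h1
  rw [card_cj] at h2
  exact (eq_of_le_of_card_ge hle h2).symm

/-- Frattini: `L = C_G(V) L₀` -/
theorem frattini {n : G} (hn : n ∈ normalizer (V : Set G)) : ∃ c ∈ centralizer (V : Set G),
    c⁻¹ * n ∈ normalizer (((S : Subgroup G) ⊓ centralizer (V : Set G) : Subgroup G) : Set G) := by
  have h1 : Syl (cj n ((S : Subgroup G) ⊓ centralizer (V : Set G))) (centralizer (V : Set G)) := by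
    have hC : cj n (centralizer (V : Set G)) = centralizer (V : Set G) := by
      rw [cj_centralizer, mem_normalizer_iff_cj.1 hn]
    refine ⟨?_, isPGroup_cj _ isPGroup_Q0, fun Q hQ hp hle => ?_⟩
    · exact (cj_mono n h.syl_Q0.1).trans hC.le
    · have h2 := h.syl_Q0.2.2 (cj n⁻¹ Q) (by
        rw [cj_le_iff, inv_inv, hC]; exact hQ) (isPGroup_cj _ hp) (by
        have h3 := cj_mono n⁻¹ hle
        rwa [cj_inv_cj] at h3)
      rw [← h2, cj_cj_inv]
  obtain ⟨c, hc, hcn⟩ := syl_conj h.syl_Q0 h1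
  exact ⟨c, hc, cj_eq_cj_iff.1 hcn.symm⟩

/-- **(0)** A 2-local subgroup containing `L₀` lies in `L`. -/
theorem loc_le {H : Subgroup G} (hH : IsTwoLocal H)
    (hL : normalizer (((S : Subgroup G) ⊓ centralizer (V : Set G) : Subgroup G) : Set G) ≤ H) :
    H ≤ normalizer (V : Set G) := by
  have hSH : (S : Subgroup G) ≤ H := h.S_le_L0.trans hL
  have hJH : jj (S : Subgroup G) ≤ H := (jj_le _).trans hSH
  have hX := h.empS H hH hSH
  have hHX := MinSimple.VModule.le_normalizer_zl (S : Subgroup G) H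
  have hjX : jcl (jj (S : Subgroup G)) H ≤ centralizer ((zl (S : Subgroup G) H : Subgroup G) : Set G) := by
    refine jcl_le fun g hg => ?_
    have h1 := cj_cent (g := g) hX
    rwa [mem_normalizer_iff_cj.1 (hHX hg)] at h1
  have hZX : ∀ g ∈ H, cj g (zc (S : Subgroup G)) ≤ zl (S : Subgroup G) H := fun g hg =>
    le_iSup (fun g : H => cj (g : G) (zc (S : Subgroup G))) ⟨g, hg⟩
  have key : zl (S : Subgroup G) H = V := by
    apply le_antisymm
    · refine iSup_le fun g => ?_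
      have h1 := frattini_jcl S hJH g.2
      rw [sup_comm, ← SetLike.mem_coe, Subgroup.coe_mul_of_left_le_normalizer_right _ _
        (inf_le_left.trans (le_normalizer_jcl (jj (S : Subgroup G)) H)), Set.mem_mul] at h1
      obtain ⟨n, hn, c, hc, hg⟩ := h1
      have hn' : n ∈ normalizer ((jj (S : Subgroup G) : Subgroup G) : Set G) := hn.2
      have h2 : cj c (zc (S : Subgroup G)) = zc (S : Subgroup G) := by
        have h3 := hjX hc
        refine cj_eq_of_mem_normalizer (centralizer_le_normalizer _ ?_)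
        exact centralizer_le (by
          have := hZX 1 (one_mem _)
          rwa [cj_one] at this) h3
      change cj (g : G) (zc (S : Subgroup G)) ≤ V
      rw [← hg, ← cj_cj, h2]
      rw [h.eq]
      exact le_iSup (fun g : (normalizer ((jj (S : Subgroup G) : Subgroup G) : Set G) : Subgroup G) =>
        cj (g : G) (zc (S : Subgroup G))) ⟨n, hn'⟩
    · conv_lhs => rw [h.eq]
      refine iSup_le fun n => ?_
      obtain ⟨c, hc, hcn⟩ := h.frattini (h.NJ_le n.2)
      have e : (n : G) = c * (c⁻¹ * n) := by group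
      have h1 : cj (c⁻¹ * n) (zc (S : Subgroup G)) ≤ V := by
        have h2 := cj_mono (c⁻¹ * n) h.Z_le
        rwa [mem_normalizer_iff_cj.1 (h.NJ_le (h.L0_le hcn))] at h2
      have h2 : cj c (cj (c⁻¹ * n) (zc (S : Subgroup G))) = cj (c⁻¹ * n) (zc (S : Subgroup G)) :=
        cj_eq_of_mem_normalizer (centralizer_le_normalizer _ (centralizer_le h1 hc))
      change cj (n : G) (zc (S : Subgroup G)) ≤ _
      rw [e, ← cj_cj, h2]
      exact hZX _ (hL hcn)
  rw [← key]
  exact hHX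

/-! ### (1), (2), (3) -/

/-- **(1)** A line through `D ≤ V` is `V^c`, `c ∈ ⟨J^{C_G(D)}⟩`. -/
theorem exists_c {D : Subgroup G} (hD : D ≤ V) {g : G} (hDg : D ≤ cj g V) :
    ∃ c ∈ jcl (jj (S : Subgroup G)) (centralizer (D : Set G)), cj c V = cj g V := by
  have h1 : jj (S : Subgroup G) ≤ centralizer (D : Set G) := h.J_cent.trans (centralizer_le hD)
  have h2 : cj g (jj (S : Subgroup G)) ≤ centralizer (D : Set G) :=
    (cj_cent h.J_cent).trans (centralizer_le hDg)
  obtain ⟨x, hx, hxg⟩ := exists_conj_jj S h1 h2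
  have h3 : cj g (jj (S : Subgroup G)) ≤ jcl (jj (S : Subgroup G)) (centralizer (D : Set G)) := by
    rw [← hxg]; exact cj_le_jcl hx
  obtain ⟨c, hc, hcg⟩ := exists_conj_jj S (le_jcl _ _) h3
  exact ⟨c, hc, cj_eq_cj_iff.2 (h.NJ_le (cj_eq_cj_iff.1 hcg))⟩

theorem jcl_le_cent {D : Subgroup G} (hD : D ≤ V) :
    jcl (jj (S : Subgroup G)) (centralizer (D : Set G)) ≤ centralizer (D : Set G) :=
  jcl_le_self (h.J_cent.trans (centralizer_le hD))

theorem low_conj {c : G} (hc : c ∈ centralizer (zc (S : Subgroup G) : Set G)) : cj c V ≤ (S : Subgroup G) := by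
  have h1 := cj_mono c h.low
  rw [cj_eq_of_mem_normalizer (ChoiceSit.le_normalizer_o2 _ hc)] at h1
  exact h1.trans (o2_le_syl (syl_of_le (by
    intro s hs
    rw [mem_centralizer_iff]
    exact fun z hz => ((mem_zc.1 hz).2.2 s hs).symm)))

/-- **(2)** -/
theorem comm_point {c : G} (hc : c ∈ centralizer (zc (S : Subgroup G) : Set G)) :
    V ≤ centralizer ((cj c V : Subgroup G) : Set G) := by
  have h1 := h.comm_lines (a := 1) (b := c) (by
    rw [cj_one]
    have h2 := cj_norm (g := c) ((h.low_conj (inv_mem hc)).trans h.S_le)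
    rwa [cj_cj_inv] at h2) (by
    rw [cj_one]
    exact (h.low_conj hc).trans h.S_le)
  rwa [cj_one] at h1

omit h in
/-- A 2-subgroup containing `J` lies in `S^l`, `l ∈ N_G(J)`. -/
theorem exists_l {T : Subgroup G} (hT : IsPGroup 2 T) (hJ : jj (S : Subgroup G) ≤ T) :
    ∃ l ∈ normalizer ((jj (S : Subgroup G) : Subgroup G) : Set G), T ≤ cj l (S : Subgroup G) := by
  obtain ⟨T', hT', hTT⟩ := exists_syl hT (le_normalizer_jj S hT hJ)
  obtain ⟨l, hl, hlT⟩ := syl_conj (syl_of_le le_NJ) hT'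
  exact ⟨l, hl, hTT.trans hlT.ge⟩

/-- the point `Z^l` lies in all lines through `D` -/
theorem point_le {g : G} (hne : cj g V ≠ V) (hD : V ⊓ cj g V ≠ ⊥) {T : Subgroup G}
    (hT : Syl T (centralizer ((V ⊓ cj g V : Subgroup G) : Set G))) (hJ : jj (S : Subgroup G) ≤ T) {l : G}
    (hl : l ∈ normalizer (V : Set G)) (hTl : T ≤ cj l (S : Subgroup G)) {b : G} (hb : V ⊓ cj g V ≤ cj b V) :
    cj l (zc (S : Subgroup G)) ≤ cj b V := by
  refine le_trans (le_inf ?_ ?_) (h.emp g hne hD T hT hJ b hb)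
  · have h1 := cj_mono l h.Z_le
    rwa [mem_normalizer_iff_cj.1 hl] at h1
  · refine le_trans ?_ (centralizer_le hTl)
    refine cj_cent ?_
    intro z hz
    rw [mem_centralizer_iff]
    exact fun s hs => (mem_zc.1 hz).2.2 s hs

/-- **(3)** Two lines which meet nontrivially commute. -/
theorem comm_of_inter' {g : G} (hD : V ⊓ cj g V ≠ ⊥) : V ≤ centralizer ((cj g V : Subgroup G) : Set G) := by
  by_cases hne : cj g V = V
  · rw [hne]; exact h.comm
  have hJ : jj (S : Subgroup G) ≤ centralizer ((V ⊓ cj g V : Subgroup G) : Set G) :=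
    h.J_cent.trans (centralizer_le inf_le_left)
  obtain ⟨T, hT, hJT⟩ := exists_syl (S.isPGroup'.to_le (jj_le _)) hJ
  obtain ⟨l, hl, hTl⟩ := exists_l hT.2.1 hJT
  have hl' := h.NJ_le hl
  have h1 := h.point_le hne hD hT hJT hl' hTl (b := g) inf_le_right
  have h2 := h.point_le hne hD hT hJT hl' hTl (b := 1) (by rw [cj_one]; exact inf_le_left)
  rw [cj_one] at h2
  obtain ⟨c, hc, hcg⟩ := h.exists_c h2 h1
  have hc' := h.jcl_le_cent h2 hc
  rw [← cj_centralizer] at hc'
  have h3 := h.comm_point (mem_cj.1 hc')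
  have h4 := cj_cent (g := l) h3
  rw [cj_cj, mem_normalizer_iff_cj.1 hl'] at h4
  have e : l * (l⁻¹ * c * l) = c * l := by group
  rw [e, ← cj_cj, mem_normalizer_iff_cj.1 hl', hcg] at h4
  exact h4

theorem comm_of_inter {a b : G} (hD : cj a V ⊓ cj b V ≠ ⊥) :
    cj a V ≤ centralizer ((cj b V : Subgroup G) : Set G) := by
  have h1 := h.comm_of_inter' (g := a⁻¹ * b) (by
    intro h0
    apply hD
    have h1 := congrArg (cj a) h0
    rw [cj_inf, cj_cj, mul_inv_cancel_left] at h1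
    rw [h1]
    exact Subgroup.map_bot _)
  have h2 := cj_cent (g := a) h1
  rwa [cj_cj, mul_inv_cancel_left] at h2

end Hyp

/-- **(4)** `F` is an intersection `V ∩ V^g` of maximal order, `T` a Sylow 2-subgroup of `C_G(F)`, `J ≤ T ≤ S`. -/
structure Flat (S : Sylow 2 G) (V F T : Subgroup G) : Prop where
  eq : ∃ g, cj g V ≠ V ∧ V ⊓ cj g V = F
  max : ∀ g, cj g V ≠ V → Nat.card (V ⊓ cj g V : Subgroup G) ≤ Nat.card F
  syl : Syl T (centralizer (F : Set G))
  T_le : T ≤ (S : Subgroup G)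
  J_le : jj (S : Subgroup G) ≤ T

namespace Hyp

variable (h : Hyp S V)
include h

/-- the bad flats are not trivial -/
theorem exists_bad : ∃ g, cj g V ≠ V ∧ zc (S : Subgroup G) ≤ V ⊓ cj g V := by
  have h1 := h.nle
  rw [SetLike.not_le_iff_exists] at h1
  obtain ⟨c, hc, hcV⟩ := h1
  refine ⟨c, fun h2 => hcV (mem_normalizer_iff_cj.2 h2), le_inf h.Z_le ?_⟩
  have h2 := cj_mono c h.Z_le
  rwa [cj_eq_of_mem_normalizer (centralizer_le_normalizer _ hc)] at h2

theorem S_ne : (S : Subgroup G) ≠ ⊥ := by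
  intro h0
  apply h.nle
  have h1 : V = ⊥ := le_bot_iff.1 (h.le_S.trans h0.le)
  rw [h1]
  intro x _
  rw [mem_normalizer_iff_cj]
  exact Subgroup.map_bot _

theorem exists_flat : ∃ F T, Flat S V F T := by
  obtain ⟨g₀, hg₀, hZ⟩ := h.exists_bad
  obtain ⟨g, hg, hmax⟩ := Set.exists_max_image {g : G | cj g V ≠ V}
    (fun g => Nat.card (V ⊓ cj g V : Subgroup G)) (Set.toFinite _) ⟨g₀, hg₀⟩
  have hne : V ⊓ cj g V ≠ ⊥ := by
    intro h0
    have h1 := hmax g₀ hg₀
    have h2 := card_le_of_le hZ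
    simp only [h0] at h1
    have h3 : Nat.card (zc (S : Subgroup G)) = 1 := by
      have : Nat.card (⊥ : Subgroup G) = 1 := by simp
      have h4 : 0 < Nat.card (zc (S : Subgroup G)) := Nat.card_pos
      omega
    exact MinSimple.Basic.zc_ne_bot S.isPGroup' h.S_ne (Subgroup.card_eq_one.1 h3)
  have hJ : jj (S : Subgroup G) ≤ centralizer ((V ⊓ cj g V : Subgroup G) : Set G) :=
    h.J_cent.trans (centralizer_le inf_le_left)
  obtain ⟨T, hT, hJT⟩ := exists_syl (S.isPGroup'.to_le (jj_le _)) hJ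
  obtain ⟨l, hl, hTl⟩ := exists_l hT.2.1 hJT
  have hl' := h.NJ_le hl
  have e1 : cj l⁻¹ (V ⊓ cj g V) = V ⊓ cj (l⁻¹ * g) V := by
    rw [cj_inf, cj_cj, mem_normalizer_iff_cj.1 (inv_mem hl')]
  refine ⟨cj l⁻¹ (V ⊓ cj g V), cj l⁻¹ T, ⟨l⁻¹ * g, ?_, e1.symm⟩, ?_, ?_, ?_, ?_⟩
  · intro h0
    apply hg
    have h1 := congrArg (cj l) h0
    rwa [cj_cj, mul_inv_cancel_left, mem_normalizer_iff_cj.1 hl'] at h1
  · intro x hx
    rw [card_cj]
    exact hmax x hx
  · have hC : centralizer ((cj l⁻¹ (V ⊓ cj g V) : Subgroup G) : Set G) =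
        cj l⁻¹ (centralizer ((V ⊓ cj g V : Subgroup G) : Set G)) := (cj_centralizer _ _).symm
    rw [hC]
    refine ⟨cj_mono _ hT.1, isPGroup_cj _ hT.2.1, fun Q hQ hp hle => ?_⟩
    have h2 := hT.2.2 (cj l Q) (by
      rw [cj_le_iff]; exact hQ) (isPGroup_cj _ hp) (by
      have h3 := cj_mono l hle
      rwa [cj_cj_inv] at h3)
    rw [← h2, cj_inv_cj]
  · rw [cj_le_iff, inv_inv]; exact hTl
  · have h2 := cj_mono l⁻¹ hJT
    rwa [mem_normalizer_iff_cj.1 (inv_mem hl)] at h2

end Hyp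

namespace Flat

variable {F T : Subgroup G} (f : Flat S V F T) (h : Hyp S V)
include f

omit [Finite G] in
theorem F_le : F ≤ V := by
  obtain ⟨g, -, hg⟩ := f.eq
  rw [← hg]; exact inf_le_left

theorem F_ne_V : F ≠ V := by
  obtain ⟨g, hg, hF⟩ := f.eq
  intro h0
  apply hg
  rw [h0] at hF
  exact (eq_of_le_of_card_ge (inf_eq_left.1 hF) (card_cj g V).le).symm

omit [Finite G] in
theorem isPGroup_T : IsPGroup 2 T := f.syl.2.1

include h

theorem ne_bot : F ≠ ⊥ := by
  obtain ⟨g₀, hg₀, hZ⟩ := h.exists_bad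
  intro h0
  have h1 := f.max g₀ hg₀
  have h2 := card_le_of_le hZ
  rw [h0] at h1
  have h3 : Nat.card (zc (S : Subgroup G)) = 1 := by
    have : Nat.card (⊥ : Subgroup G) = 1 := by simp
    have h4 : 0 < Nat.card (zc (S : Subgroup G)) := Nat.card_pos
    omega
  exact MinSimple.Basic.zc_ne_bot S.isPGroup' h.S_ne (Subgroup.card_eq_one.1 h3)

/-- the lines through `F` contain `Z` -/
theorem Z_le_line {b : G} (hb : F ≤ cj b V) : zc (S : Subgroup G) ≤ cj b V := by
  obtain ⟨g, hg, hF⟩ := f.eq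
  have h1 := h.point_le hg (by rw [hF]; exact f.ne_bot h) (by rw [hF]; exact f.syl) f.J_le
    (l := 1) (one_mem _) (by rw [cj_one]; exact f.T_le) (b := b) (by rw [hF]; exact hb)
  rwa [cj_one] at h1

theorem Z_le : zc (S : Subgroup G) ≤ F := by
  obtain ⟨g, hg, hF⟩ := f.eq
  rw [← hF]
  exact le_inf h.Z_le (f.Z_le_line h (by rw [← hF]; exact inf_le_right))

omit h in
/-- Two different lines through `F` meet in `F`. -/
theorem inf_eq {a b : G} (hne : cj a V ≠ cj b V) (ha : F ≤ cj a V) (hb : F ≤ cj b V) :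
    cj a V ⊓ cj b V = F := by
  refine (eq_of_le_of_card_ge (le_inf ha hb) ?_).symm
  have h1 := f.max (a⁻¹ * b) (by
    intro h0
    apply hne
    have h1 := congrArg (cj a) h0
    rw [cj_cj, mul_inv_cancel_left] at h1
    exact h1.symm)
  have h2 : cj a (V ⊓ cj (a⁻¹ * b) V) = cj a V ⊓ cj b V := by
    rw [cj_inf, cj_cj, mul_inv_cancel_left]
  rw [← h2, card_cj]
  exact h1

theorem comm_line {a b : G} (ha : F ≤ cj a V) (hb : F ≤ cj b V) :
    cj a V ≤ centralizer ((cj b V : Subgroup G) : Set G) :=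
  h.comm_of_inter fun h0 => f.ne_bot h (le_bot_iff.1 ((le_inf ha hb).trans h0.le))

omit [Finite G] h in
theorem T_eq : (S : Subgroup G) ⊓ centralizer (F : Set G) = T :=
  f.syl.2.2 _ inf_le_right (S.isPGroup'.to_le inf_le_left) (le_inf f.T_le f.syl.1)

omit [Finite G] h in
theorem Q0_le : (S : Subgroup G) ⊓ centralizer (V : Set G) ≤ T := by
  rw [← f.T_eq]
  exact inf_le_inf_left _ (centralizer_le f.F_le)

theorem V_le_T : V ≤ T := (le_inf h.le_S h.comm).trans f.Q0_le

/-- `C_V(T) = F` -/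
theorem inf_cent : V ⊓ centralizer (T : Set G) = F := by
  apply le_antisymm
  · obtain ⟨g, hg, hF⟩ := f.eq
    have h1 := h.emp g hg (by rw [hF]; exact f.ne_bot h) T (by rw [hF]; exact f.syl) f.J_le g inf_le_right
    rw [← hF]
    exact le_inf inf_le_left h1
  · exact le_inf f.F_le (cent_symm f.syl.1)

theorem T_le_L : T ≤ normalizer (V : Set G) := f.T_le.trans h.S_le

theorem not_T_cent : ¬ T ≤ centralizer (V : Set G) := by
  intro h0
  apply f.F_ne_V
  rw [← f.inf_cent h]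
  exact inf_eq_left.2 (cent_symm h0)

/-- `|V : F| ≥ 4` -/
theorem four_le : 4 ≤ F.relIndex V := by
  -- `t ∈ T - C(V)` with `t² ∈ C(V)`
  obtain ⟨t, ht, htV, ht2⟩ : ∃ t ∈ T, t ∉ centralizer (V : Set G) ∧ t ^ 2 ∈ centralizer (V : Set G) := by
    have h1 := f.not_T_cent h
    rw [SetLike.not_le_iff_exists] at h1
    obtain ⟨s, hs, hsV⟩ := h1
    obtain ⟨k, hk⟩ := f.isPGroup_T ⟨s, hs⟩
    have hk' : s ^ 2 ^ k = 1 := congrArg Subtype.val hk
    have hex : ∃ k, s ^ 2 ^ k ∈ centralizer (V : Set G) := ⟨k, by rw [hk']; exact one_mem _⟩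
    classical
    obtain ⟨m, hm⟩ : ∃ m, Nat.find hex = m + 1 := by
      refine Nat.exists_eq_succ_of_ne_zero fun h0 => hsV ?_
      have h2 := Nat.find_spec hex
      rw [h0] at h2
      simpa using h2
    refine ⟨s ^ 2 ^ m, pow_mem hs _, Nat.find_min hex (by omega), ?_⟩
    have h2 := Nat.find_spec hex
    rw [hm] at h2
    rw [← pow_mul, ← pow_succ]
    exact h2
  have hA : zpowers t ≤ T := (zpowers_le).2 ht
  have hpA : IsPGroup 2 (zpowers t) := f.isPGroup_T.to_le hA
  have h1 := h.nff (zpowers t) hpA (hA.trans (f.T_le_L h)) (by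
    intro a ha
    obtain ⟨k, rfl⟩ := mem_zpowers_iff.1 ha
    have e : (t ^ k) ^ 2 = (t ^ 2) ^ k := by
      rw [← zpow_natCast, ← zpow_natCast, ← zpow_mul, ← zpow_mul, mul_comm]
    rw [e]
    exact zpow_mem ht2 k) (by
    intro a ha b hb
    obtain ⟨k, rfl⟩ := mem_zpowers_iff.1 ha
    obtain ⟨l, rfl⟩ := mem_zpowers_iff.1 hb
    have e : t ^ k * t ^ l * (t ^ k)⁻¹ * (t ^ l)⁻¹ = 1 := by group
    rw [e]
    exact one_mem _) (fun h0 => htV (h0 (mem_zpowers t)))
  -- `|A : C_A(V)| ≥ 2`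
  have h2 : 2 ≤ (centralizer (V : Set G)).relIndex (zpowers t) := by
    have h3 : (centralizer (V : Set G)).relIndex (zpowers t) ≠ 0 := index_ne_zero_of_finite
    have h4 : (centralizer (V : Set G)).relIndex (zpowers t) ≠ 1 := fun h0 =>
      htV ((relIndex_eq_one.1 h0) (mem_zpowers t))
    omega
  -- `|V : C_V(A)| ≤ |V : F|`
  have h3 : (centralizer ((zpowers t : Subgroup G) : Set G)).relIndex V ∣ F.relIndex V := by
    have h4 : F ≤ centralizer ((zpowers t : Subgroup G) : Set G) :=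
      (cent_symm f.syl.1).trans (centralizer_le hA)
    exact relIndex_dvd_of_le_left V h4
  have h4 : F.relIndex V ≠ 0 := index_ne_zero_of_finite
  have h5 := Nat.le_of_dvd (Nat.pos_of_ne_zero h4) h3
  -- it is a power of 2
  obtain ⟨n, hn⟩ := h.isPGroup.index (F.subgroupOf V)
  have h6 : F.relIndex V = 2 ^ n := hn
  have h7 : 2 < 2 ^ n := by omega
  have h8 : 2 ≤ n := by
    by_contra h0
    have : n ≤ 1 := by omega
    have : 2 ^ n ≤ 2 ^ 1 := Nat.pow_le_pow_right (by norm_num) this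
    omega
  have h9 : 2 ^ 2 ≤ 2 ^ n := Nat.pow_le_pow_right (by norm_num) h8
  omega

end Flat

end basic

end Cfsg.Agent.Omega.NO3b.EZero
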