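import Cfsg.Agent.Omega.NO3b.Alpha
import Cfsg.Agent.Omega.NO3b.FPB.Cen

/-!
# NotFF, case ALPHA: the end, without the fixed-point alternative

`Alpha.local_or` together with (CEN) (`FPB/Cen.lean`): if `Lines S J V` and `C_G(Z) ≰ N_G(V)`, `Z = Ω₁(Z(S))`,
then for `F ≥ Z` maximal with `C_G(F) ≰ N_G(V)` and every minimal `X ≤ C_G(F)` over `T = C_S(F)` with `X ≰ N_G(V)`
some nontrivial 2-subgroup is normalised by `N_G(C_S(V))` and `X` (`exists_local`).

* `jj_le_cent` : `J(S)` centralises `V` (`V` is not FF); `V_le_zj` : `V ≤ Ω₁(Z(J(S)))`;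
* `cl_inf_le` : `C_U(T) ≤ Ω₁(Z(T))`, `U = ⟨V^X⟩`;
* `fixed_le` : `C_U(T) ≤ C(O²(X))` or `J(S)` is normalised by `N_G(C_S(V))` and `X`.
-/

set_option autoImplicit false

namespace Cfsg.Agent.Omega.NO3b.AlphaEnd

open Subgroup Cfsg Cfsg.Agent.ZN Cfsg.Agent.ZN.ChoiceBase Cfsg.Agent.ZN.ChoiceSit
open Cfsg.Agent.PLocal.ElemAbSup
open Cfsg.Agent.PLocal.ThompsonJ (isElementaryAbelian_iff isElementaryAbelian_mono)
open Cfsg.Agent.Omega.NO3b.EZero Cfsg.Agent.Omega.NO3b.NoEmp Cfsg.Agent.Omega.NO3b.K0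
open Cfsg.Agent.Omega.NO3b.Alpha
open Cfsg.Agent.Omega.SQ1.Bau (mem_AA_of_comm elem_comm elem_sq card_sup_comm)
open Cfsg.Agent.MinSimple.EmptyTI (syl_of_le)
open Cfsg.Agent.MinSimple.VModule (oddGen)

universe u

variable {G : Type u} [Group G] [Finite G] {S : Sylow 2 G} {J V F T X : Subgroup G}

section lines

variable (h : Lines S J V)
include h

theorem V_elem : IsElementaryAbelian 2 V := isElementaryAbelian_iff.2 ⟨h.mul_comm', h.sq⟩

/-- `A ∈ A(S)` centralises `V` (Thompson's inequality). -/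
theorem AA_cent {A : Subgroup G} (hA : A ∈ AA (S : Subgroup G)) : A ≤ centralizer (V : Set G) := by
  by_contra hne
  have h2 : IsPGroup 2 A := S.isPGroup'.to_le hA.2.1
  have hlt := h.nff A h2 (hA.2.1.trans h.S_le) (fun a ha => by
      rw [elem_sq hA.1 a ha]; exact one_mem _) (fun a ha b hb => by
      have e : a * b * a⁻¹ * b⁻¹ = 1 := by rw [elem_comm hA.1 a ha b hb]; group
      rw [e]; exact one_mem _) hne
  set C := A ⊓ centralizer (V : Set G) with hC
  have hVS := V_le_S h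
  have hc : ∀ a ∈ C, ∀ v ∈ V, a * v = v * a := fun a ha v hv =>
    (mem_centralizer_iff.1 (mem_inf.1 ha).2 v hv).symm
  have h1 : IsElementaryAbelian 2 (C ⊔ V : Subgroup G) :=
    isElementaryAbelian_sup (isElementaryAbelian_mono hA.1 inf_le_left) (V_elem h)
      fun v hv => mem_centralizer_iff.2 fun a ha => hc a ha v hv
  have h3 := hA.2.2 _ h1 (sup_le (inf_le_left.trans hA.2.1) hVS)
  have h4 := card_sup_comm hc
  have h5 : Nat.card ↥(C ⊓ V) ≤ Nat.card ↥(V ⊓ centralizer (A : Set G)) := by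
    refine Subgroup.card_le_of_le ?_
    rintro x ⟨hx1, hx2⟩
    exact ⟨hx2, mem_centralizer_iff.2 fun a ha => elem_comm hA.1 a ha x (mem_inf.1 hx1).1⟩
  have h6 : Nat.card V * Nat.card C ≤ Nat.card A * Nat.card ↥(V ⊓ centralizer (A : Set G)) := by
    calc Nat.card V * Nat.card C = Nat.card ↥(C ⊔ V) * Nat.card ↥(C ⊓ V) := by rw [h4]; ring
      _ ≤ _ := Nat.mul_le_mul h3 h5
  have key : ∀ K L : Subgroup G, Nat.card ↥(K ⊓ L) * L.relIndex K = Nat.card K := by
    intro K L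
    rw [← inf_relIndex_left K L]
    have h7 : Nat.card ↥((K ⊓ L).subgroupOf K) = Nat.card ↥(K ⊓ L) :=
      Nat.card_congr (subgroupOfEquivOfLe inf_le_left).toEquiv
    rw [← h7]
    exact Subgroup.card_mul_index _
  have e1 : Nat.card C * (centralizer (V : Set G)).relIndex A = Nat.card A := key _ _
  have e2 : Nat.card ↥(V ⊓ centralizer (A : Set G)) * (centralizer (A : Set G)).relIndex V =
      Nat.card V := key _ _
  have p1 : 0 < Nat.card C := Nat.card_pos
  have p2 : 0 < Nat.card ↥(V ⊓ centralizer (A : Set G)) := Nat.card_pos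
  set a := (centralizer (V : Set G)).relIndex A
  set b := (centralizer (A : Set G)).relIndex V
  set cC := Nat.card C
  set cI := Nat.card ↥(V ⊓ centralizer (A : Set G))
  rw [← e1, ← e2] at h6
  have h7 : b ≤ a := by
    refine Nat.le_of_mul_le_mul_left ?_ (Nat.mul_pos p1 p2)
    calc cC * cI * b = cI * b * cC := by ring
      _ ≤ cC * a * cI := h6
      _ = cC * cI * a := by ring
  exact absurd hlt (not_lt.2 h7)

/-- **`J(S)` centralises `V`.** -/
theorem jj_le_cent : jj (S : Subgroup G) ≤ centralizer (V : Set G) := by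
  rw [jj_eq]
  exact sSup_le fun A hA => AA_cent h hA

/-- **`V ≤ Ω₁(Z(J(S)))`** -/
theorem V_le_zj : V ≤ zj (S : Subgroup G) := by
  intro v hv
  have hvS := V_le_S h hv
  have hc : ∀ y ∈ jj (S : Subgroup G), y * v = v * y := fun y hy =>
    (mem_centralizer_iff.1 (jj_le_cent h hy) v hv).symm
  obtain ⟨A, hA⟩ := AA_nonempty (S : Subgroup G)
  refine ChoiceBase.mem_zj.2 ⟨le_jj hA (mem_AA_of_comm hA hvS (h.sq v hv) fun a ha => hc a (le_jj hA ha)),
    h.sq v hv, hc⟩

end lines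

section fl

variable (f : Fl S V F T) (h : Lines S J V)
include f h

theorem bau_le_T : bau (S : Subgroup G) ≤ T := by
  rw [← f.T_eq]
  intro b hb
  obtain ⟨h1, h2⟩ := mem_bau.1 hb
  exact ⟨h1, mem_centralizer_iff.2 fun y hy => h2 y (V_le_zj h (f.le hy))⟩

/-- `C_X(O₂(X)) ≤ O₂(X)` -/
theorem char2_X (hG : IsCharacteristicTwoType G) (p : Par V F T X) :
    X ⊓ centralizer (o2 X : Set G) ≤ o2 X := by
  have hc := h.char2 hG F f.le f.ne
  set C := centralizer (F : Set G) with hC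
  have h1 : o2 C ≤ o2 X := by
    have h2 : o2 C ≤ X := (o2_le_syl f.syl).trans p.T_le
    exact ZN.le_o2 h2 (ZN.isPGroup_o2 C) (p.le.trans (ZN.le_normalizer_o2 C))
  intro x hx
  obtain ⟨hxX, hxc⟩ := mem_inf.1 hx
  have h3 : x ∈ o2 C := hc ⟨p.le hxX, centralizer_le h1 hxc⟩
  exact h1 h3

/-- `U = ⟨V^X⟩` is elementary abelian. -/
theorem U_elem (hG : IsCharacteristicTwoType G) (p : Par V F T X) : IsElementaryAbelian 2 (cl V X) := by
  have hcc : ∀ x ∈ X, ∀ y ∈ X, cj x V ≤ centralizer ((cj y V : Subgroup G) : Set G) := by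
    intro x hx y hy
    refine h.comm_of_inter (h.char2 hG) fun h0 => f.ne ?_
    have hF : ∀ x ∈ X, F ≤ cj x V := fun x hx => by
      have h1 := cj_mono x f.le
      rwa [cj_eq_of_mem_normalizer (centralizer_le_normalizer _ (p.le hx))] at h1
    exact le_bot_iff.1 (h0 ▸ le_inf (hF x hx) (hF y hy))
  have hUc : cl V X ≤ centralizer ((cl V X : Subgroup G) : Set G) := by
    refine cl_le fun x hx => ?_
    rw [le_centralizer_iff]
    refine cl_le fun y hy => ?_
    exact hcc y hy x hx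
  have hcomm : ∀ a ∈ cl V X, ∀ b ∈ cl V X, a * b = b * a := fun a ha b hb =>
    (mem_centralizer_iff.1 (hUc ha) b hb).symm
  let K : Subgroup G :=
    { carrier := {x | x ∈ cl V X ∧ x ^ 2 = 1}
      mul_mem' := by
        rintro a b ⟨ha, ha2⟩ ⟨hb, hb2⟩
        refine ⟨mul_mem ha hb, ?_⟩
        rw [(show Commute a b from hcomm a ha b hb).mul_pow, ha2, hb2, one_mul]
      one_mem' := ⟨one_mem _, one_pow 2⟩
      inv_mem' := by
        rintro a ⟨ha, ha2⟩
        exact ⟨inv_mem ha, by rw [inv_pow, ha2, inv_one]⟩ }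
  have hK : cl V X ≤ K := by
    refine cl_le fun x hx => ?_
    intro v hv
    exact ⟨cj_le_cl hx hv, h.cj_sq x v hv⟩
  exact isElementaryAbelian_iff.2 ⟨hcomm, fun x hx => (hK hx).2⟩

theorem U_le_T (hG : IsCharacteristicTwoType G) (p : Par V F T X) : cl V X ≤ T := by
  have hVX : V ≤ X := ((V_le_Q0 h).trans f.Q0_le).trans p.T_le
  have hUX : cl V X ≤ X := cl_le fun x hx => by
    have h1 := cj_mono x hVX
    rwa [cj_eq_of_mem_normalizer (Subgroup.le_normalizer hx)] at h1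
  have hn : X ≤ normalizer ((cl V X : Subgroup G) : Set G) := fun x hx =>
    mem_normalizer_iff_cj.2 (cj_cl hx)
  have h2 : IsPGroup 2 (cl V X) := pgroup_of_sq fun x hx => elem_sq (U_elem f h hG p) x hx
  exact (ZN.le_o2 hUX h2 hn).trans (o2_le_syl (f.sylX p))

/-- `C_U(T) ≤ Ω₁(Z(T))` -/
theorem cl_inf_le (hG : IsCharacteristicTwoType G) (p : Par V F T X) :
    cl V X ⊓ centralizer (T : Set G) ≤ zc T := by
  rintro x ⟨hx, hxc⟩
  exact ChoiceBase.mem_zc.2 ⟨U_le_T f h hG p hx, elem_sq (U_elem f h hG p) x hx,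
    fun t ht => mem_centralizer_iff.1 hxc t ht⟩

/-- If `J(S) ≤ O₂(X)`, then `J(S)` is normalised by `N_G(C_S(V))` and `X`. -/
theorem local_of_jj (hne : (S : Subgroup G) ≠ ⊥) (hJ : jj (S : Subgroup G) ≤ o2 X) (p : Par V F T X) :
    ∃ R : Subgroup G, R ≠ ⊥ ∧ IsPGroup 2 R ∧
      normalizer (((S : Subgroup G) ⊓ centralizer (V : Set G) : Subgroup G) : Set G) ≤
        normalizer (R : Set G) ∧ X ≤ normalizer (R : Set G) := by
  refine ⟨jj (S : Subgroup G), ?_, S.isPGroup'.to_le (ZN.jj_le _), ?_, ?_⟩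
  · intro h0
    have h1 := MinSimple.Basic.zc_ne_bot S.isPGroup' hne
    apply h1
    have h2 := (h.ZV.trans (V_le_zj h))
    exact le_bot_iff.1 ((h2.trans fun x hx => (ChoiceBase.mem_zj.1 hx).1).trans h0.le)
  · have h1 : jj (S : Subgroup G) ≤ (S : Subgroup G) ⊓ centralizer (V : Set G) :=
      le_inf (ZN.jj_le _) (jj_le_cent h)
    rw [← jj_eq_of_jj_le h1 inf_le_left]
    exact normalizer_le_of_cj (F := fun K => jj K) jj_cj _
  · have h1 : o2 X ≤ (S : Subgroup G) := (o2_le_syl (f.sylX p)).trans f.T_le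
    rw [← jj_eq_of_jj_le hJ h1]
    exact (ZN.le_normalizer_o2 X).trans (normalizer_le_of_cj (F := fun K => jj K) jj_cj _)

/-- **(CEN) in case ALPHA.** -/
theorem fixed_le (hFF : FFThm.Stmt.{u}) (hG : IsCharacteristicTwoType G)
    (hZF : zc (S : Subgroup G) ≤ F) (p : Par V F T X) (hJ : ¬ jj (S : Subgroup G) ≤ o2 X) :
    cl V X ⊓ centralizer (T : Set G) ≤ centralizer (oddGen X : Set G) :=
  (cl_inf_le f h hG p).trans (FPB.Cen.cen_zc hFF hG S (bau_le_T f h) (f.sylX p) (f.isMinPar h p)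
    (char2_X f h hG p) (p.le.trans (centralizer_le hZF)) hJ)

/-- **ALPHA, the end** for a given `X`. -/
theorem exists_loc (hA : FFBr.AStmt.{u}) (hFF : FFThm.Stmt.{u}) (hG : IsCharacteristicTwoType G)
    (hZF : zc (S : Subgroup G) ≤ F) (p : Par V F T X) :
    ∃ R : Subgroup G, R ≠ ⊥ ∧ IsPGroup 2 R ∧
      normalizer (((S : Subgroup G) ⊓ centralizer (V : Set G) : Subgroup G) : Set G) ≤
        normalizer (R : Set G) ∧ X ≤ normalizer (R : Set G) := by
  by_cases hJ : jj (S : Subgroup G) ≤ o2 X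
  · refine local_of_jj f h (fun h0 => f.nle ?_) hJ p
    have h1 : V = ⊥ := le_bot_iff.1 ((V_le_S h).trans h0.le)
    rw [h1]
    intro x _
    rw [mem_normalizer_iff_cj]
    exact Subgroup.map_bot _
  · exact (f.local_or h hA p fun g hg => Alpha.ti hG h g hg).resolve_right
      fun hcon => hcon (fixed_le f h hFF hG hZF p hJ)

end fl

/-- **ALPHA, the end**: if `C_G(Z) ≰ N_G(V)`, then for `F ≥ Z` maximal in `V` with `C_G(F) ≰ N_G(V)` and every
minimal `X ≤ C_G(F)` over `T = C_S(F)` with `X ≰ N_G(V)`, `⟨N_G(C_S(V)), X⟩` is 2-local. -/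
theorem exists_local (hA : FFBr.AStmt.{u}) (hFF : FFThm.Stmt.{u}) (hG : IsCharacteristicTwoType G)
    (h : Lines S J V)
    (hnz : ¬ centralizer (zc (S : Subgroup G) : Set G) ≤ normalizer (V : Set G)) :
    ∃ F T, Fl S V F T ∧ zc (S : Subgroup G) ≤ F ∧ (∃ X, Par V F T X) ∧ ∀ X, Par V F T X →
      ∃ R : Subgroup G, R ≠ ⊥ ∧ IsPGroup 2 R ∧
        normalizer (((S : Subgroup G) ⊓ centralizer (V : Set G) : Subgroup G) : Set G) ≤
          normalizer (R : Set G) ∧ X ≤ normalizer (R : Set G) := by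
  obtain ⟨F, T, f, hZ⟩ := exists_fl_zc h hnz
  exact ⟨F, T, f, hZ, f.exists_par, fun X p => exists_loc f h hA hFF hG hZ p⟩

end Cfsg.Agent.Omega.NO3b.AlphaEnd
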