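import Cfsg.Agent.Omega.NO3b.EZeroBase
import Cfsg.Agent.Involutions.BaerSuzuki
import Cfsg.Agent.Omega.NOne.LemmaT
import Mathlib.GroupTheory.FiniteAbelian.Duality
import Mathlib.RingTheory.RootsOfUnity.AlgebraicallyClosed
import Mathlib.Analysis.Complex.Polynomial.Basic

/-!
# THEOREM TI (helper58 #15611): two lines which meet nontrivially commute, without EMP

It replaces part (a) of #14224 (helper265). `V` is not FF; `J ≤ C_S(V)` weakly closed in `S`; the lines are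
the conjugates of `V`.

* `relIndex_le_of_pairing` : a character of `V ∩ U` gives `|V : C_V(U)| ≤ |U : C_U(V)|`;
* `le_o2_of` : the engine;
* `Lines S J V`, `Lines.comm_of_inter` : THEOREM TI; `Lines.le_o2`, `Lines.comm_of_mem` : COROLLARY (*).
-/

set_option autoImplicit false

namespace Cfsg.Agent.Omega.NO3b.NoEmp

open Subgroup Cfsg Cfsg.Agent.ZN.ChoiceBase Cfsg.Agent.ZN.ChoiceSit
open Cfsg.Agent.ZN (o2 zc zl zj jj)
open Cfsg.Agent.MinSimple.EmptyTI (syl_of_le)
open Cfsg.Agent.Omega.NO3b.EZero (NotFF comm_of_norm cent_symm cj_cent cj_norm cj_eq_cj_iff mem_cj_self)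
open scoped commutatorElement

universe u

variable {G : Type u} [Group G]

theorem norm_iff {g x : G} {N : Subgroup G} (hg : g ∈ normalizer (N : Set G)) (hx : x ∈ N) :
    g * x * g⁻¹ ∈ N := (mem_normalizer_iff.1 hg x).1 hx

theorem norm_iff' {g x : G} {N : Subgroup G} (hg : g ∈ normalizer (N : Set G)) (hx : x ∈ N) :
    g⁻¹ * x * g ∈ N := by
  have h1 := norm_iff (inv_mem hg) hx
  rwa [inv_inv] at h1

theorem comm_mem {U V : Subgroup G} (hUV : U ≤ normalizer (V : Set G)) (hVU : V ≤ normalizer (U : Set G))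
    {v u : G} (hv : v ∈ V) (hu : u ∈ U) : ⁅v, u⁆ ∈ V ⊓ U := by
  refine ⟨?_, ?_⟩
  · have e : ⁅v, u⁆ = v * (u * v⁻¹ * u⁻¹) := by simp only [commutatorElement_def]; group
    rw [e]; exact V.mul_mem hv (norm_iff (hUV hu) (V.inv_mem hv))
  · rw [commutatorElement_def]
    exact U.mul_mem (norm_iff (hVU hv) hu) (U.inv_mem hu)

/-- A character `ψ` of `V ∩ U` which detects the action of `V` on `U` gives
`|V : C_V(U)| ≤ |U : C_U(V)|`. -/
theorem relIndex_le_of_pairing [Finite G] {U V : Subgroup G}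
    (hU : ∀ a ∈ U, ∀ b ∈ U, a * b = b * a) (hV : ∀ a ∈ V, ∀ b ∈ V, a * b = b * a)
    (hUV : U ≤ normalizer (V : Set G)) (hVU : V ≤ normalizer (U : Set G))
    (ψ : (V ⊓ U : Subgroup G) →* ℂˣ)
    (h : ∀ (v : G) (hv : v ∈ V), (∀ (u : G) (hu : u ∈ U), ψ ⟨⁅v, u⁆, comm_mem hUV hVU hv hu⟩ = 1) →
      v ∈ centralizer (U : Set G)) :
    (centralizer (U : Set G)).relIndex V ≤ (centralizer (V : Set G)).relIndex U := by
  let _ : CommGroup U := { (inferInstance : Group U) with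
    mul_comm := fun a b => Subtype.ext (hU a a.2 b b.2) }
  set N : Subgroup U := (centralizer (V : Set G)).subgroupOf U with hN
  -- the pairing
  let F0 : V → (U →* ℂˣ) := fun v =>
    { toFun := fun u => ψ ⟨⁅(v : G), (u : G)⁆, comm_mem hUV hVU v.2 u.2⟩
      map_one' := by
        have e : (⟨⁅(v : G), ((1 : U) : G)⁆, comm_mem hUV hVU v.2 (1 : U).2⟩ : (V ⊓ U : Subgroup G)) = 1 :=
          Subtype.ext (by simp)
        rw [e, map_one]
      map_mul' := fun a b => by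
        rw [← map_mul]
        congr 1
        refine Subtype.ext ?_
        have h1 : ⁅(v : G), (b : G)⁆ ∈ U := (comm_mem hUV hVU v.2 b.2).2
        have h2 := hU a a.2 _ h1
        change ⁅(v : G), ((a : G) * (b : G))⁆ = ⁅(v : G), (a : G)⁆ * ⁅(v : G), (b : G)⁆
        have e : ⁅(v : G), ((a : G) * (b : G))⁆ =
            ⁅(v : G), (a : G)⁆ * ((a : G) * ⁅(v : G), (b : G)⁆ * (a : G)⁻¹) := by
          simp only [commutatorElement_def]; group
        rw [e, h2, mul_inv_cancel_right] }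
  have hF0N : ∀ v : V, ∀ u ∈ N, F0 v u = 1 := by
    intro v u hu
    have h1 : (u : G) ∈ centralizer (V : Set G) := hu
    have h2 := mem_centralizer_iff.1 h1 v v.2
    have e : (⟨⁅(v : G), (u : G)⁆, comm_mem hUV hVU v.2 u.2⟩ : (V ⊓ U : Subgroup G)) = 1 := by
      refine Subtype.ext ?_
      change ⁅(v : G), (u : G)⁆ = 1
      rw [commutatorElement_eq_one_iff_mul_comm]; exact h2
    change ψ _ = 1
    rw [e, map_one]
  let F : V →* ((U ⧸ N) →* ℂˣ) :=
    { toFun := fun v => QuotientGroup.lift N (F0 v) (hF0N v)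
      map_one' := by
        ext u
        change ((F0 1 u : ℂˣ) : ℂ) = 1
        have e : (⟨⁅((1 : V) : G), (u : G)⁆, comm_mem hUV hVU (1 : V).2 u.2⟩ : (V ⊓ U : Subgroup G)) = 1 :=
          Subtype.ext (by simp)
        change ((ψ _ : ℂˣ) : ℂ) = 1
        rw [e, map_one]; rfl
      map_mul' := fun a b => by
        ext u
        change ((F0 (a * b) u : ℂˣ) : ℂ) = ((F0 a u * F0 b u : ℂˣ) : ℂ)
        congr 1
        change ψ _ = ψ _ * ψ _
        rw [← map_mul]
        congr 1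
        refine Subtype.ext ?_
        have h1 : ⁅(b : G), (u : G)⁆ ∈ V := (comm_mem hUV hVU b.2 u.2).1
        have h1' : ⁅(a : G), (u : G)⁆ ∈ V := (comm_mem hUV hVU a.2 u.2).1
        have h2 := hV a a.2 _ h1
        change ⁅((a : G) * (b : G)), (u : G)⁆ = ⁅(a : G), (u : G)⁆ * ⁅(b : G), (u : G)⁆
        have e : ⁅((a : G) * (b : G)), (u : G)⁆ =
            ((a : G) * ⁅(b : G), (u : G)⁆ * (a : G)⁻¹) * ⁅(a : G), (u : G)⁆ := by
          simp only [commutatorElement_def]; group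
        rw [e, h2, mul_inv_cancel_right, hV _ h1 _ h1'] }
  have hker : F.ker ≤ (centralizer (U : Set G)).subgroupOf V := by
    intro v hv
    rw [MonoidHom.mem_ker] at hv
    refine h v v.2 fun u hu => ?_
    have h1 := congrArg (fun f : (U ⧸ N) →* ℂˣ => f (QuotientGroup.mk (⟨u, hu⟩ : U))) hv
    exact h1
  have hfin : Finite ((U ⧸ N) →* ℂˣ) := by
    have h1 : Nat.card ((U ⧸ N) →* ℂˣ) = Nat.card (U ⧸ N) :=
      CommGroup.card_monoidHom_of_hasEnoughRootsOfUnity (U ⧸ N) ℂ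
    exact Nat.finite_of_card_ne_zero (by rw [h1]; exact Nat.card_pos.ne')
  calc (centralizer (U : Set G)).relIndex V = ((centralizer (U : Set G)).subgroupOf V).index := rfl
    _ ≤ F.ker.index := Nat.le_of_dvd (Nat.pos_of_ne_zero Subgroup.index_ne_zero_of_finite)
        (Subgroup.index_dvd_of_le hker)
    _ = Nat.card F.range := Subgroup.index_ker F
    _ ≤ Nat.card ((U ⧸ N) →* ℂˣ) := Subgroup.card_le_card_group _
    _ = Nat.card (U ⧸ N) := CommGroup.card_monoidHom_of_hasEnoughRootsOfUnity (U ⧸ N) ℂ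
    _ = (centralizer (V : Set G)).relIndex U := rfl

theorem pgroup_of_sq {X : Subgroup G} (hX : ∀ x ∈ X, x ^ 2 = 1) : IsPGroup 2 X := fun x =>
  ⟨1, Subtype.ext (by simpa using hX x x.2)⟩

/-- (iii): a pair of conjugates of `V` in `X` which do not commute, swapped by `v ∈ V - O₂(X)`. -/
theorem exists_swap [Finite G] {X V : Subgroup G} (hVX : V ≤ X) (hV2 : ∀ a ∈ V, a ^ 2 = 1) {v : G}
    (hv : v ∈ V) (hvo : v ∉ o2 X) :
    ∃ g ∈ X, ¬ cj g V ≤ centralizer ((cj (v * g) V : Subgroup G) : Set G) := by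
  have : Fact (Nat.Prime 2) := ⟨Nat.prime_two⟩
  by_contra hcon
  push Not at hcon
  apply hvo
  refine ⟨⟨v, hVX hv⟩, ?_, rfl⟩
  refine Cfsg.Agent.Involutions.BaerSuzuki.mem_pCore_of_conj_pairs (p := 2) (⟨v, hVX hv⟩ : X) fun g => ?_
  have hc := hcon g g.2
  have hp : ∀ a : G, IsPGroup 2 (cj a V : Subgroup G) := fun a => isPGroup_cj a (pgroup_of_sq hV2)
  have hW : IsPGroup 2 (cj (g : G) V ⊔ cj (v * g) V : Subgroup G) :=
    IsPGroup.to_sup_of_normal_right' (hp _) (hp _) (hc.trans (centralizer_le_normalizer _))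
  have hvv : v * v = 1 := by rw [← pow_two]; exact hV2 v hv
  have hvW : zpowers v ≤ normalizer ((cj (g : G) V ⊔ cj (v * g) V : Subgroup G) : Set G) := by
    rw [zpowers_le, mem_normalizer_iff_cj]
    change Subgroup.map _ _ = _
    rw [Subgroup.map_sup]
    change cj v (cj (g : G) V) ⊔ cj v (cj (v * g) V) = _
    rw [cj_cj, cj_cj, ← mul_assoc, hvv, one_mul, sup_comm]
  have hz : IsPGroup 2 (zpowers v) := (pgroup_of_sq hV2).to_le (by rw [zpowers_le]; exact hv)
  have hall : IsPGroup 2 (zpowers v ⊔ (cj (g : G) V ⊔ cj (v * g) V) : Subgroup G) :=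
    IsPGroup.to_sup_of_normal_right' hz hW hvW
  have hmap : IsPGroup 2 ((Subgroup.closure {(⟨v, hVX hv⟩ : X), g * ⟨v, hVX hv⟩ * g⁻¹}).map X.subtype) := by
    refine hall.to_le ?_
    rw [MonoidHom.map_closure, Set.image_pair, Subgroup.closure_le]
    intro x hx
    rcases hx with hx | hx
    · rw [hx]
      exact mem_sup_left (mem_zpowers v)
    · rw [Set.mem_singleton_iff] at hx
      rw [hx]
      exact mem_sup_right (mem_sup_left (mem_cj_self hv))
  have h1 := hmap.comap_of_injective _ X.subtype_injective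
  rwa [Subgroup.comap_map_eq_self_of_injective X.subtype_injective] at h1

/-- (iv): `[U, v] D = V ∩ U`. -/
theorem surj_of [Finite G] {X V D U : Subgroup G} (hVX : V ≤ X)
    (hUc : ∀ a ∈ U, ∀ b ∈ U, a * b = b * a) (hXU : X ≤ normalizer (U : Set G))
    (hUV : U ≤ normalizer (V : Set G)) (hDV : D ≤ V) (hDU : D ≤ U) (hDX : X ≤ centralizer (D : Set G))
    {v g : G} (hv : v ∈ V) (hg : g ∈ X) (hTI : cj g V ⊓ cj (v * g) V ≤ D) {b : G} (hb : b ∈ V ⊓ U) :
    ∃ u ∈ U, ∃ d ∈ D, ⁅v, u⁆ * d = b := by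
  have hVU : V ≤ normalizer (U : Set G) := hVX.trans hXU
  have hDg : D ≤ cj g V := by
    intro d hd
    rw [mem_cj]
    have h1 := mem_centralizer_iff.1 (hDX hg) d hd
    have e : g⁻¹ * d * g = d := by rw [mul_assoc, h1, ← mul_assoc, inv_mul_cancel, one_mul]
    rw [e]; exact hDV hd
  set A : Subgroup G := cj g V ⊓ U with hA
  set B : Subgroup G := V ⊓ U with hB
  have hDA : D ≤ A := le_inf hDg hDU
  have hDB : D ≤ B := le_inf hDV hDU
  have hcard : Nat.card A = Nat.card B := by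
    have h1 : cj g B = A := by
      rw [hB, cj_inf, mem_normalizer_iff_cj.1 (hXU hg)]
    rw [← h1, card_cj]
  have hBn : (D.subgroupOf B).Normal := by
    refine ⟨fun n hn x => ?_⟩
    have h1 : (x * n * x⁻¹ : B) = n := by
      refine Subtype.ext ?_
      change (x : G) * n * (x : G)⁻¹ = n
      rw [hUc _ x.2.2 _ n.2.2, mul_inv_cancel_right]
    rw [h1]; exact hn
  let f0 : A →* B :=
    { toFun := fun a => ⟨⁅v, (a : G)⁆, comm_mem hUV hVU hv a.2.2⟩
      map_one' := Subtype.ext (by simp)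
      map_mul' := fun a c => by
        refine Subtype.ext ?_
        have h1 : ⁅v, (c : G)⁆ ∈ U := (comm_mem hUV hVU hv c.2.2).2
        have h2 := hUc a a.2.2 _ h1
        change ⁅v, ((a : G) * (c : G))⁆ = ⁅v, (a : G)⁆ * ⁅v, (c : G)⁆
        have e : ⁅v, ((a : G) * (c : G))⁆ = ⁅v, (a : G)⁆ * ((a : G) * ⁅v, (c : G)⁆ * (a : G)⁻¹) := by
          simp only [commutatorElement_def]; group
        rw [e, h2, mul_inv_cancel_right] }
  let f : A →* B ⧸ (D.subgroupOf B) := (QuotientGroup.mk' _).comp f0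
  have hker : f.ker = D.subgroupOf A := by
    ext a
    rw [MonoidHom.mem_ker]
    change (QuotientGroup.mk (f0 a) : B ⧸ (D.subgroupOf B)) = 1 ↔ _
    rw [QuotientGroup.eq_one_iff, mem_subgroupOf, mem_subgroupOf]
    change ⁅v, (a : G)⁆ ∈ D ↔ (a : G) ∈ D
    constructor
    · intro h1
      have e1 : v * (a : G) * v⁻¹ = ⁅v, (a : G)⁆ * a := by
        simp only [commutatorElement_def]; group
      have h2 : v * (a : G) * v⁻¹ ∈ cj g V := by
        rw [e1]; exact mul_mem (hDg h1) a.2.1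
      have h3 : v * (a : G) * v⁻¹ ∈ cj (v * g) V := by
        rw [← cj_cj]; exact mem_cj_self a.2.1
      have h4 := hTI ⟨h2, h3⟩
      have h5 := mem_centralizer_iff.1 (hDX (hVX hv)) _ h4
      have e2 : (a : G) = v⁻¹ * (v * (a : G) * v⁻¹ * v) := by group
      rw [e2, h5, inv_mul_cancel_left]
      exact h4
    · intro h1
      have h5 := mem_centralizer_iff.1 (hDX (hVX hv)) _ h1
      have e : ⁅v, (a : G)⁆ = 1 := by
        rw [commutatorElement_eq_one_iff_mul_comm]; exact h5.symm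
      rw [e]; exact one_mem _
  have htop : f.range = ⊤ := by
    apply Subgroup.eq_top_of_card_eq
    rw [← Subgroup.index_ker, hker]
    have e1 := (D.subgroupOf A).card_mul_index
    have e2 := (D.subgroupOf B).card_mul_index
    have e3 : Nat.card (D.subgroupOf A) = Nat.card D := Nat.card_congr (subgroupOfEquivOfLe hDA).toEquiv
    have e4 : Nat.card (D.subgroupOf B) = Nat.card D := Nat.card_congr (subgroupOfEquivOfLe hDB).toEquiv
    rw [e3] at e1
    rw [e4] at e2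
    change _ = (D.subgroupOf B).index
    refine Nat.eq_of_mul_eq_mul_left (Nat.card_pos (α := D)) ?_
    rw [e1, e2, hcard]
  have h1 : (QuotientGroup.mk (⟨b, hb⟩ : B) : B ⧸ (D.subgroupOf B)) ∈ f.range := htop ▸ mem_top _
  obtain ⟨a, ha⟩ := h1
  have h2 : (f0 a)⁻¹ * ⟨b, hb⟩ ∈ D.subgroupOf B := QuotientGroup.eq.1 ha
  refine ⟨a, a.2.2, _, h2, ?_⟩
  change ⁅v, (a : G)⁆ * ((⁅v, (a : G)⁆)⁻¹ * b) = b
  rw [mul_inv_cancel_left]

/-- **The engine** (steps (iii)-(v)). -/
theorem le_o2_of [Finite G] {X V D U : Subgroup G} (hVX : V ≤ X)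
    (hVc : ∀ a ∈ V, ∀ b ∈ V, a * b = b * a) (hV2 : ∀ a ∈ V, a ^ 2 = 1)
    (hUc : ∀ a ∈ U, ∀ b ∈ U, a * b = b * a) (hU2 : ∀ a ∈ U, a ^ 2 = 1)
    (hXU : X ≤ normalizer (U : Set G)) (hUV : U ≤ normalizer (V : Set G))
    (hDV : D ≤ V) (hDU : D ≤ U) (hDX : X ≤ centralizer (D : Set G)) (hne : ¬ V ⊓ U ≤ D)
    (hV0 : V ⊓ o2 X ≤ centralizer (U : Set G)) (hnff : NotFF V)
    (hTI : ∀ a ∈ X, ∀ b ∈ X, ¬ cj a V ≤ centralizer ((cj b V : Subgroup G) : Set G) →
      cj a V ⊓ cj b V ≤ D) : V ≤ o2 X := by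
  have hVU : V ≤ normalizer (U : Set G) := hVX.trans hXU
  by_contra hcon
  obtain ⟨v₁, hv₁, hv₁o⟩ := SetLike.not_le_iff_exists.1 hcon
  obtain ⟨b, hb, hbD⟩ := SetLike.not_le_iff_exists.1 hne
  have key : ∀ v ∈ V, v ∉ o2 X → ∃ u ∈ U, ∃ d ∈ D, ⁅v, u⁆ * d = b := by
    intro v hv hvo
    obtain ⟨g, hg, hgn⟩ := exists_swap hVX hV2 hv hvo
    exact surj_of hVX hUc hXU hUV hDV hDU hDX hv hg (hTI g hg (v * g) (mul_mem (hVX hv) hg) hgn) hb
  -- the character
  let _ : CommGroup (V ⊓ U : Subgroup G) := { (inferInstance : Group (V ⊓ U : Subgroup G)) with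
    mul_comm := fun a b => Subtype.ext (hVc a a.2.1 b b.2.1) }
  obtain ⟨χ, hχ⟩ := CommGroup.exists_apply_ne_one_of_hasEnoughRootsOfUnity
    ((V ⊓ U : Subgroup G) ⧸ (D.subgroupOf (V ⊓ U))) ℂ (a := QuotientGroup.mk (⟨b, hb⟩ : (V ⊓ U : Subgroup G)))
    (by
      intro h0
      rw [QuotientGroup.eq_one_iff] at h0
      exact hbD h0)
  let ψ : (V ⊓ U : Subgroup G) →* ℂˣ := χ.comp (QuotientGroup.mk' _)
  have hψD : ∀ (d : G) (hd : d ∈ D), ψ ⟨d, hDV hd, hDU hd⟩ = 1 := by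
    intro d hd
    change χ (QuotientGroup.mk _) = 1
    have e : (QuotientGroup.mk (⟨d, hDV hd, hDU hd⟩ : (V ⊓ U : Subgroup G)) :
        (V ⊓ U : Subgroup G) ⧸ (D.subgroupOf (V ⊓ U))) = 1 := by
      rw [QuotientGroup.eq_one_iff]; exact hd
    rw [e, map_one]
  have hψb : ψ ⟨b, hb⟩ ≠ 1 := hχ
  have h1 := relIndex_le_of_pairing hUc hVc hUV hVU ψ (by
    intro v hv hall
    by_cases hvo : v ∈ o2 X
    · exact hV0 ⟨hv, hvo⟩
    · exfalso
      obtain ⟨u, hu, d, hd, hudb⟩ := key v hv hvo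
      apply hψb
      have e : (⟨b, hb⟩ : (V ⊓ U : Subgroup G)) =
          ⟨⁅v, u⁆, comm_mem hUV hVU hv hu⟩ * ⟨d, hDV hd, hDU hd⟩ := Subtype.ext hudb.symm
      rw [e, map_mul, hall u hu, hψD d hd, one_mul])
  have h2 := hnff U (pgroup_of_sq hU2) hUV (fun a ha => by rw [hU2 a ha]; exact one_mem _)
    (fun a ha c hc => by
      rw [hUc a ha c hc, mul_inv_cancel_right, mul_inv_cancel]; exact one_mem _) (by
    intro h0
    obtain ⟨u, hu, d, hd, hudb⟩ := key v₁ hv₁ hv₁o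
    apply hbD
    have h3 := mem_centralizer_iff.1 (h0 hu) v₁ hv₁
    have e : ⁅v₁, u⁆ = 1 := by
      rw [commutatorElement_eq_one_iff_mul_comm]; exact h3
    rw [← hudb, e, one_mul]
    exact hd)
  exact absurd h1 (not_le.2 h2)

/-! ### Lines -/

/-- `V` is not FF, `J ≤ C_S(V)` is weakly closed in `S`, `N_G(J) ≤ N_G(V)`, `Ω₁(Z(S)) ≤ V ≤ O₂(C_G(Ω₁(Z(S))))`.
The lines are the conjugates of `V`. -/
structure Lines [Finite G] (S : Sylow 2 G) (J V : Subgroup G) : Prop where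
  JS : J ≤ (S : Subgroup G)
  wc : ∀ g : G, cj g J ≤ (S : Subgroup G) → cj g J = J
  NJ : normalizer (J : Set G) ≤ normalizer (V : Set G)
  JV : J ≤ centralizer (V : Set G)
  comm : V ≤ centralizer (V : Set G)
  sq : ∀ v ∈ V, v ^ 2 = 1
  ZV : zc (S : Subgroup G) ≤ V
  nff : NotFF V
  low : V ≤ o2 (centralizer (zc (S : Subgroup G) : Set G))

namespace Lines

variable [Finite G] {S : Sylow 2 G} {J V : Subgroup G} (h : Lines S J V)
include h

theorem S_le_NJ : (S : Subgroup G) ≤ normalizer (J : Set G) := by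
  intro s hs
  rw [mem_normalizer_iff_cj]
  refine h.wc s ?_
  have h1 := cj_mono s h.JS
  rwa [cj_eq_of_mem_normalizer (Subgroup.le_normalizer hs)] at h1

theorem S_le : (S : Subgroup G) ≤ normalizer (V : Set G) := h.S_le_NJ.trans h.NJ

theorem mul_comm' : ∀ a ∈ V, ∀ b ∈ V, a * b = b * a := fun _ ha b hb =>
  ((mem_centralizer_iff.1 (h.comm ha)) b hb).symm

theorem cj_comm (g : G) : cj g V ≤ centralizer ((cj g V : Subgroup G) : Set G) := cj_cent h.comm

theorem cj_sq (g : G) : ∀ v ∈ cj g V, v ^ 2 = 1 := by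
  intro v hv
  have h1 := h.sq _ (mem_cj.1 hv)
  have e : v ^ 2 = g * (g⁻¹ * v * g) ^ 2 * g⁻¹ := by rw [pow_two, pow_two]; group
  rw [e, h1]; group

/-- Two lines which normalise each other commute. -/
theorem comm_lines {a b : G} (h1 : cj a V ≤ normalizer ((cj b V : Subgroup G) : Set G))
    (h2 : cj b V ≤ normalizer ((cj a V : Subgroup G) : Set G)) :
    cj a V ≤ centralizer ((cj b V : Subgroup G) : Set G) :=
  comm_of_norm (h.nff.cj a) (h.nff.cj b) (h.cj_sq a) (h.cj_sq b) (h.cj_comm a) (h.cj_comm b) h1 h2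

/-- Sylow control: a 2-group `T ≥ J^a` lies in a Sylow 2-subgroup `S^l` with `J^l = J^a`, `V^l = V^a`. -/
theorem exists_point {T : Subgroup G} (hT : IsPGroup 2 T) {a : G} (ha : cj a J ≤ T) :
    ∃ l : G, T ≤ cj l (S : Subgroup G) ∧ cj l J = cj a J ∧ cj l V = cj a V := by
  obtain ⟨S', hS'⟩ := hT.exists_le_sylow
  obtain ⟨l, hl⟩ := MulAction.exists_smul_eq G S S'
  have hl2 : (S' : Subgroup G) = cj l (S : Subgroup G) := by
    rw [← hl, Sylow.coe_subgroup_smul]; rfl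
  rw [hl2] at hS'
  have h1 : cj (l⁻¹ * a) J ≤ (S : Subgroup G) := by
    have h2 := cj_mono l⁻¹ (ha.trans hS')
    rwa [cj_cj, cj_inv_cj] at h2
  have h2 := h.wc _ h1
  have h3 : l⁻¹ * a ∈ normalizer (J : Set G) := mem_normalizer_iff_cj.2 h2
  have h4 := h.NJ h3
  exact ⟨l, hS', (cj_eq_cj_iff.2 h3).symm, (cj_eq_cj_iff.2 h4).symm⟩

theorem le_norm_of {T : Subgroup G} (hT : IsPGroup 2 T) {a : G} (ha : cj a J ≤ T) :
    T ≤ normalizer ((cj a V : Subgroup G) : Set G) := by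
  obtain ⟨l, h1, -, h3⟩ := h.exists_point hT ha
  rw [← h3]
  exact h1.trans (cj_norm h.S_le)

/-- Two lines whose `J`'s lie in `X` are conjugate in `X`. -/
theorem exists_conj {X : Subgroup G} {a b : G} (ha : cj a J ≤ X) (hb : cj b J ≤ X) :
    ∃ x ∈ X, cj x (cj a V) = cj b V := by
  have hJ2 : IsPGroup 2 J := S.isPGroup'.to_le h.JS
  obtain ⟨T₁, hT₁, h1⟩ := exists_syl (isPGroup_cj a hJ2) ha
  obtain ⟨T₂, hT₂, h2⟩ := exists_syl (isPGroup_cj b hJ2) hb
  obtain ⟨x, hx, hxT⟩ := syl_conj hT₁ hT₂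
  obtain ⟨l, hl, hlJ, hlV⟩ := h.exists_point hT₂.2.1 h2
  have h3 : cj (x * a) J ≤ T₂ := by
    rw [← cj_cj, ← hxT]; exact cj_mono x h1
  have h4 : cj (l⁻¹ * (x * a)) J ≤ (S : Subgroup G) := by
    have h5 := cj_mono l⁻¹ (h3.trans hl)
    rwa [cj_cj, cj_inv_cj] at h5
  have h6 : l⁻¹ * (x * a) ∈ normalizer (V : Set G) := h.NJ (mem_normalizer_iff_cj.2 (h.wc _ h4))
  refine ⟨x, hx, ?_⟩
  rw [cj_cj, cj_eq_cj_iff.2 h6, hlV]

theorem o2_le_norm {X : Subgroup G} {a x : G} (ha : cj a J ≤ X) (hx : x ∈ X) :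
    o2 X ≤ normalizer ((cj (x * a) V : Subgroup G) : Set G) := by
  have hJ2 : IsPGroup 2 J := S.isPGroup'.to_le h.JS
  obtain ⟨T₁, hT₁, h1⟩ := exists_syl (isPGroup_cj a hJ2) ha
  have h2 := (o2_le_syl hT₁).trans (h.le_norm_of hT₁.2.1 h1)
  have h3 := cj_norm (g := x) h2
  rwa [cj_cj, cj_eq_of_mem_normalizer (le_normalizer_o2 X hx)] at h3

/-- The part common to TI and (*): `C_V(T) ≤ Ω₁Z(O₂(X))` contains a point. -/
theorem exists_point_le {X : Subgroup G} (hX : X ⊓ centralizer (o2 X : Set G) ≤ o2 X)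
    {a : G} (haJ : cj a J ≤ X) (haV : cj a V ≤ X) :
    ∃ l : G, cj l V = cj a V ∧ o2 X ≤ cj l (S : Subgroup G) ∧ cj l (zc (S : Subgroup G)) ≤ zc (o2 X) := by
  have hJ2 : IsPGroup 2 J := S.isPGroup'.to_le h.JS
  obtain ⟨T, hT, h1⟩ := exists_syl (isPGroup_cj a hJ2) haJ
  obtain ⟨l, hl, hlJ, hlV⟩ := h.exists_point hT.2.1 h1
  have ho : o2 X ≤ cj l (S : Subgroup G) := (o2_le_syl hT).trans hl
  refine ⟨l, hlV, ho, ?_⟩
  intro z hz
  have hz' := mem_zc.1 (mem_cj.1 hz)
  have hzc : ∀ y ∈ o2 X, y * z = z * y := by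
    intro y hy
    have h2 := hz'.2.2 _ (mem_cj.1 (ho hy))
    have e1 : y * z = l * ((l⁻¹ * y * l) * (l⁻¹ * z * l)) * l⁻¹ := by group
    have e2 : z * y = l * ((l⁻¹ * z * l) * (l⁻¹ * y * l)) * l⁻¹ := by group
    rw [e1, e2, h2]
  have hzV : z ∈ cj a V := by
    rw [← hlV]; exact cj_mono l h.ZV hz
  exact mem_zc.2 ⟨hX ⟨haV hzV, mem_centralizer_iff.2 hzc⟩, h.cj_sq a z hzV, hzc⟩

omit h in
theorem zc_data {X : Subgroup G} : (∀ a ∈ zc (o2 X), ∀ b ∈ zc (o2 X), a * b = b * a) ∧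
    (∀ a ∈ zc (o2 X), a ^ 2 = 1) ∧ zc (o2 X) ≤ o2 X ∧
    X ≤ normalizer ((zc (o2 X) : Subgroup G) : Set G) ∧
    o2 X ≤ centralizer ((zc (o2 X) : Subgroup G) : Set G) := by
  refine ⟨fun a ha b hb => ?_, fun a ha => (mem_zc.1 ha).2.1, fun a ha => (mem_zc.1 ha).1,
    (le_normalizer_o2 X).trans (Cfsg.Agent.MinSimple.VModule.normalizer_le_normalizer_zc _), ?_⟩
  · exact (mem_zc.1 hb).2.2 a (mem_zc.1 ha).1
  · intro y hy
    rw [mem_centralizer_iff]
    exact fun z hz => ((mem_zc.1 hz).2.2 y hy).symm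

/-- **THEOREM TI** (helper58): two lines which meet nontrivially commute. -/
theorem comm_of_inter (hc : ∀ D : Subgroup G, D ≤ V → D ≠ ⊥ →
      centralizer (D : Set G) ⊓ centralizer (o2 (centralizer (D : Set G)) : Set G) ≤
        o2 (centralizer (D : Set G)))
    {a b : G} (hD : cj a V ⊓ cj b V ≠ ⊥) : cj a V ≤ centralizer ((cj b V : Subgroup G) : Set G) := by
  by_contra hcon
  -- a noncommuting pair `V, V^g` with `|V ∩ V^g|` maximal
  obtain ⟨g, hg, hmax⟩ := Set.exists_max_image {g : G | ¬ V ≤ centralizer ((cj g V : Subgroup G) : Set G)}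
    (fun g => Nat.card (V ⊓ cj g V : Subgroup G)) (Set.toFinite _)
    ⟨a⁻¹ * b, fun h0 => hcon (by
      have h1 := cj_cent (g := a) h0
      rwa [cj_cj, mul_inv_cancel_left] at h1)⟩
  have hmax' : ∀ a b : G, ¬ cj a V ≤ centralizer ((cj b V : Subgroup G) : Set G) →
      Nat.card (cj a V ⊓ cj b V : Subgroup G) ≤ Nat.card (V ⊓ cj g V : Subgroup G) := by
    intro a b hab
    have h1 := hmax (a⁻¹ * b) (fun h0 => hab (by
      have h1 := cj_cent (g := a) h0
      rwa [cj_cj, mul_inv_cancel_left] at h1))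
    have e : cj a V ⊓ cj b V = cj a (V ⊓ cj (a⁻¹ * b) V) := by
      rw [cj_inf, cj_cj, mul_inv_cancel_left]
    rw [e, card_cj]
    exact h1
  set D : Subgroup G := V ⊓ cj g V with hDdef
  have hD1 : D ≠ ⊥ := by
    intro h0
    have h1 := hmax' a b hcon
    rw [h0] at h1
    have h2 : Nat.card (⊥ : Subgroup G) = 1 := by simp
    rw [h2] at h1
    exact hD (Subgroup.card_eq_one.1 (le_antisymm h1 Nat.card_pos))
  set X : Subgroup G := centralizer (D : Set G) with hXdef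
  have hX := hc D inf_le_left hD1
  rw [← hXdef] at hX
  have hDV : D ≤ V := inf_le_left
  have hVX : V ≤ X := h.comm.trans (centralizer_le hDV)
  have hJX : cj 1 J ≤ X := by rw [cj_one]; exact h.JV.trans (centralizer_le hDV)
  have hJgX : cj g J ≤ X := (cj_cent h.JV).trans (centralizer_le inf_le_right)
  have hDX : X ≤ centralizer (D : Set G) := le_rfl
  obtain ⟨x, hx, hxV⟩ := h.exists_conj hJX hJgX
  rw [cj_one] at hxV
  -- conjugation inside `X` fixes `D`
  have hDc : ∀ y ∈ X, D ≤ cj y V := by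
    intro y hy d hd
    rw [mem_cj]
    have h1 := mem_centralizer_iff.1 hy d hd
    have e : y⁻¹ * d * y = d := by rw [mul_assoc, h1, ← mul_assoc, inv_mul_cancel, one_mul]
    rw [e]; exact hDV hd
  have hnot : ¬ V ≤ o2 X := by
    intro h0
    apply hg
    have h1 := h.comm_lines (a := 1) (b := x) (by
      rw [cj_one]
      have h2 := h.o2_le_norm hJX hx
      rw [mul_one] at h2
      exact h0.trans h2) (by
      have h2 := h.o2_le_norm hJX (one_mem X)
      rw [mul_one, cj_one] at h2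
      rw [cj_one]
      have h3 := cj_mono x h0
      rw [cj_eq_of_mem_normalizer (le_normalizer_o2 X hx)] at h3
      exact h3.trans h2)
    rw [cj_one, hxV] at h1
    exact h1
  apply hnot
  obtain ⟨l, hlV, hlo, hlz⟩ := h.exists_point_le hX hJX (by rw [cj_one]; exact hVX)
  rw [cj_one] at hlV
  obtain ⟨hUc, hU2, hUo, hXU, hoU⟩ := zc_data (X := X)
  have hoV : o2 X ≤ normalizer (V : Set G) := by
    have h2 := h.o2_le_norm hJX (one_mem X)
    rwa [mul_one, cj_one] at h2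
  refine le_o2_of (D := D) (U := zc (o2 X)) hVX h.mul_comm' h.sq hUc hU2 hXU (hUo.trans hoV) hDV ?_ hDX ?_
    (inf_le_right.trans hoU) h.nff ?_
  · -- `D ≤ Ω₁Z(O₂(X))`
    intro d hd
    have h1 : ∀ y ∈ X, y * d = d * y := fun y hy => (mem_centralizer_iff.1 hy d hd).symm
    exact mem_zc.2 ⟨hX ⟨hVX (hDV hd), mem_centralizer_iff.2 fun y hy => h1 y (o2_le X hy)⟩,
      h.sq d (hDV hd), fun y hy => h1 y (o2_le X hy)⟩
  · -- the point is not in `D`
    intro h0
    have hZD : cj l (zc (S : Subgroup G)) ≤ D := by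
      refine le_trans (le_inf ?_ hlz) h0
      have h1 := cj_mono l h.ZV
      rwa [hlV] at h1
    have hXC : X ≤ cj l (centralizer (zc (S : Subgroup G) : Set G)) := by
      rw [cj_centralizer]; exact centralizer_le hZD
    have hV1 : V ≤ cj l (o2 (centralizer (zc (S : Subgroup G) : Set G))) := by
      have h1 := cj_mono l h.low
      rwa [hlV] at h1
    have hN : cj l (o2 (centralizer (zc (S : Subgroup G) : Set G))) ≤ normalizer (V : Set G) := by
      have h1 : o2 (centralizer (zc (S : Subgroup G) : Set G)) ≤ (S : Subgroup G) := o2_le_syl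
        (syl_of_le (by
          intro s hs
          rw [mem_centralizer_iff]
          exact fun z hz => ((mem_zc.1 hz).2.2 s hs).symm))
      have h2 := cj_norm (g := l) (h1.trans h.S_le)
      rwa [hlV] at h2
    have hxn : cj x (cj l (o2 (centralizer (zc (S : Subgroup G) : Set G)))) =
        cj l (o2 (centralizer (zc (S : Subgroup G) : Set G))) := by
      rw [← o2_cj]
      exact cj_eq_of_mem_normalizer (le_normalizer_o2 _ (hXC hx))
    apply hg
    have h1 := h.comm_lines (a := 1) (b := x) (by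
      rw [cj_one]
      have h2 := cj_norm (g := x) hN
      rw [hxn] at h2
      exact hV1.trans h2) (by
      rw [cj_one]
      have h3 := cj_mono x hV1
      rw [hxn] at h3
      exact h3.trans hN)
    rw [cj_one, hxV] at h1
    exact h1
  · intro y hy z hz hyz
    have h1 : D ≤ cj y V ⊓ cj z V := le_inf (hDc y hy) (hDc z hz)
    exact (eq_of_le_of_card_ge h1 (hmax' y z hyz)).symm.le

/-- **COROLLARY (*)**: `V^a ≤ O₂(X)` for every subgroup `X` of characteristic 2 which contains `J^a` and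
`V^a`. -/
theorem le_o2' (hc : ∀ D : Subgroup G, D ≤ V → D ≠ ⊥ →
      centralizer (D : Set G) ⊓ centralizer (o2 (centralizer (D : Set G)) : Set G) ≤
        o2 (centralizer (D : Set G)))
    {X : Subgroup G} (hX : X ⊓ centralizer (o2 X : Set G) ≤ o2 X) {a : G} (haJ : cj a J ≤ X)
    (haV : cj a V ≤ X) : cj a V ≤ o2 X := by
  by_cases hS : (S : Subgroup G) = ⊥
  · have h1 : V = ⊥ := by
      rw [eq_bot_iff]
      intro v hv
      have h2 : IsPGroup 2 V := pgroup_of_sq h.sq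
      obtain ⟨S', hS'⟩ := h2.exists_le_sylow
      have h3 : Nat.card S' = 1 := by
        rw [Sylow.card_eq_multiplicity, ← Sylow.card_eq_multiplicity S, hS]; simp
      have h4 : (S' : Subgroup G) = ⊥ := Subgroup.card_eq_one.1 h3
      exact h4 ▸ hS' hv
    rw [h1]
    exact (Subgroup.map_bot _).le.trans bot_le
  obtain ⟨l, hlV, hlo, hlz⟩ := h.exists_point_le hX haJ haV
  obtain ⟨hUc, hU2, hUo, hXU, hoU⟩ := zc_data (X := X)
  have hoV : o2 X ≤ normalizer ((cj a V : Subgroup G) : Set G) := by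
    have h2 := h.o2_le_norm haJ (one_mem X)
    rwa [one_mul] at h2
  refine le_o2_of (D := ⊥) (U := zc (o2 X)) haV ?_ (h.cj_sq a) hUc hU2 hXU (hUo.trans hoV) bot_le bot_le
    ?_ ?_ (inf_le_right.trans hoU) (h.nff.cj a) ?_
  · exact fun y hy z hz => ((mem_centralizer_iff.1 (h.cj_comm a hy)) z hz).symm
  · intro y _
    rw [mem_centralizer_iff]
    intro d hd
    rw [mem_bot.1 hd, one_mul, mul_one]
  · intro h0
    have h1 : cj l (zc (S : Subgroup G)) ≤ ⊥ := by
      refine le_trans (le_inf ?_ hlz) h0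
      have h1 := cj_mono l h.ZV
      rwa [hlV] at h1
    apply Cfsg.Agent.MinSimple.Basic.zc_ne_bot S.isPGroup' hS
    have h2 := cj_mono l⁻¹ h1
    rw [cj_inv_cj] at h2
    exact le_bot_iff.1 (h2.trans (Subgroup.map_bot _).le)
  · intro y hy z hz hyz
    rw [cj_cj, cj_cj] at hyz ⊢
    by_contra h0
    exact hyz (h.comm_of_inter hc (fun h1 => h0 h1.le))

/-- (*) for `X ≥ J, V`. -/
theorem le_o2 (hc : ∀ D : Subgroup G, D ≤ V → D ≠ ⊥ →
      centralizer (D : Set G) ⊓ centralizer (o2 (centralizer (D : Set G)) : Set G) ≤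
        o2 (centralizer (D : Set G)))
    {X : Subgroup G} (hX : X ⊓ centralizer (o2 X : Set G) ≤ o2 X) (hJ : J ≤ X) (hV : V ≤ X) :
    V ≤ o2 X := by
  have h1 := h.le_o2' hc hX (a := 1) (by rw [cj_one]; exact hJ) (by rw [cj_one]; exact hV)
  rwa [cj_one] at h1

/-- (*): the `X`-conjugates of `V` commute. -/
theorem comm_of_mem (hc : ∀ D : Subgroup G, D ≤ V → D ≠ ⊥ →
      centralizer (D : Set G) ⊓ centralizer (o2 (centralizer (D : Set G)) : Set G) ≤
        o2 (centralizer (D : Set G)))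
    {X : Subgroup G} (hX : X ⊓ centralizer (o2 X : Set G) ≤ o2 X) (hJ : J ≤ X) (hV : V ≤ X)
    {x y : G} (hx : x ∈ X) (hy : y ∈ X) : cj x V ≤ centralizer ((cj y V : Subgroup G) : Set G) := by
  have h1 := h.le_o2 hc hX hJ hV
  have h2 : ∀ z ∈ X, cj z V ≤ o2 X := fun z hz => by
    have h3 := cj_mono z h1
    rwa [cj_eq_of_mem_normalizer (le_normalizer_o2 X hz)] at h3
  have h3 : ∀ z ∈ X, o2 X ≤ normalizer ((cj z V : Subgroup G) : Set G) := fun z hz => by
    have h4 := h.o2_le_norm (a := 1) (by rw [cj_one]; exact hJ) hz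
    rwa [mul_one] at h4
  exact h.comm_lines ((h2 x hx).trans (h3 y hy)) ((h2 y hy).trans (h3 x hx))

/-- In a group of characteristic 2 type the hypothesis on `C_G(D)` holds. -/
theorem char2 (hG : IsCharacteristicTwoType G) : ∀ D : Subgroup G, D ≤ V → D ≠ ⊥ →
      centralizer (D : Set G) ⊓ centralizer (o2 (centralizer (D : Set G)) : Set G) ≤
        o2 (centralizer (D : Set G)) := fun _ hD hD1 =>
  Cfsg.Agent.Omega.NOne.LemmaT.char2_centralizer hG ((pgroup_of_sq h.sq).to_le hD) hD1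

end Lines

/-- The lines of `V_J = ⟨Ω₁(Z(S))^{N_G(J(S))}⟩`. -/
theorem lines_jj [Finite G] {S : Sylow 2 G} {V : Subgroup G}
    (eq : V = zl (S : Subgroup G) (normalizer ((jj (S : Subgroup G) : Subgroup G) : Set G)))
    (nff : NotFF V) (low : V ≤ o2 (centralizer (zc (S : Subgroup G) : Set G))) :
    Lines S (jj (S : Subgroup G)) V := by
  have hN : normalizer ((jj (S : Subgroup G) : Subgroup G) : Set G) ≤ normalizer (V : Set G) := by
    have h1 := Cfsg.Agent.MinSimple.VModule.le_normalizer_zl (S : Subgroup G)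
      (normalizer ((jj (S : Subgroup G) : Subgroup G) : Set G))
    rwa [← eq] at h1
  have hVj : V ≤ zj (S : Subgroup G) := by
    rw [eq]
    refine iSup_le fun g => ?_
    have h1 : cj (g : G) (zj (S : Subgroup G)) = zj (S : Subgroup G) := by
      rw [← zj_cj]
      refine zj_congr ?_
      rw [jj_cj, mem_normalizer_iff_cj.1 g.2]
    have h2 := cj_mono (g : G) (zc_le_zj (S : Subgroup G))
    rwa [h1] at h2
  refine ⟨jj_le _, fun g hg => ?_, hN, ?_, ?_, fun v hv => (mem_zj.1 (hVj hv)).2.1, ?_, nff, low⟩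
  · have h1 : jj (S : Subgroup G) ≤ cj g⁻¹ (S : Subgroup G) := cj_le_iff.1 hg
    have h2 := Cfsg.Agent.MinSimple.EmptyTI.jj_eq S (isPGroup_cj g⁻¹ S.isPGroup') h1
    rw [jj_cj] at h2
    have h3 := congrArg (cj g) h2
    rw [cj_cj_inv] at h3
    exact h3.symm
  · intro j hj
    rw [mem_centralizer_iff]
    exact fun v hv => ((mem_zj.1 (hVj hv)).2.2 j hj).symm
  · intro v hv
    rw [mem_centralizer_iff]
    exact fun w hw => (mem_zj.1 (hVj hv)).2.2 w (mem_zj.1 (hVj hw)).1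
  · have h1 := Cfsg.Agent.MinSimple.VModule.zc_le_zl (S : Subgroup G)
      (normalizer ((jj (S : Subgroup G) : Subgroup G) : Set G))
    rwa [← eq] at h1

end Cfsg.Agent.Omega.NO3b.NoEmp
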