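import Cfsg.Agent.Omega.NO3b.EZeroBase
import Cfsg.Agent.MinSimple.VModule

/-!
# Leaf (3b-E), THEOREM E0 (helper99, #13645), part 2: the second parabolic

`F = V ∩ V^g` is a maximal flat, `T = C_S(F)` (`Flat S V F T`).

* `Par V F T P` : `P` is minimal among the subgroups of `C_G(F)` which contain `T` and do not lie in `L`;
  `Flat.exists_par`;
* `Par.isMinPar`, `Par.syl`, `Par.min_or` (MIN);
* `Par.V_le_o2`, `Par.U_le_o2`, `Par.U_comm`, `Par.U_sq` for `U = ⟨V^P⟩`;
* `Par.inf_line` : `V ∩ V^x = F` for `x ∈ P - L`; `Par.inf_cent_oddGen` : `C_V(O²(P)) = F`;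
* `Par.inf_cent_U` : `C_T(U) ≤ O₂(P)`;
* `Par.nonloc` : no nontrivial 2-subgroup is normalised by `L₀` and `P`;
* `Emp`, `Hyp.of_emp`, `Par.cent_T_le` : EMP in the strong form, `C_U(T) ≤ C(O²(P))`;
* `Hyp.le_Q0`, `Hyp.o2_L0` : `O₂(L₀) = C_S(V)` contains the 2-subgroups of `L₀` which centralise `V`.
-/

set_option autoImplicit false

namespace Cfsg.Agent.Omega.NO3b.EZero

open Subgroup Cfsg Cfsg.Agent.ZN Cfsg.Agent.ZN.ChoiceBase Cfsg.Agent.ZN.ChoiceSit
open Cfsg.Agent.MinSimple.EmptyTI (jcl cj_le_jcl le_jcl jcl_le jcl_mono jcl_cj cj_jcl le_normalizer_jcl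
  jcl_le_self exists_conj_jj le_normalizer_jj frattini_jcl syl_of_le)
open Cfsg.Agent.MinSimple.MinParabolic (IsMinPar)
open Cfsg.Agent.MinSimple.VModule (oddGen oddGen_le mem_oddGen le_normalizer_oddGen oddGen_le_of_sup)

universe u

variable {G : Type u} [Group G]

/-- `⟨V^P⟩` -/
def cl (V P : Subgroup G) : Subgroup G := ⨆ p : P, cj (p : G) V

theorem cj_le_cl {V P : Subgroup G} {p : G} (hp : p ∈ P) : cj p V ≤ cl V P :=
  le_iSup (fun p : P => cj (p : G) V) ⟨p, hp⟩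

theorem le_cl (V P : Subgroup G) : V ≤ cl V P := by
  have h1 := cj_le_cl (V := V) (P.one_mem)
  rwa [cj_one] at h1

theorem cl_le {V P A : Subgroup G} (h : ∀ p ∈ P, cj p V ≤ A) : cl V P ≤ A := iSup_le fun p => h p p.2

theorem cj_iSup {ι : Sort*} (g : G) (B : ι → Subgroup G) : cj g (⨆ i, B i) = ⨆ i, cj g (B i) :=
  Subgroup.map_iSup _ _

theorem cj_cl {V P : Subgroup G} {p : G} (hp : p ∈ P) : cj p (cl V P) = cl V P := by
  have key : ∀ p ∈ P, cj p (cl V P) ≤ cl V P := by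
    intro p hp
    unfold cl
    rw [cj_iSup]
    refine iSup_le fun q => ?_
    rw [cj_cj]
    exact cj_le_cl (P.mul_mem hp q.2)
  apply le_antisymm (key p hp)
  have h1 := cj_mono p (key p⁻¹ (P.inv_mem hp))
  rwa [cj_cj_inv] at h1

theorem le_normalizer_cl (V P : Subgroup G) : P ≤ normalizer (cl V P : Set G) := fun _ hp =>
  mem_normalizer_iff_cj.2 (cj_cl hp)

theorem le_normalizer_inf_cent {P A : Subgroup G} (h : P ≤ normalizer (A : Set G)) :
    P ≤ normalizer ((P ⊓ centralizer (A : Set G) : Subgroup G) : Set G) := by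
  intro p hp
  rw [mem_normalizer_iff_cj, cj_inf, cj_centralizer, mem_normalizer_iff_cj.1 (h hp),
    cj_eq_of_mem_normalizer (Subgroup.le_normalizer hp)]

/-- An abelian subgroup generated by elements of order at most 2 has exponent 2. -/
theorem sq_of_comm {A : Subgroup G} (hA : A ≤ centralizer (A : Set G)) {ι : Sort*} {B : ι → Subgroup G}
    (h : ∀ i, B i ≤ A) (hA' : A ≤ ⨆ i, B i) (hB : ∀ i, ∀ b ∈ B i, b ^ 2 = 1) : ∀ a ∈ A, a ^ 2 = 1 := by
  let E : Subgroup G :=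
    { carrier := {x | x ∈ A ∧ x ^ 2 = 1}
      one_mem' := ⟨one_mem _, one_pow 2⟩
      mul_mem' := by
        rintro x y ⟨hx, hx2⟩ ⟨hy, hy2⟩
        refine ⟨mul_mem hx hy, ?_⟩
        have h1 : Commute x y := (mem_centralizer_iff.1 (hA hx) y hy).symm
        rw [h1.mul_pow, hx2, hy2, one_mul]
      inv_mem' := by
        rintro x ⟨hx, hx2⟩
        exact ⟨inv_mem hx, by rw [inv_pow, hx2, inv_one]⟩ }
  have h1 : (⨆ i, B i) ≤ E := iSup_le fun i b hb => ⟨h i hb, hB i b hb⟩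
  exact fun a ha => (h1 (hA' ha)).2

/-- `P = O²(P) T` -/
theorem oddGen_sup_syl [Finite G] {P S : Subgroup G} (hS : Syl S P) : oddGen P ⊔ S = P := by
  have : Fact (Nat.Prime 2) := ⟨Nat.prime_two⟩
  have hSyl := syl_not_dvd hS
  apply le_antisymm (sup_le (oddGen_le P) hS.1)
  have hN : ((oddGen P).subgroupOf P).Normal := normal_subgroupOf_of_le_normalizer (le_normalizer_oddGen P)
  have h1 : IsPGroup 2 (P ⧸ (oddGen P).subgroupOf P) := by
    intro q
    obtain ⟨x, rfl⟩ := QuotientGroup.mk_surjective q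
    obtain ⟨a, m, hm, ha⟩ := Nat.exists_eq_pow_mul_and_not_dvd (orderOf_pos (x : G)).ne' 2 (by norm_num)
    refine ⟨a, ?_⟩
    rw [← QuotientGroup.mk_pow, QuotientGroup.eq_one_iff, mem_subgroupOf]
    refine mem_oddGen (P.pow_mem x.2 _) ?_
    have hm0 : 0 < m := Nat.pos_of_ne_zero (by rintro rfl; simp at hm)
    have h2 : orderOf ((x : G) ^ 2 ^ a) = m := by
      rw [orderOf_pow_of_dvd (by positivity) (ha ▸ Dvd.intro _ rfl), ha, Nat.mul_div_cancel_left _ (by positivity)]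
    rw [coe_pow, h2]
    exact Nat.not_even_iff_odd.1 fun h => hm h.two_dvd
  obtain ⟨k, hk⟩ := IsPGroup.iff_card.1 h1
  have h2 : (oddGen P ⊔ S).relIndex P ∣ 2 ^ k := by
    have h3 : (oddGen P ⊔ S).relIndex P ∣ (oddGen P).relIndex P := relIndex_dvd_of_le_left _ le_sup_left
    have h4 : (oddGen P).relIndex P = 2 ^ k := by
      rw [← hk, relIndex, index_eq_card]
    rwa [h4] at h3
  obtain ⟨j, -, hj⟩ := (Nat.dvd_prime_pow Nat.prime_two).1 h2
  have h5 : (oddGen P ⊔ S).relIndex P ∣ S.relIndex P := relIndex_dvd_of_le_left _ le_sup_right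
  rw [hj] at h5
  rcases Nat.eq_zero_or_pos j with rfl | hj0
  · rw [pow_zero] at hj
    exact relIndex_eq_one.1 hj
  · exact absurd ((dvd_pow_self 2 hj0.ne').trans h5) hSyl

/-- **(5)** `P` is minimal among the subgroups of `C_G(F)` which contain `T` and do not normalise `V`. -/
structure Par (V F T P : Subgroup G) : Prop where
  T_le : T ≤ P
  le : P ≤ centralizer (F : Set G)
  nle : ¬ P ≤ normalizer (V : Set G)
  min : ∀ M, T ≤ M → M ≤ P → M ≠ P → M ≤ normalizer (V : Set G)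

section

variable [Finite G] {S : Sylow 2 G} {V F T P : Subgroup G}

theorem Flat.exists_mem (f : Flat S V F T) (h : Hyp S V) : ∃ c ∈ centralizer (F : Set G),
    c ∉ normalizer (V : Set G) := by
  obtain ⟨g, hg, hF⟩ := f.eq
  obtain ⟨c, hc, hcg⟩ := h.exists_c (D := F) f.F_le (g := g) (by rw [← hF]; exact inf_le_right)
  refine ⟨c, h.jcl_le_cent f.F_le hc, fun h0 => hg ?_⟩
  rw [← hcg, mem_normalizer_iff_cj.1 h0]

theorem Flat.exists_par (f : Flat S V F T) (h : Hyp S V) : ∃ P, Par V F T P := by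
  obtain ⟨c, hc, hcV⟩ := f.exists_mem h
  have h0 : (centralizer (F : Set G)) ∈ {P : Subgroup G | T ≤ P ∧ P ≤ centralizer (F : Set G) ∧
      ¬ P ≤ normalizer (V : Set G)} := ⟨f.syl.1, le_rfl, fun h1 => hcV (h1 hc)⟩
  obtain ⟨P, hP, hmin⟩ := Set.exists_min_image {P : Subgroup G | T ≤ P ∧ P ≤ centralizer (F : Set G) ∧
      ¬ P ≤ normalizer (V : Set G)} (fun P => Nat.card P) (Set.toFinite _) ⟨_, h0⟩
  refine ⟨P, hP.1, hP.2.1, hP.2.2, fun M hTM hMP hne => ?_⟩
  by_contra hcon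
  exact hne (eq_of_le_of_card_ge hMP (hmin M ⟨hTM, hMP.trans hP.2.1, hcon⟩))

namespace Par

variable (p : Par V F T P) (f : Flat S V F T) (h : Hyp S V)
include p f h

omit [Finite G] h in
theorem syl : Syl T P := by
  refine ⟨p.T_le, f.isPGroup_T, fun Q hQ hp hle => f.syl.2.2 Q (hQ.trans p.le) hp hle⟩

theorem isMinPar : IsMinPar T P := by
  refine ⟨p.T_le, fun h0 => p.nle ?_, P ⊓ normalizer (V : Set G), ?_, fun K hK hKP =>
    le_inf hKP.le (p.min K hK hKP.le hKP.ne)⟩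
  · refine h0.trans ((normalizer_le_jj T).trans ?_)
    rw [MinSimple.EmptyTI.jj_eq S f.isPGroup_T f.J_le]
    exact h.NJ_le
  · exact lt_of_le_of_ne inf_le_left fun h1 => p.nle (inf_eq_left.1 h1)

/-- **(MIN)** a normal subgroup `K` of `P` satisfies `P = K T` or `K ∩ T ≤ O₂(P)`. -/
theorem min_or {K : Subgroup G} (hK : K ≤ P) (hKn : P ≤ normalizer (K : Set G)) :
    K ⊔ T = P ∨ T ⊓ K ≤ o2 P := by
  have : Fact (Nat.Prime 2) := ⟨Nat.prime_two⟩
  exact (p.isMinPar f h).sup_eq_or_inf_le f.isPGroup_T (syl_not_dvd (p.syl f)) hK hKn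

/-- a normal subgroup `K ≤ N(V)` of `P` has `K ∩ T ≤ O₂(P)` -/
theorem inf_le_of_le {K : Subgroup G} (hK : K ≤ P) (hKn : P ≤ normalizer (K : Set G))
    (hKV : K ≤ normalizer (V : Set G)) : T ⊓ K ≤ o2 P := by
  rcases p.min_or f h hK hKn with h1 | h1
  · exfalso
    apply p.nle
    rw [← h1]
    exact sup_le hKV (f.T_le_L h)
  · exact h1

omit h in
theorem o2_le_T : o2 P ≤ T := o2_le_syl (p.syl f)

/-- `V ≤ O₂(P)` -/
theorem V_le_o2 : V ≤ o2 P := by
  have hVP : V ≤ P := (f.V_le_T h).trans p.T_le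
  have hPZ : P ≤ centralizer (zc (S : Subgroup G) : Set G) := p.le.trans (centralizer_le (f.Z_le h))
  have h1 : o2 (centralizer (zc (S : Subgroup G) : Set G)) ⊓ P ≤ o2 P := by
    refine ChoiceSit.le_o2 ((ChoiceSit.isPGroup_o2 _).to_le inf_le_left) inf_le_right ?_
    intro x hx
    rw [mem_normalizer_iff_cj, cj_inf, cj_eq_of_mem_normalizer (Subgroup.le_normalizer hx),
      cj_eq_of_mem_normalizer (ChoiceSit.le_normalizer_o2 _ (hPZ hx))]
  exact (le_inf h.low hVP).trans h1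

theorem line_le_o2 {x : G} (hx : x ∈ P) : cj x V ≤ o2 P := by
  have h1 := cj_mono x (p.V_le_o2 f h)
  rwa [cj_eq_of_mem_normalizer (ChoiceSit.le_normalizer_o2 _ hx)] at h1

/-- `⟨V^P⟩ ≤ O₂(P)` -/
theorem U_le_o2 : cl V P ≤ o2 P := cl_le fun _ hx => p.line_le_o2 f h hx

omit [Finite G] f h in
theorem cj_F {x : G} (hx : x ∈ P) : cj x F = F :=
  cj_eq_of_mem_normalizer (centralizer_le_normalizer _ (p.le hx))

omit [Finite G] h in
theorem F_le_line {x : G} (hx : x ∈ P) : F ≤ cj x V := by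
  have h1 := cj_mono x f.F_le
  rwa [p.cj_F hx] at h1

theorem U_comm : cl V P ≤ centralizer (cl V P : Set G) :=
  cl_le fun _ hx => cent_symm (cl_le fun _ hy => f.comm_line h (p.F_le_line f hy) (p.F_le_line f hx))

theorem U_sq : ∀ u ∈ cl V P, u ^ 2 = 1 :=
  sq_of_comm (p.U_comm f h) (fun i : P => cj_le_cl i.2) le_rfl fun i => h.cj_sq i

omit h in
/-- `V ∩ V^x = F` for `x ∈ P - N(V)` -/
theorem inf_line {x : G} (hx : x ∈ P) (hxV : x ∉ normalizer (V : Set G)) : V ⊓ cj x V = F := by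
  have h1 := f.inf_eq (a := 1) (b := x) (by
    rw [cj_one]
    exact fun h0 => hxV (mem_normalizer_iff_cj.2 h0.symm)) (by rw [cj_one]; exact f.F_le) (p.F_le_line f hx)
  rwa [cj_one] at h1

omit h in
theorem inf_lines {x y : G} (hx : x ∈ P) (hy : y ∈ P) (hne : cj x V ≠ cj y V) : cj x V ⊓ cj y V = F :=
  f.inf_eq hne (p.F_le_line f hx) (p.F_le_line f hy)

omit h in
/-- `P = O²(P) T` -/
theorem sup_T : oddGen P ⊔ T = P := oddGen_sup_syl (p.syl f)

theorem oddGen_nle : ¬ oddGen P ≤ normalizer (V : Set G) := by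
  intro h0
  apply p.nle
  rw [← p.sup_T f]
  exact sup_le h0 (f.T_le_L h)

/-- MIN with `O²(P)`: a normal subgroup `K` of `P` contains `O²(P)` or has `K ∩ T ≤ O₂(P)`. -/
theorem min_or' {K : Subgroup G} (hK : K ≤ P) (hKn : P ≤ normalizer (K : Set G)) :
    oddGen P ≤ K ∨ T ⊓ K ≤ o2 P := by
  rcases p.min_or f h hK hKn with h1 | h1
  · exact Or.inl (oddGen_le_of_sup hKn h1.ge p.T_le hK f.isPGroup_T)
  · exact Or.inr h1

/-- `C_V(O²(P)) = F` -/
theorem inf_cent_oddGen : V ⊓ centralizer (oddGen P : Set G) = F := by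
  apply le_antisymm
  · have h1 := p.oddGen_nle f h
    rw [SetLike.not_le_iff_exists] at h1
    obtain ⟨x, hx, hxV⟩ := h1
    rw [← p.inf_line f (oddGen_le P hx) hxV]
    refine le_inf inf_le_left ?_
    intro v hv
    have h2 := mem_centralizer_iff.1 hv.2 x hx
    rw [mem_cj, mul_assoc, ← h2, inv_mul_cancel_left]
    exact hv.1
  · exact le_inf f.F_le ((cent_symm p.le).trans (centralizer_le (oddGen_le P)))

/-- the elements of `T` which centralise `U = ⟨V^P⟩` lie in `O₂(P)` -/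
theorem inf_cent_U : T ⊓ centralizer (cl V P : Set G) ≤ o2 P := by
  have h1 := p.inf_le_of_le f h (K := P ⊓ centralizer (cl V P : Set G)) inf_le_left
    (le_normalizer_inf_cent (le_normalizer_cl V P))
    ((inf_le_right.trans (centralizer_le (le_cl V P))).trans (centralizer_le_normalizer _))
  exact (le_inf inf_le_left (le_inf (inf_le_left.trans p.T_le) inf_le_right)).trans h1

omit f in
/-- no nontrivial 2-subgroup is normalised by `L₀` and `P` -/
theorem nonloc {R : Subgroup G} (hR : IsPGroup 2 R)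
    (h1 : normalizer (((S : Subgroup G) ⊓ centralizer (V : Set G) : Subgroup G) : Set G) ≤
      normalizer (R : Set G)) (h2 : P ≤ normalizer (R : Set G)) : R = ⊥ := by
  by_contra hne
  exact p.nle (h2.trans (h.loc_le ⟨R, hR, hne, rfl⟩ h1))

omit f in
/-- `J ≰ O₂(P)` -/
theorem J_nle : ¬ jj (S : Subgroup G) ≤ o2 P := by
  intro h0
  apply p.nle
  have h1 : P ≤ normalizer ((jj (o2 P) : Subgroup G) : Set G) :=
    (ChoiceSit.le_normalizer_o2 P).trans (normalizer_le_jj (o2 P))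
  rw [MinSimple.EmptyTI.jj_eq S (ChoiceSit.isPGroup_o2 P) h0] at h1
  exact h1.trans h.NJ_le

/-- `O²(P) ≤ ⟨J^P⟩` -/
theorem oddGen_le_jcl : oddGen P ≤ jcl (jj (S : Subgroup G)) P := by
  have hJP : jj (S : Subgroup G) ≤ P := f.J_le.trans p.T_le
  rcases p.min_or' f h (jcl_le_self hJP) (le_normalizer_jcl _ _) with h1 | h1
  · exact h1
  · exact absurd ((le_inf f.J_le (le_jcl _ _)).trans h1) (p.J_nle h)

end Par

/-- EMP for `D = V ∩ V^g`: `⟨J^{C_G(D)}⟩` centralises `Ω₁(Z(T))`, `J ≤ T ∈ Syl₂(C_G(D))`. -/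
def Emp (S : Sylow 2 G) (V : Subgroup G) : Prop :=
  ∀ g : G, cj g V ≠ V → V ⊓ cj g V ≠ ⊥ → ∀ T : Subgroup G,
    Syl T (centralizer ((V ⊓ cj g V : Subgroup G) : Set G)) → jj (S : Subgroup G) ≤ T →
    jcl (jj (S : Subgroup G)) (centralizer ((V ⊓ cj g V : Subgroup G) : Set G)) ≤
      centralizer ((zc T : Subgroup G) : Set G)

/-- The hypotheses of THEOREM E0 with the strong form of EMP. -/
theorem Hyp.of_emp (h1 : V = zl (S : Subgroup G) (normalizer ((jj (S : Subgroup G) : Subgroup G) : Set G)))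
    (h2 : NotFF V) (h3 : Emp S V)
    (h4 : ∀ H : Subgroup G, IsTwoLocal H → (S : Subgroup G) ≤ H →
      jj (S : Subgroup G) ≤ centralizer ((zl (S : Subgroup G) H : Subgroup G) : Set G))
    (h5 : V ≤ o2 (centralizer (zc (S : Subgroup G) : Set G)))
    (h6 : ¬ centralizer (zc (S : Subgroup G) : Set G) ≤ normalizer (V : Set G)) : Hyp S V := by
  have hN : normalizer ((jj (S : Subgroup G) : Subgroup G) : Set G) ≤ normalizer (V : Set G) := by
    have h1' := MinSimple.VModule.le_normalizer_zl (S : Subgroup G)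
      (normalizer ((jj (S : Subgroup G) : Subgroup G) : Set G))
    rwa [← h1] at h1'
  have hzj : V ≤ zj (S : Subgroup G) := by
    rw [h1]
    refine iSup_le fun g => ?_
    have h1' : cj (g : G) (zj (S : Subgroup G)) = zj (S : Subgroup G) := by
      rw [← zj_cj]
      refine zj_congr ?_
      rw [jj_cj, mem_normalizer_iff_cj.1 g.2]
    have h2' := cj_mono (g : G) (zc_le_zj (S : Subgroup G))
    rwa [h1'] at h2'
  have hJ : jj (S : Subgroup G) ≤ centralizer (V : Set G) := by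
    intro j hj
    rw [mem_centralizer_iff]
    intro v hv
    exact ((mem_zj.1 (hzj hv)).2.2 j hj).symm
  refine ⟨h1, h2, fun g hg hD T hT hJT b hb => ?_, h4, h5, h6⟩
  have hD1 : jj (S : Subgroup G) ≤ centralizer ((V ⊓ cj g V : Subgroup G) : Set G) :=
    hJ.trans (centralizer_le inf_le_left)
  have hD2 : cj b (jj (S : Subgroup G)) ≤ centralizer ((V ⊓ cj g V : Subgroup G) : Set G) :=
    (cj_cent hJ).trans (centralizer_le hb)
  obtain ⟨x, hx, hxg⟩ := exists_conj_jj S hD1 hD2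
  have h3' : cj b (jj (S : Subgroup G)) ≤
      jcl (jj (S : Subgroup G)) (centralizer ((V ⊓ cj g V : Subgroup G) : Set G)) := by
    rw [← hxg]; exact cj_le_jcl hx
  obtain ⟨c, hc, hcg⟩ := exists_conj_jj S (le_jcl _ _) h3'
  have hcb : cj c V = cj b V := cj_eq_cj_iff.2 (hN (cj_eq_cj_iff.1 hcg))
  intro v hv
  have hvz : v ∈ zc T := by
    refine mem_zc.2 ⟨?_, (mem_zj.1 (hzj hv.1)).2.1, fun t ht => ((mem_centralizer_iff.1 hv.2) t ht)⟩
    exact hJT (mem_zj.1 (hzj hv.1)).1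
  have h5' := mem_centralizer_iff.1 (h3 g hg hD T hT hJT hc) v hvz
  rw [← hcb, mem_cj, mul_assoc, h5', inv_mul_cancel_left]
  exact hv.1

/-- **(A7)** EMP ⟹ `C_U(T) ≤ C(O²(P))`, `U = ⟨V^P⟩`. -/
theorem Par.cent_T_le (p : Par V F T P) (f : Flat S V F T) (h : Hyp S V) (he : Emp S V) :
    cl V P ⊓ centralizer (T : Set G) ≤ centralizer (oddGen P : Set G) := by
  obtain ⟨g, hg, hF⟩ := f.eq
  have h1 := he g hg (by rw [hF]; exact f.ne_bot h) T (by rw [hF]; exact f.syl) f.J_le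
  rw [hF] at h1
  have h2 : oddGen P ≤ centralizer ((zc T : Subgroup G) : Set G) :=
    ((p.oddGen_le_jcl f h).trans (jcl_mono p.le)).trans h1
  refine le_trans ?_ (cent_symm h2)
  intro x hx
  refine mem_zc.2 ⟨p.o2_le_T f (p.U_le_o2 f h hx.1), p.U_sq f h x hx.1, fun t ht => ?_⟩
  exact (mem_centralizer_iff.1 hx.2) t ht

namespace Hyp

variable (h : Hyp S V)
include h

/-- **(A5)** the 2-subgroups of `L₀` which centralise `V` lie in `C_S(V)`. -/
theorem le_Q0 {R : Subgroup G} (hR : IsPGroup 2 R)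
    (h1 : R ≤ normalizer (((S : Subgroup G) ⊓ centralizer (V : Set G) : Subgroup G) : Set G))
    (h2 : R ≤ centralizer (V : Set G)) : R ≤ (S : Subgroup G) ⊓ centralizer (V : Set G) := by
  have h3 : IsPGroup 2 (((S : Subgroup G) ⊓ centralizer (V : Set G)) ⊔ R : Subgroup G) := by
    rw [sup_comm]
    exact hR.to_sup_of_normal_right' isPGroup_Q0 h1
  have h4 := h.syl_Q0.2.2 _ (sup_le inf_le_right h2) h3 le_sup_left
  exact le_sup_right.trans h4.le

/-- `V = ⟨Z^{L₀}⟩` -/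
theorem V_eq_cl : cl (zc (S : Subgroup G))
    (normalizer (((S : Subgroup G) ⊓ centralizer (V : Set G) : Subgroup G) : Set G)) = V := by
  apply le_antisymm
  · refine cl_le fun l hl => ?_
    have h2 := cj_mono l h.Z_le
    rwa [mem_normalizer_iff_cj.1 (h.NJ_le (h.L0_le hl))] at h2
  · conv_lhs => rw [h.eq]
    refine iSup_le fun n => ?_
    obtain ⟨c, hc, hcn⟩ := h.frattini (h.NJ_le n.2)
    have e : (n : G) = c * (c⁻¹ * n) := by group
    have h1 : cj (c⁻¹ * n) (zc (S : Subgroup G)) ≤ V := by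
      have h2 := cj_mono (c⁻¹ * n) h.Z_le
      rwa [mem_normalizer_iff_cj.1 (h.NJ_le (h.L0_le hcn))] at h2
    have h2 : cj c (cj (c⁻¹ * n) (zc (S : Subgroup G))) = cj (c⁻¹ * n) (zc (S : Subgroup G)) :=
      cj_eq_of_mem_normalizer (centralizer_le_normalizer _ (centralizer_le h1 hc))
    change cj (n : G) (zc (S : Subgroup G)) ≤ _
    rw [e, ← cj_cj, h2]
    exact cj_le_cl hcn

/-- `O₂(L₀) = C_S(V)` -/
theorem o2_L0 : o2 (normalizer (((S : Subgroup G) ⊓ centralizer (V : Set G) : Subgroup G) : Set G)) =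
    (S : Subgroup G) ⊓ centralizer (V : Set G) := by
  apply le_antisymm
  · refine h.le_Q0 (ChoiceSit.isPGroup_o2 _) (ChoiceSit.o2_le _) ?_
    refine cent_symm ?_
    conv_lhs => rw [← h.V_eq_cl]
    refine cl_le fun l hl => ?_
    have h1 : zc (S : Subgroup G) ≤ centralizer ((o2 (normalizer (((S : Subgroup G) ⊓
        centralizer (V : Set G) : Subgroup G) : Set G)) : Subgroup G) : Set G) := by
      refine le_trans (fun z hz => ?_) (centralizer_le (o2_le_syl (syl_of_le h.S_le_L0)))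
      rw [mem_centralizer_iff]
      exact fun s hs => (mem_zc.1 hz).2.2 s hs
    have h2 := cj_cent (g := l) h1
    rwa [cj_eq_of_mem_normalizer (ChoiceSit.le_normalizer_o2 _ hl)] at h2
  · exact ChoiceSit.le_o2 isPGroup_Q0 Subgroup.le_normalizer le_rfl

/-- `V ≤ C_S(V)` -/
theorem V_le_Q0 : V ≤ (S : Subgroup G) ⊓ centralizer (V : Set G) := le_inf h.le_S h.comm

/-- `L₀ ≤ N(V)` -/
theorem L0_le_L : normalizer (((S : Subgroup G) ⊓ centralizer (V : Set G) : Subgroup G) : Set G) ≤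
    normalizer (V : Set G) := h.L0_le.trans h.NJ_le

end Hyp

end

end Cfsg.Agent.Omega.NO3b.EZero
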