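import Cfsg.Agent.Omega.NO3S.NotFF.Basic
import Cfsg.Agent.Omega.NoFF.Main
import Cfsg.Agent.Omega.MinPar
import Cfsg.Agent.MinSimple.Basic

/-!
# The U-method (#13906): lines sharing a vector `a`

* `lemmaU` : `U` normalised by `H`, `V ≤ H`, `[U, V] = 1`, `C_H(U) ≤ C`, `V ≤ O₂(C)` imply `V ≤ O₂(H)`;
* `le_centralizer_of_ext` : `U = ⟨X^H⟩`, `X` centralised by the Sylow 2-subgroup `T` of `H`; a normal
  subgroup `N` of `H` inducing a 2-group on `U` centralises `U`;
* `mem_centralizer_of_comm` : (3) of #13906: `f ∈ H` with `[f, U] ≤ A`, `A` central in `H` of exponent 2,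
  centralises `U`;
* `le_normalizer_of_zType` : (4) of #13906, the Z-type principle;
* `lines_normalize` : (B2): if `[U, V] = 1` then all `H`-conjugates of `V` normalise each other.
-/

set_option autoImplicit false

namespace Cfsg.Agent.Omega.NO3b.UMethod

open Subgroup Cfsg Cfsg.Agent.ZN Cfsg.Agent.MinSimple.VModule
open Cfsg.Agent.Omega.NO3S.NotFF (le_normalizer_of_forall conj_mem normalizer_inf normalizer_centralizer)
open scoped Pointwise

universe u

variable {G : Type u} [Group G]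

/-- `O₂` of a normal subgroup. -/
theorem o2_le_o2_of_normal {H K : Subgroup G} (hK : K ≤ H) (hn : H ≤ normalizer (K : Set G)) :
    o2 K ≤ o2 H := by
  refine le_o2 ((o2_le K).trans hK) (o2_isPGroup K) (le_normalizer_of_forall fun h hh x hx => ?_)
  have hc : (o2 K).map (MulAut.conj h).toMonoidHom ≤ o2 K := by
    apply le_o2
    · rintro _ ⟨y, hy, rfl⟩
      exact conj_mem hn hh (o2_le K hy)
    · exact (o2_isPGroup K).map _
    · refine le_normalizer_of_forall fun y hy z hz => ?_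
      obtain ⟨w, hw, rfl⟩ := hz
      have h1 : h⁻¹ * y * h ∈ K := by
        have := conj_mem hn (inv_mem hh) hy
        rwa [inv_inv] at this
      refine ⟨(h⁻¹ * y * h) * w * (h⁻¹ * y * h)⁻¹, conj_mem (le_normalizer_o2 K) h1 hw, ?_⟩
      change h * ((h⁻¹ * y * h) * w * (h⁻¹ * y * h)⁻¹) * h⁻¹ = y * (h * w * h⁻¹) * y⁻¹
      group
  exact hc ⟨x, hx, rfl⟩

/-- **LEMMA U.** -/
theorem lemmaU {H U V C : Subgroup G} (hU : H ≤ normalizer (U : Set G))
    (hC : H ⊓ centralizer (U : Set G) ≤ C) (hVH : V ≤ H) (hVU : V ≤ centralizer (U : Set G))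
    (hV : V ≤ o2 C) : V ≤ o2 H := by
  set K := H ⊓ centralizer (U : Set G) with hK
  have hKn : H ≤ normalizer (K : Set G) := normalizer_inf le_normalizer (normalizer_centralizer hU)
  have h1 : K ⊓ o2 C ≤ o2 K := by
    refine le_o2 inf_le_left ((o2_isPGroup C).to_le inf_le_right) ?_
    exact normalizer_inf le_normalizer (hC.trans (le_normalizer_o2 C))
  exact (le_inf (le_inf hVH hVU) hV).trans (h1.trans (o2_le_o2_of_normal inf_le_left hKn))

/-- `T ∩ N` is a Sylow 2-subgroup of the normal subgroup `N`. -/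
theorem not_dvd_inf [Finite G] {H T N : Subgroup G} (hTH : T ≤ H) (hTS : ¬ 2 ∣ T.relIndex H)
    (hNH : N ≤ H) (hN : H ≤ normalizer (N : Set G)) : ¬ 2 ∣ (N ⊓ T).relIndex N := by
  have hn : (N.subgroupOf H).Normal := normal_subgroupOf_of_le_normalizer hN
  have h1 : N.relIndex (N ⊔ T) = N.relIndex T := by
    have h := Subgroup.relIndex_sup_left (K := N.subgroupOf H) (H := T.subgroupOf H)
    rw [← Subgroup.subgroupOf_sup hNH hTH, Subgroup.relIndex_subgroupOf (sup_le hNH hTH),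
      Subgroup.relIndex_subgroupOf hTH] at h
    exact h
  have h2 := Subgroup.relIndex_mul_relIndex (N ⊓ T) N (N ⊔ T) inf_le_left le_sup_left
  have h3 := Subgroup.relIndex_mul_relIndex (N ⊓ T) T (N ⊔ T) inf_le_right le_sup_right
  have h4 : (N ⊓ T).relIndex T = N.relIndex T := Subgroup.inf_relIndex_right N T
  rw [h1] at h2
  rw [h4, ← h2, mul_comm] at h3
  have h5 : T.relIndex (N ⊔ T) = (N ⊓ T).relIndex N :=
    Nat.eq_of_mul_eq_mul_right (Nat.pos_of_ne_zero (Subgroup.index_ne_zero_of_finite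
      (H := N.subgroupOf T))) h3
  intro h
  have h6 := Subgroup.relIndex_mul_relIndex T (N ⊔ T) H le_sup_right (sup_le hNH hTH)
  exact hTS (h6 ▸ (h5 ▸ h : 2 ∣ T.relIndex (N ⊔ T)).mul_right _)

/-- A normal subgroup `N` of `H` which induces a 2-group on `U = ⟨X^H⟩` centralises `U`, if `X` is
centralised by a Sylow 2-subgroup `T` of `H`. -/
theorem le_centralizer_of_ext [Finite G] {H T U N X : Subgroup G} (hTH : T ≤ H)
    (hTS : ¬ 2 ∣ T.relIndex H) (hTX : T ≤ centralizer (X : Set G)) (hNH : N ≤ H)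
    (hN : H ≤ normalizer (N : Set G)) (hXU : X ≤ U) (hUn : H ≤ normalizer (U : Set G))
    (hU : ∀ Y : Subgroup G, X ≤ Y → H ≤ normalizer (Y : Set G) → U ≤ Y)
    (h2 : ∀ n ∈ N, ∃ k : ℕ, n ^ 2 ^ k ∈ centralizer (U : Set G)) : N ≤ centralizer (U : Set G) := by
  -- the subgroup `M = (N ∩ C(U)) (N ∩ T)` of `N`
  set D := N ⊓ centralizer (U : Set G) with hD
  have hDn : N ≤ normalizer (D : Set G) :=
    normalizer_inf le_normalizer (normalizer_centralizer (hNH.trans hUn))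
  have hM : N ≤ D ⊔ (N ⊓ T) := by
    -- the index of `D ⊔ (N ⊓ T)` in `N` is odd and a power of 2
    have hdvd1 : (D ⊔ (N ⊓ T)).relIndex N ∣ D.relIndex N :=
      Subgroup.relIndex_dvd_of_le_left N le_sup_left
    have hpow : ∃ k, D.relIndex N = 2 ^ k := by
      have hDn' : (D.subgroupOf N).Normal := normal_subgroupOf_of_le_normalizer hDn
      have hq : IsPGroup 2 (N ⧸ D.subgroupOf N) := by
        intro x
        obtain ⟨n, rfl⟩ := QuotientGroup.mk_surjective x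
        obtain ⟨k, hk⟩ := h2 n n.2
        refine ⟨k, ?_⟩
        rw [← QuotientGroup.mk_pow, QuotientGroup.eq_one_iff]
        rw [mem_subgroupOf]
        exact ⟨by simpa using N.pow_mem n.2 (2 ^ k), by simpa using hk⟩
      obtain ⟨k, hk⟩ := IsPGroup.iff_card.1 hq
      exact ⟨k, by rw [← hk]; rfl⟩
    have hodd : ¬ 2 ∣ (D ⊔ (N ⊓ T)).relIndex N := by
      intro h
      have h3 : (D ⊔ (N ⊓ T)).relIndex N ∣ (N ⊓ T).relIndex N :=
        Subgroup.relIndex_dvd_of_le_left N le_sup_right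
      exact not_dvd_inf hTH hTS hNH hN (h.trans h3)
    rw [← Subgroup.relIndex_eq_one]
    obtain ⟨k, hk⟩ := hpow
    rw [hk] at hdvd1
    obtain ⟨j, -, hj⟩ := (Nat.dvd_prime_pow Nat.prime_two).1 hdvd1
    rcases Nat.eq_zero_or_pos j with h0 | h0
    · rw [hj, h0, pow_zero]
    · exact absurd (hj ▸ dvd_pow_self 2 h0.ne') hodd
  have hNX : N ≤ centralizer (X : Set G) := by
    refine hM.trans (sup_le (inf_le_right.trans (centralizer_le hXU)) (inf_le_right.trans hTX))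
  have h6 : U ≤ centralizer (N : Set G) := by
    refine hU _ (Subgroup.le_centralizer_iff.1 hNX) (normalizer_centralizer hN)
  exact Subgroup.le_centralizer_iff.1 h6

/-- The elements of `H` which act on `U` by `u ↦ a u`, `a ∈ A`, `A` central in `H`. -/
def comm (H U A : Subgroup G) (hU : H ≤ normalizer (U : Set G))
    (hA : H ≤ centralizer (A : Set G)) : Subgroup G where
  carrier := {c | c ∈ H ∧ ∀ u ∈ U, c * u * c⁻¹ * u⁻¹ ∈ A}
  mul_mem' := by
    rintro c d ⟨hc, hc'⟩ ⟨hd, hd'⟩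
    refine ⟨mul_mem hc hd, fun u hu => ?_⟩
    have h1 := mem_centralizer_iff.1 (hA hc) _ (hd' u hu)
    have e : c * d * u * (c * d)⁻¹ * u⁻¹ =
        (c * (d * u * d⁻¹ * u⁻¹) * c⁻¹) * (c * u * c⁻¹ * u⁻¹) := by group
    rw [e, ← h1, mul_assoc _ c, mul_inv_cancel, mul_one]
    exact mul_mem (hd' u hu) (hc' u hu)
  one_mem' := ⟨one_mem _, fun u _ => by
    have : (1 : G) * u * 1⁻¹ * u⁻¹ = 1 := by group
    rw [this]; exact one_mem _⟩
  inv_mem' := by
    rintro c ⟨hc, hc'⟩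
    refine ⟨inv_mem hc, fun u hu => ?_⟩
    have h1 : c⁻¹ * u * c ∈ U := by
      have := conj_mem hU (inv_mem hc) hu
      rwa [inv_inv] at this
    have h2 := inv_mem (hc' _ h1)
    have e : c⁻¹ * u * c⁻¹⁻¹ * u⁻¹ = (c * (c⁻¹ * u * c) * c⁻¹ * (c⁻¹ * u * c)⁻¹)⁻¹ := by group
    rw [e]
    exact h2

theorem mem_comm {H U A : Subgroup G} {hU : H ≤ normalizer (U : Set G)}
    {hA : H ≤ centralizer (A : Set G)} {c : G} :
    c ∈ comm H U A hU hA ↔ c ∈ H ∧ ∀ u ∈ U, c * u * c⁻¹ * u⁻¹ ∈ A := Iff.rfl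

theorem comm_le {H U A : Subgroup G} {hU : H ≤ normalizer (U : Set G)}
    {hA : H ≤ centralizer (A : Set G)} : comm H U A hU hA ≤ H := fun _ h => h.1

theorem le_normalizer_comm {H U A : Subgroup G} {hU : H ≤ normalizer (U : Set G)}
    {hA : H ≤ centralizer (A : Set G)} : H ≤ normalizer (comm H U A hU hA : Set G) := by
  refine le_normalizer_of_forall fun h hh c hc => ?_
  refine ⟨mul_mem (mul_mem hh hc.1) (inv_mem hh), fun u hu => ?_⟩
  have h1 : h⁻¹ * u * h ∈ U := by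
    have := conj_mem hU (inv_mem hh) hu
    rwa [inv_inv] at this
  have h2 := hc.2 _ h1
  have h3 := mem_centralizer_iff.1 (hA hh) _ h2
  have e : h * c * h⁻¹ * u * (h * c * h⁻¹)⁻¹ * u⁻¹ =
      h * (c * (h⁻¹ * u * h) * c⁻¹ * (h⁻¹ * u * h)⁻¹) * h⁻¹ := by group
  rw [e, ← h3, mul_assoc, mul_inv_cancel, mul_one]
  exact h2

/-- **(3) of #13906**: `U = ⟨X^H⟩`, `X` centralised by a Sylow 2-subgroup of `H`, `A ≤ U` of exponent 2,
central in `H`: every `f ∈ H` with `[f, U] ≤ A` centralises `U`. -/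
theorem mem_centralizer_of_comm [Finite G] {H T U A X : Subgroup G} (hTH : T ≤ H)
    (hTS : ¬ 2 ∣ T.relIndex H) (hTX : T ≤ centralizer (X : Set G)) (hXU : X ≤ U)
    (hUn : H ≤ normalizer (U : Set G))
    (hU : ∀ Y : Subgroup G, X ≤ Y → H ≤ normalizer (Y : Set G) → U ≤ Y)
    (hA : H ≤ centralizer (A : Set G)) (hA2 : ∀ a ∈ A, a * a = 1) {f : G} (hf : f ∈ H)
    (hfU : ∀ u ∈ U, f * u * f⁻¹ * u⁻¹ ∈ A) : f ∈ centralizer (U : Set G) := by
  refine le_centralizer_of_ext (N := comm H U A hUn hA) hTH hTS hTX comm_le le_normalizer_comm hXU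
    hUn hU ?_ ⟨hf, hfU⟩
  rintro c ⟨hc, hc'⟩
  refine ⟨1, ?_⟩
  rw [mem_centralizer_iff]
  intro u hu
  have h1 := hc' u hu
  have h2 := mem_centralizer_iff.1 (hA hc) _ h1
  -- `c u c⁻¹ = a u`
  have e : c ^ 2 ^ 1 * u * (c ^ 2 ^ 1)⁻¹ * u⁻¹ =
      (c * (c * u * c⁻¹ * u⁻¹) * c⁻¹) * (c * u * c⁻¹ * u⁻¹) := by
    rw [pow_one, pow_two]; group
  rw [← h2, mul_assoc _ c, mul_inv_cancel, mul_one, hA2 _ h1] at e
  have h3 : c ^ 2 ^ 1 * u * (c ^ 2 ^ 1)⁻¹ = u := mul_inv_eq_one.1 e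
  exact (mul_inv_eq_iff_eq_mul.1 h3).symm

/-! ### Lines -/

/-- `V^g ≤ O₂(C(a))` if `V ≤ O₂(C(a^(g⁻¹)))`. -/
theorem conj_le_o2 {V : Subgroup G} {g a : G} (h : V ≤ o2 (centralizer {g⁻¹ * a * g})) :
    MulAut.conj g • V ≤ o2 (centralizer {a}) := by
  have h1 : (centralizer ({g⁻¹ * a * g} : Set G)).map (MulAut.conj g).toMonoidHom =
      centralizer ({a} : Set G) := by
    ext x
    constructor
    · rintro ⟨y, hy, rfl⟩
      rw [SetLike.mem_coe, mem_centralizer_singleton_iff] at hy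
      rw [mem_centralizer_singleton_iff]
      change g * y * g⁻¹ * a = a * (g * y * g⁻¹)
      have e : g * y * g⁻¹ * a = g * (y * (g⁻¹ * a * g)) * g⁻¹ := by group
      rw [e, hy]
      group
    · intro hx
      rw [mem_centralizer_singleton_iff] at hx
      refine ⟨g⁻¹ * x * g, ?_, ?_⟩
      · rw [SetLike.mem_coe, mem_centralizer_singleton_iff]
        have e : g⁻¹ * x * g * (g⁻¹ * a * g) = g⁻¹ * (x * a) * g := by group
        rw [e, hx]
        group
      · change g * (g⁻¹ * x * g) * g⁻¹ = x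
        group
  rw [← h1, MinPar.o2_map_equiv]
  exact Subgroup.map_mono h

/-- `O₂(C(a))` lies in the Sylow 2-subgroup `S^g` if `a ∈ Z(S^g)`. -/
theorem o2_le_conj [Finite G] (S : Sylow 2 G) {g a : G} (h : g⁻¹ * a * g ∈ zc (S : Subgroup G)) :
    o2 (centralizer ({a} : Set G)) ≤ MulAut.conj g • (S : Subgroup G) := by
  have h1 : ((g • S : Sylow 2 G) : Subgroup G) = MulAut.conj g • (S : Subgroup G) := rfl
  have h2 : ((g • S : Sylow 2 G) : Subgroup G) ≤ centralizer ({a} : Set G) := by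
    rw [h1]
    intro x hx
    rw [NoFF.Basic.mem_conj] at hx
    rw [mem_centralizer_singleton_iff]
    have h3 := (mem_zc.1 h).2.1 _ hx
    have e : x * a = g * ((g⁻¹ * x * g) * (g⁻¹ * a * g)) * g⁻¹ := by group
    rw [e, h3]
    group
  rw [← h1]
  exact o2_le_of_sylow (g • S : Sylow 2 G).isPGroup' (MinSimple.Basic.not_dvd_relIndex _ h2)

/-- **The Z-type principle** ((4) of #13906): `a` central in the Sylow 2-subgroups `S^g`, `S^h`. -/
theorem le_normalizer_of_zType [Finite G] (S : Sylow 2 G) {V : Subgroup G}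
    (hSV : (S : Subgroup G) ≤ normalizer (V : Set G))
    (hZ : ∀ z ∈ zc (S : Subgroup G), z ≠ 1 → V ≤ o2 (centralizer {z})) {g h a : G} (ha : a ≠ 1)
    (hg : g⁻¹ * a * g ∈ zc (S : Subgroup G)) (hh : h⁻¹ * a * h ∈ zc (S : Subgroup G)) :
    MulAut.conj g • V ≤ normalizer ((MulAut.conj h • V : Subgroup G) : Set G) := by
  have h1 : g⁻¹ * a * g ≠ 1 := fun h => ha (by
    have h3 : a = g * (g⁻¹ * a * g) * g⁻¹ := by group
    rw [h3, h]; group)
  refine (conj_le_o2 (hZ _ hg h1)).trans ((o2_le_conj S hh).trans ?_)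
  rw [NoFF.Main.normalizer_conj]
  exact NoFF.Basic.conj_le_iff.2 hSV

/-- **(B2)**: `U` normal in `H`, `T ≤ H` contains `O₂(H)` and normalises `V ≤ H`; if `[U, V] = 1`,
`C_H(U) ≤ C` and `V ≤ O₂(C)`, then all conjugates of `V` under `H` normalise each other. -/
theorem lines_normalize {H U V C T : Subgroup G} (hU : H ≤ normalizer (U : Set G))
    (hC : H ⊓ centralizer (U : Set G) ≤ C) (hVH : V ≤ H) (hVU : V ≤ centralizer (U : Set G))
    (hV : V ≤ o2 C) (hT : o2 H ≤ T) (hTV : T ≤ normalizer (V : Set G)) {x y : G} (hx : x ∈ H)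
    (hy : y ∈ H) :
    MulAut.conj x • V ≤ normalizer ((MulAut.conj y • V : Subgroup G) : Set G) := by
  have h1 : V ≤ o2 H := lemmaU hU hC hVH hVU hV
  have h2 : ∀ z ∈ H, MulAut.conj z • o2 H = o2 H := fun z hz =>
    NoFF.Main.conj_eq_of_mem_normalizer (le_normalizer_o2 H hz)
  have h3 : MulAut.conj x • V ≤ o2 H := by
    rw [← h2 x hx]
    exact NoFF.Basic.conj_le_iff.2 h1
  refine h3.trans ?_
  rw [NoFF.Main.normalizer_conj, ← h2 y hy]
  exact NoFF.Basic.conj_le_iff.2 (hT.trans hTV)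

end Cfsg.Agent.Omega.NO3b.UMethod
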