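import Mathlib

/-!
# The dual offender (NO-3b, helper857)

`P = R S`, `S` a 2-group, `O = [O, R]` normal in `P`, `X` an elementary abelian normal 2-subgroup of `P`,
`H` a normal subgroup of `P` in `X` centralised by `R` and `O`, `[X, O] ≤ H`, `[X, O] ≠ 1`, and for every
normal subgroup `Y` of `P` with `H ≤ Y ≤ X` either `Y = H` or `[X, R] ≤ Y` (`X / H` irreducible, or: `X` has
only one noncentral chief factor, `H = C_X(R)`). Then `|Y : Y ∩ H| ≤ |O : C_O(Y)|` for EVERY subgroup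
`Y ≤ X`, and `C_X(O) = H`: `O` induces a quadratic FF-offender on every `O`-invariant subgroup `Y` of `X`
not contained in `H`. (helper857 #12910, in this generality helper329 #12800 (C2) (iii).)
-/

set_option autoImplicit false

namespace Cfsg.Agent.Omega.NO3b.Dual

open Subgroup
open scoped commutatorElement

section Homs

/-- At most `|B : K|` homomorphisms `B → ℚ` are trivial on `K`. -/
theorem card_homs_le {B ι : Type*} [Group B] [Finite B] (K : Subgroup B) (χ : ι → B →* ℚ)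
    (hinj : Function.Injective χ) (hK : ∀ i, ∀ k ∈ K, χ i k = 1) : Nat.card ι ≤ K.index := by
  classical
  have : Fintype (B ⧸ K) := Fintype.ofFinite _
  let f : ι → (B ⧸ K) → ℚ := fun i c => χ i c.out
  have hf : ∀ (i : ι) (b : B), f i (b : B ⧸ K) = χ i b := by
    intro i b
    obtain ⟨h, hh⟩ := QuotientGroup.mk_out_eq_mul K b
    show χ i ((b : B ⧸ K).out) = χ i b
    rw [hh, map_mul, hK i h h.2, mul_one]
  have hli : LinearIndependent ℚ (fun i => (χ i : B → ℚ)) :=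
    (linearIndependent_monoidHom B ℚ).comp χ hinj
  let L : ((B ⧸ K) → ℚ) →ₗ[ℚ] (B → ℚ) := LinearMap.funLeft ℚ ℚ (fun b : B => (b : B ⧸ K))
  have hli2 : LinearIndependent ℚ f := by
    refine LinearIndependent.of_comp L ?_
    have h1 : (L ∘ f) = fun i => (χ i : B → ℚ) := by
      funext i b
      exact hf i b
    rw [h1]
    exact hli
  have h2 := hli2.finite
  have : Fintype ι := Fintype.ofFinite _
  have h3 := hli2.fintype_card_le_finrank
  rw [Module.finrank_fintype_fun_eq_card] at h3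
  rw [Nat.card_eq_fintype_card, Subgroup.index, Nat.card_eq_fintype_card]
  exact h3

end Homs

variable {G : Type*} [Group G]

/-- In a 2-group, `[M, P] < M` for `1 ≠ M` normal. -/
theorem commutator_lt {P M : Subgroup G} (hP : Group.IsNilpotent P)
    (hMP : M ≤ P) (hM : P ≤ normalizer (M : Set G)) (hM1 : M ≠ ⊥) : ⁅M, P⁆ < M := by
  have hle : ⁅M, P⁆ ≤ M := (le_normalizer_iff_commutator_le_left).1 hM
  refine lt_of_le_of_ne hle ?_
  intro h
  obtain ⟨n, hn⟩ := (Subgroup.isNilpotent_iff_lowerCentralSeries P).1 hP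
  have key : ∀ k : ℕ, M ≤ P.lowerCentralSeries k := by
    intro k
    induction k with
    | zero => exact hMP
    | succ k ih =>
      rw [Subgroup.lowerCentralSeries_succ, ← h]
      exact commutator_mono ih le_rfl
  have := key n
  rw [hn] at this
  exact hM1 (le_bot_iff.1 this)

/-- A proper subgroup of a 2-group lies in a subgroup of index 2. -/
theorem exists_two {D E : Subgroup G} [Finite G] (hD : IsPGroup 2 D) (hE : E < D) :
    ∃ M : Subgroup G, E ≤ M ∧ M ≤ D ∧ M.relIndex D = 2 := by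
  have := Fact.mk Nat.prime_two
  obtain ⟨n, hn⟩ := IsPGroup.iff_card.1 hD
  have hH2 : IsPGroup 2 (E.subgroupOf D) := hD.to_subgroup _
  obtain ⟨m, hm⟩ := IsPGroup.iff_card.1 hH2
  have hEc : Nat.card (E.subgroupOf D) = Nat.card E :=
    Nat.card_congr (Subgroup.subgroupOfEquivOfLe hE.le).toEquiv
  have hlt : Nat.card E < Nat.card D := by
    refine lt_of_le_of_ne (Subgroup.card_le_of_le hE.le) ?_
    intro h
    exact hE.ne (Subgroup.eq_of_le_of_card_ge hE.le h.ge)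
  have hmn : m < n := by
    rw [← hEc, hm, hn] at hlt
    exact (Nat.pow_lt_pow_iff_right (by norm_num)).1 hlt
  obtain ⟨K, hK, hHK⟩ := Sylow.exists_subgroup_card_pow_prime_le (G := D) 2 (n := m) (m := n - 1)
    (by rw [hn]; exact pow_dvd_pow 2 (by omega)) (E.subgroupOf D) hm (by omega)
  have hidx : K.index = 2 := by
    have h1 := K.card_mul_index
    rw [hK, hn] at h1
    have h2 : 2 ^ n = 2 ^ (n - 1) * 2 := by
      rw [← pow_succ]
      congr 1
      omega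
    rw [h2] at h1
    exact Nat.eq_of_mul_eq_mul_left (by positivity) h1
  refine ⟨K.map D.subtype, ?_, Subgroup.map_subtype_le K, ?_⟩
  · intro h hh
    exact ⟨⟨h, hE.le hh⟩, hHK (by rw [Subgroup.mem_subgroupOf]; exact hh), rfl⟩
  · have h1 : (K.map D.subtype).subgroupOf D = K :=
      Subgroup.comap_map_eq_self_of_injective D.subtype_injective K
    rw [Subgroup.relIndex, h1]
    exact hidx

/-- A nontrivial 2-group normalised by a 2-group `S` has an `S`-invariant subgroup of index 2. -/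
theorem exists_inv_two [Finite G] {S D : Subgroup G} (hS : IsPGroup 2 S) (hD : IsPGroup 2 D)
    (hSD : S ≤ normalizer (D : Set G)) (hD1 : D ≠ ⊥) :
    ∃ M : Subgroup G, M ≤ D ∧ S ≤ normalizer (M : Set G) ∧ M.relIndex D = 2 := by
  have := Fact.mk Nat.prime_two
  have hT : IsPGroup 2 (D ⊔ S : Subgroup G) := hD.to_sup_of_normal_left' hS hSD
  have hTn : Group.IsNilpotent (D ⊔ S : Subgroup G) := hT.isNilpotent
  have hDN : D ⊔ S ≤ normalizer (D : Set G) := sup_le le_normalizer hSD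
  have h1 := commutator_lt hTn le_sup_left hDN hD1
  obtain ⟨M, hM1, hM2, hM3⟩ := exists_two hD h1
  refine ⟨M, hM2, ?_, hM3⟩
  have h2 : S ≤ normalizer (M : Set G) := by
    intro s hs
    have h3 : ∀ m ∈ M, ∀ t ∈ S, t * m * t⁻¹ ∈ M := by
      intro m hm t ht
      have h4 : ⁅m, t⁆ ∈ M := hM1 (commutator_mem_commutator (hM2 hm) (mem_sup_right ht))
      have h5 : t * m * t⁻¹ = ⁅m, t⁆⁻¹ * m := by rw [commutatorElement_def]; group
      rw [h5]
      exact M.mul_mem (M.inv_mem h4) hm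
    rw [mem_normalizer_iff]
    intro m
    refine ⟨fun hm => h3 m hm s hs, fun hm => ?_⟩
    have h6 := h3 _ hm s⁻¹ (S.inv_mem hs)
    have h7 : s⁻¹ * (s * m * s⁻¹) * s⁻¹⁻¹ = m := by group
    rwa [h7] at h6
  exact h2

/-- `T` normalises `Y` as soon as `t y t⁻¹ ∈ Y`. -/
theorem le_norm {T Y : Subgroup G} (h : ∀ t ∈ T, ∀ y ∈ Y, t * y * t⁻¹ ∈ Y) :
    T ≤ normalizer (Y : Set G) := by
  intro t ht
  rw [mem_normalizer_iff]
  intro y
  refine ⟨fun hy => h t ht y hy, fun hy => ?_⟩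
  have h1 := h t⁻¹ (T.inv_mem ht) _ hy
  have h2 : t⁻¹ * (t * y * t⁻¹) * t⁻¹⁻¹ = y := by group
  rwa [h2] at h1

theorem norm_mem {T Y : Subgroup G} (h : T ≤ normalizer (Y : Set G)) {t y : G} (ht : t ∈ T)
    (hy : y ∈ Y) : t * y * t⁻¹ ∈ Y := (mem_normalizer_iff.mp (h ht) y).mp hy

theorem norm_mem' {T Y : Subgroup G} (h : T ≤ normalizer (Y : Set G)) {t y : G} (ht : t ∈ T)
    (hy : y ∈ Y) : t⁻¹ * y * t ∈ Y := by
  have h1 := norm_mem h (T.inv_mem ht) hy
  rwa [inv_inv] at h1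

/-- The hypotheses of the dual offender lemma. -/
structure Dat (R S O X H : Subgroup G) : Prop where
  sq : ∀ x ∈ X, x * x = 1
  le : H ≤ X
  two : IsPGroup 2 S
  rH : ∀ r ∈ R, ∀ h ∈ H, r * h = h * r
  oH : ∀ o ∈ O, ∀ h ∈ H, o * h = h * o
  rX : R ≤ normalizer (X : Set G)
  sX : S ≤ normalizer (X : Set G)
  rO : R ≤ normalizer (O : Set G)
  sO : S ≤ normalizer (O : Set G)
  sH : S ≤ normalizer (H : Set G)
  comm : ∀ x ∈ X, ∀ o ∈ O, ⁅x, o⁆ ∈ H
  irr : ∀ Y : Subgroup G, H ≤ Y → Y ≤ X → R ≤ normalizer (Y : Set G) → S ≤ normalizer (Y : Set G) →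
    Y = H ∨ ⁅X, R⁆ ≤ Y
  OO : O ≤ ⁅O, R⁆
  ne : ∃ x ∈ X, ∃ o ∈ O, x * o ≠ o * x

namespace Dat

variable {R S O X H : Subgroup G}

theorem ab (h : Dat R S O X H) {x y : G} (hx : x ∈ X) (hy : y ∈ X) : x * y = y * x := by
  have h1 := h.sq _ (X.mul_mem hx hy)
  have h2 := h.sq _ hx
  have h3 := h.sq _ hy
  have e1 : x⁻¹ = x := inv_eq_of_mul_eq_one_left h2
  have e2 : y⁻¹ = y := inv_eq_of_mul_eq_one_left h3
  have h4 : x * y = (x * y)⁻¹ := (inv_eq_of_mul_eq_one_left h1).symm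
  rw [h4, mul_inv_rev, e1, e2]

theorem conj_eq (h : Dat R S O X H) {x y : G} (hx : x ∈ X) (hy : y ∈ X) : x * y * x⁻¹ = y := by
  rw [h.ab hx hy, mul_inv_cancel_right]

/-- `[x y, o] = [x, o] [y, o]`. -/
theorem comm_mul_left (h : Dat R S O X H) {x y o : G} (hx : x ∈ X) (hy : y ∈ X) (ho : o ∈ O) :
    ⁅x * y, o⁆ = ⁅x, o⁆ * ⁅y, o⁆ := by
  have h1 := h.comm y hy o ho
  have h2 := h.conj_eq hx (h.le h1)
  have h3 := h.ab (h.le (h.comm x hx o ho)) (h.le h1)
  have e : ⁅x * y, o⁆ = (x * ⁅y, o⁆ * x⁻¹) * ⁅x, o⁆ := by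
    simp only [commutatorElement_def]; group
  rw [e, h2, ← h3]

/-- `[x, o o'] = [x, o] [x, o']`. -/
theorem comm_mul_right (h : Dat R S O X H) {x o o' : G} (hx : x ∈ X) (ho : o ∈ O) (ho' : o' ∈ O) :
    ⁅x, o * o'⁆ = ⁅x, o⁆ * ⁅x, o'⁆ := by
  have h2 := h.oH o ho _ (h.comm x hx o' ho')
  have e : ⁅x, o * o'⁆ = ⁅x, o⁆ * (o * ⁅x, o'⁆ * o⁻¹) := by
    simp only [commutatorElement_def]; group
  rw [e, h2, mul_inv_cancel_right]

/-- A property of pairs: invariance under conjugation by `r ∈ R` (here `R` centralises `H`). -/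
theorem comm_conj_r (h : Dat R S O X H) {x o r : G} (hx : x ∈ X) (ho : o ∈ O) (hr : r ∈ R) :
    ⁅r * x * r⁻¹, o⁆ = ⁅x, r⁻¹ * o * r⁆ := by
  have h1 := h.rH r hr _ (h.comm x hx _ (norm_mem' h.rO hr ho))
  have e : ⁅r * x * r⁻¹, o⁆ = r * ⁅x, r⁻¹ * o * r⁆ * r⁻¹ := by
    simp only [commutatorElement_def]; group
  rw [e, h1, mul_inv_cancel_right]

/-- Transport of `[X, R] ≤ Y` to `O = [O, R]`: if `D ≤ H` and `[[x, r], o] ∈ D` always, then `[x, o] ∈ D`
always. -/
theorem all_of (h : Dat R S O X H) {D : Subgroup G} (hD : D ≤ X)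
    (hc : ∀ x ∈ X, ∀ r ∈ R, ∀ o ∈ O, ⁅⁅x, r⁆, o⁆ ∈ D) : ∀ x ∈ X, ∀ o ∈ O, ⁅x, o⁆ ∈ D := by
  intro x hx
  -- the subgroup of all `o ∈ O` with `[x, o] ∈ D`
  let K : Subgroup G :=
    { carrier := {o | o ∈ O ∧ ⁅x, o⁆ ∈ D}
      one_mem' := ⟨O.one_mem, by rw [commutatorElement_one_right]; exact D.one_mem⟩
      mul_mem' := by
        rintro o o' ⟨h1, h2⟩ ⟨h3, h4⟩
        exact ⟨O.mul_mem h1 h3, by rw [h.comm_mul_right hx h1 h3]; exact D.mul_mem h2 h4⟩
      inv_mem' := by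
        rintro o ⟨h1, h2⟩
        refine ⟨O.inv_mem h1, ?_⟩
        have h3 := h.comm_mul_right hx h1 (O.inv_mem h1)
        rw [mul_inv_cancel, commutatorElement_one_right] at h3
        have h4 : ⁅x, o⁻¹⁆ = ⁅x, o⁆⁻¹ := (inv_eq_of_mul_eq_one_right h3.symm).symm
        rw [h4]; exact D.inv_mem h2 }
  have hK : (⁅O, R⁆ : Subgroup G) ≤ K := by
    rw [commutator_le]
    intro o ho r hr
    have ho' := norm_mem h.rO hr ho
    have h0 : ⁅o, r⁆ = o * (r * o⁻¹ * r⁻¹) := by simp only [commutatorElement_def]; group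
    have ho2 := norm_mem h.rO hr (O.inv_mem ho)
    refine ⟨by rw [h0]; exact O.mul_mem ho ho2, ?_⟩
    -- `[x, r o⁻¹ r⁻¹] = [r⁻¹ x r, o⁻¹]`
    have h1 := h.comm_conj_r (x := x) (o := o⁻¹) (r := r⁻¹) hx (O.inv_mem ho) (R.inv_mem hr)
    rw [inv_inv] at h1
    have h2 : r⁻¹ * x * r = ⁅x, r⁻¹⁆⁻¹ * x := by simp only [commutatorElement_def]; group
    have h3 := hc x hx r⁻¹ (R.inv_mem hr) o ho
    have hxr : ⁅x, r⁻¹⁆ ∈ X := by
      have : ⁅x, r⁻¹⁆ = x * (r⁻¹ * x⁻¹ * r) := by simp only [commutatorElement_def]; group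
      rw [this]
      exact X.mul_mem hx (norm_mem' h.rX hr (X.inv_mem hx))
    -- `[x, o⁻¹]` in terms of `[r⁻¹ x r, o⁻¹]`
    have e1 : (⁅x, r⁻¹⁆ : G)⁻¹ = ⁅x, r⁻¹⁆ := inv_eq_of_mul_eq_one_left (h.sq _ hxr)
    have h4 := h.comm_mul_left hxr hx (O.inv_mem ho)
    rw [h2, e1, h4] at h1
    have h5 := h.comm_mul_right hx ho ho2
    rw [← h0, ← h1] at h5
    have h6 := h.comm_mul_right hx ho (O.inv_mem ho)
    rw [mul_inv_cancel, commutatorElement_one_right] at h6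
    have h7 := h.comm_mul_right hxr ho (O.inv_mem ho)
    rw [mul_inv_cancel, commutatorElement_one_right] at h7
    have h8 : ⁅⁅x, r⁻¹⁆, o⁻¹⁆ = ⁅⁅x, r⁻¹⁆, o⁆⁻¹ := (inv_eq_of_mul_eq_one_right h7.symm).symm
    have h9 := h.ab (h.le (h.comm x hx o ho)) (h.le (h.comm _ hxr _ (O.inv_mem ho)))
    have h10 : ⁅x, ⁅o, r⁆⁆ = ⁅⁅x, r⁻¹⁆, o⁻¹⁆ := by
      rw [h5, ← mul_assoc, h9, mul_assoc, ← h6, mul_one]
    rw [h10, h8]
    exact D.inv_mem h3
  intro o ho
  exact (hK (h.OO ho)).2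

/-- `C_X(O) = H`. -/
theorem mem_of_comm (h : Dat R S O X H) {y : G} (hy : y ∈ X) (hc : ∀ o ∈ O, y * o = o * y) :
    y ∈ H := by
  have key : ∀ T : Subgroup G, T ≤ normalizer (X : Set G) → T ≤ normalizer (O : Set G) →
      T ≤ normalizer ((X ⊓ centralizer (O : Set G) : Subgroup G) : Set G) := by
    intro T hTX hTO
    refine le_norm fun t ht x hx => ⟨norm_mem hTX ht hx.1, fun o ho => ?_⟩
    have h1 := hx.2 _ (norm_mem' hTO ht ho)
    calc o * (t * x * t⁻¹) = t * ((t⁻¹ * o * t) * x) * t⁻¹ := by group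
      _ = t * (x * (t⁻¹ * o * t)) * t⁻¹ := by rw [h1]
      _ = t * x * t⁻¹ * o := by group
  have h1 : X ⊓ centralizer (O : Set G) = H ∨ ⁅X, R⁆ ≤ X ⊓ centralizer (O : Set G) := by
    refine h.irr _ (fun x hx => ⟨h.le hx, ?_⟩) inf_le_left (key R h.rX h.rO) (key S h.sX h.sO)
    exact fun o ho => h.oH o ho x hx
  rcases h1 with h1 | h1
  · rw [← h1]
    exact ⟨hy, fun o ho => (hc o ho).symm⟩
  · obtain ⟨x, hx, o, ho, hxo⟩ := h.ne
    have h2 := h.all_of (D := ⊥) bot_le (fun x hx r hr o ho => by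
      rw [mem_bot, commutatorElement_eq_one_iff_mul_comm]
      exact ((h1 (commutator_mem_commutator hx hr)).2 o ho).symm) x hx o ho
    rw [mem_bot, commutatorElement_eq_one_iff_mul_comm] at h2
    exact absurd h2 hxo

/-- The `P`-invariant hyperplane of `[X, O]`. -/
theorem exists_hyp [Finite G] (h : Dat R S O X H) :
    ∃ D : Subgroup G, ⁅X, O⁆ ≤ H ∧ D ≤ ⁅X, O⁆ ∧ D.relIndex ⁅X, O⁆ = 2 ∧ S ≤ normalizer (D : Set G) := by
  have h1 : ⁅X, O⁆ ≤ H := by
    rw [commutator_le]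
    exact fun x hx o ho => h.comm x hx o ho
  have h2 : IsPGroup 2 (⁅X, O⁆ : Subgroup G) := by
    intro g
    refine ⟨1, Subtype.ext ?_⟩
    have := h.sq _ (h.le (h1 g.2))
    simp only [pow_one, Subgroup.coe_pow, Subgroup.coe_one]
    rw [pow_two]
    exact this
  have h3 : S ≤ normalizer ((⁅X, O⁆ : Subgroup G) : Set G) := by
    intro s hs
    have hsX := h.sX hs
    have hsO := h.sO hs
    rw [mem_normalizer_iff_map_conj_eq] at hsX hsO ⊢
    rw [map_commutator, hsX, hsO]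
  have h4 : (⁅X, O⁆ : Subgroup G) ≠ ⊥ := by
    intro h5
    obtain ⟨x, hx, o, ho, hxo⟩ := h.ne
    have h6 : ⁅x, o⁆ ∈ (⁅X, O⁆ : Subgroup G) := commutator_mem_commutator hx ho
    rw [h5, mem_bot, commutatorElement_eq_one_iff_mul_comm] at h6
    exact hxo h6
  obtain ⟨M, hM1, hM2, hM3⟩ := exists_inv_two h.two h2 h3 h4
  exact ⟨M, h1, hM1, hM3, hM2⟩

/-- **Lemma D.** `|Y : Y ∩ H| ≤ |O : C_O(Y)|` for every subgroup `Y` of `X`. -/
theorem relIndex_le [Finite G] (h : Dat R S O X H) {Y : Subgroup G} (hY : Y ≤ X) :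
    H.relIndex Y ≤ (centralizer (Y : Set G)).relIndex O := by
  classical
  obtain ⟨D, hXO, hD, hD2, hSD⟩ := h.exists_hyp
  -- the parity
  have par : ∀ {a b : G}, a ∈ (⁅X, O⁆ : Subgroup G) → b ∈ (⁅X, O⁆ : Subgroup G) →
      (a * b ∈ D ↔ (a ∈ D ↔ b ∈ D)) := by
    intro a b ha hb
    have h1 := Subgroup.mul_mem_iff_of_index_two (H := D.subgroupOf ⁅X, O⁆) hD2
      (a := ⟨a, ha⟩) (b := ⟨b, hb⟩)
    exact h1
  have cm : ∀ {x o : G}, x ∈ X → o ∈ O → ⁅x, o⁆ ∈ (⁅X, O⁆ : Subgroup G) :=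
    fun hx ho => commutator_mem_commutator hx ho
  -- the left radical is `H`
  let X0 : Subgroup G :=
    { carrier := {x | x ∈ X ∧ ∀ o ∈ O, ⁅x, o⁆ ∈ D}
      one_mem' := ⟨X.one_mem, fun o _ => by rw [commutatorElement_one_left]; exact D.one_mem⟩
      mul_mem' := by
        rintro x y ⟨hx, hx1⟩ ⟨hy, hy1⟩
        exact ⟨X.mul_mem hx hy, fun o ho => by
          rw [h.comm_mul_left hx hy ho]; exact D.mul_mem (hx1 o ho) (hy1 o ho)⟩
      inv_mem' := by
        rintro x ⟨hx, hx1⟩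
        have e1 : x⁻¹ = x := inv_eq_of_mul_eq_one_left (h.sq x hx)
        exact ⟨X.inv_mem hx, fun o ho => by rw [e1]; exact hx1 o ho⟩ }
  have hX0 : X0 = H := by
    have h1 : X0 = H ∨ ⁅X, R⁆ ≤ X0 := by
      refine h.irr X0 ?_ (fun x hx => hx.1) ?_ ?_
      · intro x hx
        refine ⟨h.le hx, fun o ho => ?_⟩
        have h2 : ⁅x, o⁆ = 1 := by
          rw [commutatorElement_eq_one_iff_mul_comm]; exact (h.oH o ho x hx).symm
        rw [h2]; exact D.one_mem
      · refine le_norm fun r hr x hx => ⟨norm_mem h.rX hr hx.1, fun o ho => ?_⟩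
        rw [h.comm_conj_r hx.1 ho hr]
        exact hx.2 _ (norm_mem' h.rO hr ho)
      · refine le_norm fun s hs x hx => ⟨norm_mem h.sX hs hx.1, fun o ho => ?_⟩
        have h2 := norm_mem hSD hs (hx.2 _ (norm_mem' h.sO hs ho))
        have e : ⁅s * x * s⁻¹, o⁆ = s * ⁅x, s⁻¹ * o * s⁆ * s⁻¹ := by
          simp only [commutatorElement_def]; group
        rw [e]; exact h2
    rcases h1 with h1 | h1
    · exact h1
    · exfalso
      have h2 : (⁅X, O⁆ : Subgroup G) ≤ D := by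
        rw [commutator_le]
        exact h.all_of (hD.trans (hXO.trans h.le)) (fun x hx r hr o ho =>
          (h1 (commutator_mem_commutator hx hr)).2 o ho)
      have h3 := Subgroup.relIndex_eq_one.mpr h2
      omega
  -- the characters
  let ch : Y → O →* ℚ := fun y =>
    { toFun := fun o => if ⁅(y : G), (o : G)⁆ ∈ D then 1 else -1
      map_one' := by
        have : ⁅(y : G), ((1 : O) : G)⁆ ∈ D := by
          rw [Subgroup.coe_one, commutatorElement_one_right]; exact D.one_mem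
        rw [if_pos this]
      map_mul' := by
        intro o o'
        have h1 := h.comm_mul_right (hY y.2) o.2 o'.2
        have h2 := par (cm (hY y.2) o.2) (cm (hY y.2) o'.2)
        rw [← h1] at h2
        rw [Subgroup.coe_mul]
        by_cases c1 : ⁅(y : G), (o : G)⁆ ∈ D <;> by_cases c2 : ⁅(y : G), (o' : G)⁆ ∈ D
        · rw [if_pos c1, if_pos c2, if_pos (h2.mpr (by simp [c1, c2]))]; norm_num
        · rw [if_pos c1, if_neg c2, if_neg (fun hh => by have := h2.mp hh; simp [c1, c2] at this)]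
          norm_num
        · rw [if_neg c1, if_pos c2, if_neg (fun hh => by have := h2.mp hh; simp [c1, c2] at this)]
          norm_num
        · rw [if_neg c1, if_neg c2, if_pos (h2.mpr (by simp [c1, c2]))]; norm_num }
  have hch : ∀ (y : Y) (o : O), ch y o = if ⁅(y : G), (o : G)⁆ ∈ D then 1 else -1 := fun _ _ => rfl
  have hinj : ∀ y y' : Y, ch y = ch y' → (y : G)⁻¹ * y' ∈ H := by
    intro y y' hyy
    rw [← hX0]
    refine ⟨X.mul_mem (X.inv_mem (hY y.2)) (hY y'.2), fun o ho => ?_⟩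
    have e1 : (y : G)⁻¹ = y := inv_eq_of_mul_eq_one_left (h.sq _ (hY y.2))
    rw [e1, h.comm_mul_left (hY y.2) (hY y'.2) ho, par (cm (hY y.2) ho) (cm (hY y'.2) ho)]
    have h1 := DFunLike.congr_fun hyy ⟨o, ho⟩
    rw [hch, hch] at h1
    by_cases c1 : ⁅(y : G), o⁆ ∈ D <;> by_cases c2 : ⁅(y' : G), o⁆ ∈ D
    · simp [c1, c2]
    · rw [if_pos c1, if_neg c2] at h1; norm_num at h1
    · rw [if_neg c1, if_pos c2] at h1; norm_num at h1
    · simp [c1, c2]
  have h5 := card_homs_le (B := O) ((centralizer (Y : Set G)).subgroupOf O)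
    (ι := Y ⧸ (H.subgroupOf Y)) (fun c => ch c.out) ?_ ?_
  · exact h5
  · intro c c' hcc
    have h6 := hinj _ _ hcc
    rw [← QuotientGroup.out_eq' c, ← QuotientGroup.out_eq' c', QuotientGroup.eq]
    rw [Subgroup.mem_subgroupOf]
    exact h6
  · intro c k hk
    rw [Subgroup.mem_subgroupOf] at hk
    have h6 : ⁅((c.out : Y) : G), (k : G)⁆ = 1 := by
      rw [commutatorElement_eq_one_iff_mul_comm]
      exact hk _ (c.out : Y).2
    show (if ⁅((c.out : Y) : G), (k : G)⁆ ∈ D then (1 : ℚ) else -1) = 1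
    rw [h6, if_pos D.one_mem]

end Dat

end Cfsg.Agent.Omega.NO3b.Dual
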