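import Cfsg.Agent.Omega.NO3b.NoEmp
import Cfsg.Agent.Omega.NO3b.K0.Main
import Cfsg.Agent.Omega.NO3b.K0.Bridge
import Cfsg.Agent.Omega.NO3b.K0.FullOff

/-!
# NotFF, case ALPHA: the end (helper1 #15791 (3), (4); helper510 #15927 END)

`Lines S J V` (`NoEmp.lean`): `J ≤ S` weakly closed, `N_G(J) ≤ N_G(V)`, `V` elementary abelian, not FF,
`Z = Ω₁(Z(S)) ≤ V ≤ O₂(C_G(Z))`. Suppose `C_G(Z) ≰ N_G(V)`.

* `Fl S V F T` : `F` is maximal among the `1 ≠ F ≤ V` with `C_G(F) ≰ N_G(V)`, `T = C_S(F) ∈ Syl₂(C_G(F))`;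
  `exists_fl`;
* `exists_par` : `X ≤ C_G(F)` minimal over `T` with `X ≰ N_G(V)`;
* `base` : all fields of `K0.Base V F T X (N_G(Q₀)) Q₀`, `Q₀ = C_S(V)`, if no nontrivial 2-subgroup is normalised
  by `N_G(Q₀)` and `X`;
* `local_or` : **the end**: some nontrivial 2-subgroup is normalised by `N_G(C_S(V))` and `X`, or
  `C_U(T) ≰ C(O²(X))`, `U = ⟨V^X⟩`.
-/

set_option autoImplicit false

namespace Cfsg.Agent.Omega.NO3b.Alpha

open Subgroup Cfsg Cfsg.Agent.ZN Cfsg.Agent.ZN.ChoiceBase Cfsg.Agent.ZN.ChoiceSit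
open Cfsg.Agent.Omega.NO3b.EZero Cfsg.Agent.Omega.NO3b.NoEmp Cfsg.Agent.Omega.NO3b.K0
open Cfsg.Agent.MinSimple.EmptyTI (syl_of_le)
open Cfsg.Agent.MinSimple.MinParabolic (IsMinPar)
open Cfsg.Agent.MinSimple.VModule (oddGen oddGen_le mem_oddGen le_normalizer_oddGen oddGen_le_of_sup)

universe u

variable {G : Type u} [Group G]

/-- `F` is maximal among the `1 ≠ F ≤ V` with `C_G(F) ≰ N_G(V)`, `T ≤ S` is a Sylow 2-subgroup of `C_G(F)`. -/
structure Fl [Finite G] (S : Sylow 2 G) (V F T : Subgroup G) : Prop where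
  ne : F ≠ ⊥
  le : F ≤ V
  nle : ¬ centralizer (F : Set G) ≤ normalizer (V : Set G)
  max : ∀ D : Subgroup G, F ≤ D → D ≤ V → ¬ centralizer (D : Set G) ≤ normalizer (V : Set G) → D = F
  T_le : T ≤ (S : Subgroup G)
  syl : Syl T (centralizer (F : Set G))

variable [Finite G] {S : Sylow 2 G} {J V F T X : Subgroup G}

section lines

variable (h : Lines S J V)
include h

omit h [Finite G] in
theorem zc_cent : (S : Subgroup G) ≤ centralizer (zc (S : Subgroup G) : Set G) := by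
  intro s hs
  rw [mem_centralizer_iff]
  exact fun z hz => ((ChoiceBase.mem_zc.1 hz).2.2 s hs).symm

theorem V_le_S : V ≤ (S : Subgroup G) := h.low.trans (o2_le_syl (syl_of_le zc_cent))

theorem V_le_Q0 : V ≤ (S : Subgroup G) ⊓ centralizer (V : Set G) := le_inf (V_le_S h) h.comm

theorem J_le_Q0 : J ≤ (S : Subgroup G) ⊓ centralizer (V : Set G) := le_inf h.JS h.JV

/-- a 2-group `T ≥ J` is normalised... : `N_G(T) ≤ N_G(J)` -/
theorem normalizer_le {T : Subgroup G} (hTS : T ≤ (S : Subgroup G)) (hJ : J ≤ T) :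
    normalizer (T : Set G) ≤ normalizer (J : Set G) := by
  intro t ht
  rw [mem_normalizer_iff_cj]
  refine h.wc t ?_
  have h1 := cj_mono t hJ
  rw [mem_normalizer_iff_cj.1 ht] at h1
  exact h1.trans hTS

theorem L0_le : normalizer (((S : Subgroup G) ⊓ centralizer (V : Set G) : Subgroup G) : Set G) ≤
    normalizer (V : Set G) := (normalizer_le h inf_le_left (J_le_Q0 h)).trans h.NJ

theorem S_le_L0 : (S : Subgroup G) ≤
    normalizer (((S : Subgroup G) ⊓ centralizer (V : Set G) : Subgroup G) : Set G) := by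
  intro s hs
  rw [mem_normalizer_iff_cj, cj_inf, cj_centralizer, mem_normalizer_iff_cj.1 (h.S_le hs)]
  congr 1
  exact cj_eq_of_mem_normalizer (Subgroup.le_normalizer hs)

/-- `C_S(V)` is a Sylow 2-subgroup of `C_G(V)` -/
theorem syl_Q0 : Syl ((S : Subgroup G) ⊓ centralizer (V : Set G)) (centralizer (V : Set G)) := by
  refine ⟨inf_le_right, isPGroup_Q0, fun Q hQ hp hle => ?_⟩
  have hQL : Q ≤ normalizer (V : Set G) := hQ.trans (centralizer_le_normalizer _)
  obtain ⟨T, hT, hQT⟩ := exists_syl hp hQL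
  obtain ⟨x, hx, hxT⟩ := syl_conj hT (syl_of_le h.S_le)
  have h1 : cj x Q ≤ (S : Subgroup G) ⊓ centralizer (V : Set G) := by
    refine le_inf ?_ ?_
    · rw [← hxT]; exact cj_mono x hQT
    · have h2 := cj_mono x hQ
      rwa [cj_centralizer, mem_normalizer_iff_cj.1 hx] at h2
  have h2 := card_le_of_le h1
  rw [card_cj] at h2
  exact (eq_of_le_of_card_ge hle h2).symm

theorem le_Q0 {R : Subgroup G} (hR : IsPGroup 2 R)
    (h1 : R ≤ normalizer (((S : Subgroup G) ⊓ centralizer (V : Set G) : Subgroup G) : Set G))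
    (h2 : R ≤ centralizer (V : Set G)) : R ≤ (S : Subgroup G) ⊓ centralizer (V : Set G) := by
  have h3 : IsPGroup 2 (((S : Subgroup G) ⊓ centralizer (V : Set G)) ⊔ R : Subgroup G) := by
    rw [sup_comm]
    exact hR.to_sup_of_normal_right' isPGroup_Q0 h1
  have h4 := (syl_Q0 h).2.2 _ (sup_le inf_le_right h2) h3 le_sup_left
  exact le_sup_right.trans h4.le

/-- **(2)** A line through `D ≤ V` is `V^c`, `c ∈ C_G(D)`. -/
theorem exists_c {D : Subgroup G} (hD : D ≤ V) {g : G} (hDg : D ≤ cj g V) :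
    ∃ c ∈ centralizer (D : Set G), cj c V = cj g V := by
  have h1 : cj 1 J ≤ centralizer (D : Set G) := by
    rw [cj_one]; exact h.JV.trans (centralizer_le hD)
  have h2 : cj g J ≤ centralizer (D : Set G) := (cj_cent h.JV).trans (centralizer_le hDg)
  obtain ⟨x, hx, hxg⟩ := h.exists_conj h1 h2
  rw [cj_one] at hxg
  exact ⟨x, hx, hxg⟩

theorem S_ne (hnz : ¬ centralizer (zc (S : Subgroup G) : Set G) ≤ normalizer (V : Set G)) :
    (S : Subgroup G) ≠ ⊥ := by
  intro h0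
  apply hnz
  have h1 : V = ⊥ := le_bot_iff.1 ((V_le_S h).trans h0.le)
  rw [h1]
  intro x _
  rw [mem_normalizer_iff_cj]
  exact Subgroup.map_bot _

/-- **`F` exists**, above a given `F₀`. -/
theorem exists_fl_of {F₀ : Subgroup G} (hne : F₀ ≠ ⊥) (hle : F₀ ≤ V)
    (hnz : ¬ centralizer (F₀ : Set G) ≤ normalizer (V : Set G)) :
    ∃ (F T : Subgroup G) (l : G), Fl S V F T ∧ l ∈ normalizer (V : Set G) ∧ F₀ ≤ cj l F := by
  obtain ⟨F, hF, hmax⟩ := Set.exists_max_image
    {F : Subgroup G | F₀ ≤ F ∧ F ≤ V ∧ ¬ centralizer (F : Set G) ≤ normalizer (V : Set G)}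
    (fun F => Nat.card F) (Set.toFinite _) ⟨F₀, le_rfl, hle, hnz⟩
  have hJ : J ≤ centralizer (F : Set G) := h.JV.trans (centralizer_le hF.2.1)
  obtain ⟨T, hT, hJT⟩ := exists_syl (S.isPGroup'.to_le h.JS) hJ
  obtain ⟨l, hTl, hlJ, hlV⟩ := h.exists_point hT.2.1 (a := 1) (by rw [cj_one]; exact hJT)
  rw [cj_one] at hlV
  have hl' : l ∈ normalizer (V : Set G) := mem_normalizer_iff_cj.2 hlV
  have hli : cj l⁻¹ V = V := mem_normalizer_iff_cj.1 (inv_mem hl')
  refine ⟨cj l⁻¹ F, cj l⁻¹ T, l, ⟨?_, ?_, ?_, ?_, ?_, ?_⟩, hl', ?_⟩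
  · intro h0
    apply hne
    have h1 := congrArg (cj l) h0
    rw [cj_cj_inv] at h1
    have h2 : F = ⊥ := h1.trans (Subgroup.map_bot _)
    exact le_bot_iff.1 (hF.1.trans h2.le)
  · have h1 := cj_mono l⁻¹ hF.2.1
    rwa [hli] at h1
  · intro h0
    apply hF.2.2
    have h1 := cj_mono l h0
    rw [cj_centralizer, cj_cj_inv] at h1
    refine h1.trans ?_
    have h2 := cj_norm (g := l) (le_refl (normalizer (V : Set G)))
    rwa [hlV] at h2
  · intro D hFD hD hn
    have h1 : F ≤ cj l D := by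
      have h2 := cj_mono l hFD
      rwa [cj_cj_inv] at h2
    have h2 : cj l D ≤ V := by
      have h3 := cj_mono l hD
      rwa [hlV] at h3
    have h3 : ¬ centralizer ((cj l D : Subgroup G) : Set G) ≤ normalizer (V : Set G) := by
      intro h0
      apply hn
      have h4 := cj_mono l⁻¹ h0
      rw [cj_centralizer, cj_inv_cj] at h4
      refine h4.trans ?_
      have h5 := cj_norm (g := l⁻¹) (le_refl (normalizer (V : Set G)))
      rwa [hli] at h5
    have h4 := eq_of_le_of_card_ge h1 (hmax (cj l D) ⟨hF.1.trans h1, h2, h3⟩)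
    rw [h4, cj_inv_cj]
  · rw [cj_le_iff, inv_inv]; exact hTl
  · have hC : centralizer ((cj l⁻¹ F : Subgroup G) : Set G) = cj l⁻¹ (centralizer (F : Set G)) :=
      (cj_centralizer _ _).symm
    rw [hC]
    refine ⟨cj_mono _ hT.1, isPGroup_cj _ hT.2.1, fun Q hQ hp hle => ?_⟩
    have h2 := hT.2.2 (cj l Q) (by
      rw [cj_le_iff]; exact hQ) (isPGroup_cj _ hp) (by
      have h3 := cj_mono l hle
      rwa [cj_cj_inv] at h3)
    rw [← h2, cj_inv_cj]
  · rw [cj_cj_inv]; exact hF.1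

/-- **`F` exists.** -/
theorem exists_fl (hnz : ¬ centralizer (zc (S : Subgroup G) : Set G) ≤ normalizer (V : Set G)) :
    ∃ F T, Fl S V F T := by
  obtain ⟨F, T, l, hf, -, -⟩ := exists_fl_of h
    (MinSimple.Basic.zc_ne_bot S.isPGroup' (S_ne h hnz)) h.ZV hnz
  exact ⟨F, T, hf⟩

/-- **`F ≥ Z` exists**: maximal among the `F ≤ V` which contain `Z = Ω₁(Z(S))` and have `C_G(F) ≰ N_G(V)`. -/
theorem exists_fl_zc (hnz : ¬ centralizer (zc (S : Subgroup G) : Set G) ≤ normalizer (V : Set G)) :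
    ∃ F T, Fl S V F T ∧ zc (S : Subgroup G) ≤ F := by
  obtain ⟨F, hF, hmax⟩ := Set.exists_max_image
    {F : Subgroup G | zc (S : Subgroup G) ≤ F ∧ F ≤ V ∧ ¬ centralizer (F : Set G) ≤ normalizer (V : Set G)}
    (fun F => Nat.card F) (Set.toFinite _) ⟨_, le_rfl, h.ZV, hnz⟩
  have hJ : J ≤ centralizer (F : Set G) := h.JV.trans (centralizer_le hF.2.1)
  obtain ⟨T, hT, hJT⟩ := exists_syl (S.isPGroup'.to_le h.JS) hJ
  have hTV : T ≤ normalizer (V : Set G) := by
    have h1 := h.le_norm_of hT.2.1 (a := 1) (by rw [cj_one]; exact hJT)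
    rwa [cj_one] at h1
  have hTZ : T ≤ centralizer (zc (S : Subgroup G) : Set G) := hT.1.trans (centralizer_le hF.1)
  obtain ⟨T₁, hT₁, hTT₁⟩ := exists_syl hT.2.1 (le_inf hTZ hTV)
  obtain ⟨c, hc, hcT⟩ := syl_conj hT₁ (syl_of_le (le_inf (zc_cent (S := S)) h.S_le))
  have hcV : cj c V = V := mem_normalizer_iff_cj.1 hc.2
  have hciV : cj c⁻¹ V = V := mem_normalizer_iff_cj.1 (inv_mem hc.2)
  have hcZ : cj c (zc (S : Subgroup G)) = zc (S : Subgroup G) :=
    cj_eq_of_mem_normalizer (centralizer_le_normalizer _ hc.1)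
  have hN : cj c (normalizer (V : Set G)) = normalizer (V : Set G) :=
    cj_eq_of_mem_normalizer (Subgroup.le_normalizer hc.2)
  have hZ : zc (S : Subgroup G) ≤ cj c F := by
    have h1 := cj_mono c hF.1
    rwa [hcZ] at h1
  refine ⟨cj c F, cj c T, ⟨?_, ?_, ?_, ?_, ?_, ?_⟩, hZ⟩
  · intro h0
    exact MinSimple.Basic.zc_ne_bot S.isPGroup' (S_ne h hnz) (le_bot_iff.1 (hZ.trans h0.le))
  · have h1 := cj_mono c hF.2.1
    rwa [hcV] at h1
  · intro h0
    apply hF.2.2
    rw [← cj_centralizer, ← hN] at h0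
    have h1 := cj_mono c⁻¹ h0
    rwa [cj_inv_cj, cj_inv_cj] at h1
  · intro D hFD hD hn
    have h1 : F ≤ cj c⁻¹ D := by
      have h2 := cj_mono c⁻¹ hFD
      rwa [cj_inv_cj] at h2
    have h2 : cj c⁻¹ D ≤ V := by
      have h3 := cj_mono c⁻¹ hD
      rwa [hciV] at h3
    have h3 : ¬ centralizer ((cj c⁻¹ D : Subgroup G) : Set G) ≤ normalizer (V : Set G) := by
      intro h0
      apply hn
      have h4 := cj_mono c h0
      rwa [cj_centralizer, cj_cj_inv, hN] at h4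
    have h4 := eq_of_le_of_card_ge h1 (hmax (cj c⁻¹ D) ⟨hF.1.trans h1, h2, h3⟩)
    rw [h4, cj_cj_inv]
  · refine (cj_mono c hTT₁).trans hcT.le
  · have hC : centralizer ((cj c F : Subgroup G) : Set G) = cj c (centralizer (F : Set G)) :=
      (cj_centralizer _ _).symm
    rw [hC]
    refine ⟨cj_mono _ hT.1, isPGroup_cj _ hT.2.1, fun Q hQ hp hle => ?_⟩
    have h2 := hT.2.2 (cj c⁻¹ Q) (by
      rw [cj_le_iff, inv_inv]; exact hQ) (isPGroup_cj _ hp) (by
      have h3 := cj_mono c⁻¹ hle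
      rwa [cj_inv_cj] at h3)
    rw [← h2, cj_cj_inv]

end lines

/-! ### `F`, `T`, `X` -/

namespace Fl

variable (f : Fl S V F T)
include f

theorem T_eq : (S : Subgroup G) ⊓ centralizer (F : Set G) = T :=
  f.syl.2.2 _ inf_le_right (S.isPGroup'.to_le inf_le_left) (le_inf f.T_le f.syl.1)

theorem ne_V : F ≠ V := by
  rintro rfl
  exact f.nle (centralizer_le_normalizer _)

theorem Q0_le : (S : Subgroup G) ⊓ centralizer (V : Set G) ≤ T := by
  rw [← f.T_eq]
  exact inf_le_inf_left _ (centralizer_le f.le)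

/-- the minimal parabolic -/
theorem exists_par : ∃ X, Par V F T X := by
  obtain ⟨X, hX, hmin⟩ := Set.exists_min_image {P : Subgroup G | T ≤ P ∧ P ≤ centralizer (F : Set G) ∧
      ¬ P ≤ normalizer (V : Set G)} (fun P => Nat.card P) (Set.toFinite _) ⟨_, f.syl.1, le_rfl, f.nle⟩
  refine ⟨X, hX.1, hX.2.1, hX.2.2, fun M hTM hMP hne => ?_⟩
  by_contra hcon
  exact hne (eq_of_le_of_card_ge hMP (hmin M ⟨hTM, hMP.trans hX.2.1, hcon⟩))

theorem sylX (p : Par V F T X) : Syl T X :=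
  ⟨p.T_le, f.syl.2.1, fun Q hQ hp hle => f.syl.2.2 Q (hQ.trans p.le) hp hle⟩

variable (h : Lines S J V)
include h

theorem isMinPar (p : Par V F T X) : IsMinPar T X := by
  refine ⟨p.T_le, fun h0 => p.nle ?_, X ⊓ normalizer (V : Set G), ?_, fun K hK hKP =>
    le_inf hKP.le (p.min K hK hKP.le hKP.ne)⟩
  · exact h0.trans ((normalizer_le h f.T_le ((J_le_Q0 h).trans f.Q0_le)).trans h.NJ)
  · exact lt_of_le_of_ne inf_le_left fun h1 => p.nle (inf_eq_left.1 h1)

/-- `V ∩ V^x = F` for `x ∈ C_G(F) - N_G(V)` -/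
theorem line {x : G} (hx : x ∈ centralizer (F : Set G)) (hxV : x ∉ normalizer (V : Set G)) :
    V ⊓ cj x V = F := by
  have hxF : cj x F = F := cj_eq_of_mem_normalizer (centralizer_le_normalizer _ hx)
  refine f.max _ (le_inf f.le ?_) inf_le_left fun hcon => ?_
  · have h1 := cj_mono x f.le
    rwa [hxF] at h1
  · obtain ⟨c, hc, hcx⟩ := exists_c h (D := V ⊓ cj x V) inf_le_left inf_le_right
    apply hxV
    rw [mem_normalizer_iff_cj, ← hcx]
    exact mem_normalizer_iff_cj.1 (hcon hc)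

/-- **all fields of `K0.Base`** -/
theorem base (p : Par V F T X)
    (hti : ∀ g : G, V ⊓ cj g V ≠ ⊥ → V ≤ centralizer ((cj g V : Subgroup G) : Set G))
    (hnl : ∀ R : Subgroup G, IsPGroup 2 R →
      normalizer (((S : Subgroup G) ⊓ centralizer (V : Set G) : Subgroup G) : Set G) ≤ normalizer (R : Set G) →
      X ≤ normalizer (R : Set G) → R = ⊥) :
    Base V F T X (normalizer (((S : Subgroup G) ⊓ centralizer (V : Set G) : Subgroup G) : Set G))
      ((S : Subgroup G) ⊓ centralizer (V : Set G)) where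
  sq := h.sq
  comm := h.comm
  nff := h.nff
  F_le := f.le
  F_ne := f.ne_V
  F_ne_bot := f.ne
  X_le := p.le
  syl := f.sylX p
  mp := f.isMinPar h p
  nle := p.nle
  T_le := f.T_le.trans (S_le_L0 h)
  L_le := L0_le h
  Q0_le := f.Q0_le
  L_Q0 := le_rfl
  Q0_cent := inf_le_right
  le_Q0 := fun _ hR h1 h2 => le_Q0 h hR h1 h2
  V_le := V_le_Q0 h
  line := fun _ hx hxV => f.line h (p.le hx) hxV
  ti := hti
  nonloc := hnl

/-- **ALPHA, the end**: for every choice of `X`, some nontrivial 2-subgroup is normalised by `N_G(C_S(V))` and `X`,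
or `C_U(T) ≰ C(O²(X))`, `U = ⟨V^X⟩`. -/
theorem local_or (hA : FFBr.AStmt.{u}) (p : Par V F T X)
    (hti : ∀ g : G, V ⊓ cj g V ≠ ⊥ → V ≤ centralizer ((cj g V : Subgroup G) : Set G)) :
    (∃ R : Subgroup G, R ≠ ⊥ ∧ IsPGroup 2 R ∧
      normalizer (((S : Subgroup G) ⊓ centralizer (V : Set G) : Subgroup G) : Set G) ≤ normalizer (R : Set G) ∧
      X ≤ normalizer (R : Set G)) ∨
    ¬ cl V X ⊓ centralizer (T : Set G) ≤ centralizer (oddGen X : Set G) := by
  by_contra hcon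
  push Not at hcon
  refine (f.base h p hti fun R hR h1 h2 => ?_).absurd (noOv hA (f.sylX p) (f.isMinPar h p))
    (fullOff hA (f.sylX p) (f.isMinPar h p)) hcon.2
  by_contra hne
  exact hcon.1 R hne hR h1 h2

end Fl

/-- **TI** in the form of `K0.Base` -/
theorem ti (hG : IsCharacteristicTwoType G) (h : Lines S J V) (g : G) (hg : V ⊓ cj g V ≠ ⊥) :
    V ≤ centralizer ((cj g V : Subgroup G) : Set G) := by
  have h1 := h.comm_of_inter (h.char2 hG) (a := 1) (b := g) (by rwa [cj_one])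
  rwa [cj_one] at h1

/-- **ALPHA, the end**, from `Lines` and characteristic 2 type; `F` is maximal and contains `Z = Ω₁(Z(S))`. -/
theorem local_or (hA : FFBr.AStmt.{u}) (hG : IsCharacteristicTwoType G) (h : Lines S J V)
    (hnz : ¬ centralizer (zc (S : Subgroup G) : Set G) ≤ normalizer (V : Set G)) :
    ∃ F T, Fl S V F T ∧ zc (S : Subgroup G) ≤ F ∧ (∃ X, Par V F T X) ∧ ∀ X, Par V F T X →
      (∃ R : Subgroup G, R ≠ ⊥ ∧ IsPGroup 2 R ∧
        normalizer (((S : Subgroup G) ⊓ centralizer (V : Set G) : Subgroup G) : Set G) ≤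
          normalizer (R : Set G) ∧ X ≤ normalizer (R : Set G)) ∨
      ¬ cl V X ⊓ centralizer (T : Set G) ≤ centralizer (oddGen X : Set G) := by
  obtain ⟨F, T, f, hZ⟩ := exists_fl_zc h hnz
  exact ⟨F, T, f, hZ, f.exists_par, fun X p => f.local_or h hA p fun g hg => ti hG h g hg⟩

end Cfsg.Agent.Omega.NO3b.Alpha
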