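import Cfsg.Agent.Omega.NO3b.Dual

/-!
# (C2): one noncentral chief factor gives an FF-offender (helper329 #12800, helper857 #12910)

`P₂ = E S`, `E = O²(P₂)`, `Q = O₂(P₂)`, `V` normalised by `S`, `W = ⟨V^E⟩` elementary abelian, at most one
noncentral chief factor of `P₂` in `W` (every normal subgroup `K ≤ W` of `P₂` is centralised by `E` or
contains `[W, E]`), `E` does not normalise `V`. Then either `Q` centralises `[W, E]`, or `O = [Q, E]`
centralises `C_W(E)`, `C_V(O) = C_V(E)`, `O` acts nontrivially on `V` and `|V : C_V(E)| ≤ |O : C_O(V)|`.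
-/

set_option autoImplicit false

namespace Cfsg.Agent.Omega.NO3b.CTwo

open Subgroup Cfsg.Agent.Omega.NO3b.Dual
open scoped commutatorElement

variable {G : Type*} [Group G]

theorem mem_sup_of_le_norm {A B : Subgroup G} (h : A ≤ normalizer (B : Set G)) {x : G}
    (hx : x ∈ A ⊔ B) : ∃ a ∈ A, ∃ b ∈ B, a * b = x := by
  have h1 : x ∈ ((A ⊔ B : Subgroup G) : Set G) := hx
  rw [coe_mul_of_left_le_normalizer_right A B h] at h1
  exact Set.mem_mul.mp h1

/-- If `V`, `W` are normalised by the 2-group `S`, `V ≤ W`, and `W ≤ V [W, S]`, then `W ≤ V`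
(`W` a commutative 2-group). -/
theorem le_of_le_sup_commutator [Finite G] {S V W : Subgroup G} (hS : IsPGroup 2 S)
    (hab : ∀ x ∈ W, ∀ y ∈ W, x * y = y * x) (hW2 : IsPGroup 2 W)
    (hSW : S ≤ normalizer (W : Set G)) (hSV : S ≤ normalizer (V : Set G)) (hVW : V ≤ W)
    (h : W ≤ V ⊔ ⁅W, S⁆) : W ≤ V := by
  have := Fact.mk Nat.prime_two
  have hT : IsPGroup 2 (W ⊔ S : Subgroup G) := hW2.to_sup_of_normal_left' hS hSW
  have hTn : Group.IsNilpotent (W ⊔ S : Subgroup G) := hT.isNilpotent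
  obtain ⟨n, hn⟩ := (Subgroup.isNilpotent_iff_lowerCentralSeries (W ⊔ S)).1 hTn
  have key : ∀ k : ℕ, W ≤ V ⊔ (W ⊓ (W ⊔ S).lowerCentralSeries k) := by
    intro k
    induction k with
    | zero =>
      rw [Subgroup.lowerCentralSeries_zero]
      exact (le_inf le_rfl le_sup_left).trans le_sup_right
    | succ k ih =>
      refine h.trans (sup_le le_sup_left ?_)
      rw [commutator_le]
      intro w hw s hs
      have hmem := ih hw
      -- `w = v c`
      have hcomm : ∀ z ∈ (V ⊔ (W ⊓ (W ⊔ S).lowerCentralSeries k) : Subgroup G),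
          ⁅z, s⁆ ∈ (V ⊔ (W ⊓ (W ⊔ S).lowerCentralSeries (k + 1)) : Subgroup G) := by
        intro z hz
        obtain ⟨v, hv, c, hc, rfl⟩ : ∃ v ∈ V, ∃ c ∈ W ⊓ (W ⊔ S).lowerCentralSeries k, v * c = z := by
          have hVn : V ≤ normalizer ((W ⊓ (W ⊔ S).lowerCentralSeries k : Subgroup G) : Set G) := by
            refine le_norm fun v hv x hx => ?_
            have h1 : v * x * v⁻¹ = x := by
              rw [hab v (hVW hv) x hx.1, mul_inv_cancel_right]
            rw [h1]; exact hx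
          exact mem_sup_of_le_norm hVn hz
        have h1 : ⁅v * c, s⁆ = (v * ⁅c, s⁆ * v⁻¹) * ⁅v, s⁆ := by
          simp only [commutatorElement_def]; group
        have hcs : ⁅c, s⁆ ∈ W := by
          have e : ⁅c, s⁆ = c * (s * c⁻¹ * s⁻¹) := by simp only [commutatorElement_def]; group
          rw [e]
          exact W.mul_mem hc.1 (norm_mem hSW hs (W.inv_mem hc.1))
        have h2 : v * ⁅c, s⁆ * v⁻¹ = ⁅c, s⁆ := by
          rw [hab v (hVW hv) _ hcs, mul_inv_cancel_right]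
        have hvs : ⁅v, s⁆ ∈ V := by
          have e : ⁅v, s⁆ = v * (s * v⁻¹ * s⁻¹) := by simp only [commutatorElement_def]; group
          rw [e]
          exact V.mul_mem hv (norm_mem hSV hs (V.inv_mem hv))
        rw [h1, h2]
        refine mul_mem (mem_sup_right ⟨hcs, ?_⟩) (mem_sup_left hvs)
        rw [Subgroup.lowerCentralSeries_succ]
        exact commutator_mem_commutator hc.2 (mem_sup_right hs)
      exact hcomm w hmem
  have h1 := key n
  rw [hn, inf_bot_eq, sup_bot_eq] at h1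
  exact h1

/-- The situation of (C2). -/
structure Sit (E S Q V W : Subgroup G) : Prop where
  sq : ∀ w ∈ W, w * w = 1
  two : IsPGroup 2 S
  QS : Q ≤ S
  VW : V ≤ W
  SV : S ≤ normalizer (V : Set G)
  EW : E ≤ normalizer (W : Set G)
  SW : S ≤ normalizer (W : Set G)
  EQ : E ≤ normalizer (Q : Set G)
  SQ : S ≤ normalizer (Q : Set G)
  SE : S ≤ normalizer (E : Set G)
  gen : ∀ K : Subgroup G, V ≤ K → E ≤ normalizer (K : Set G) → W ≤ K
  nV : ¬ E ≤ normalizer (V : Set G)
  OO : (⁅Q, E⁆ : Subgroup G) ≤ ⁅⁅Q, E⁆, E⁆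
  one : ∀ K : Subgroup G, K ≤ W → E ≤ normalizer (K : Set G) → S ≤ normalizer (K : Set G) →
    (∀ k ∈ K, ∀ e ∈ E, e * k = k * e) ∨ ⁅W, E⁆ ≤ K

namespace Sit

variable {E S Q V W : Subgroup G}

theorem norm_commutator {T A B : Subgroup G} (hA : T ≤ normalizer (A : Set G))
    (hB : T ≤ normalizer (B : Set G)) : T ≤ normalizer ((⁅A, B⁆ : Subgroup G) : Set G) := by
  intro s hs
  have h1 := hA hs
  have h2 := hB hs
  rw [mem_normalizer_iff_map_conj_eq] at h1 h2 ⊢
  rw [map_commutator, h1, h2]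

theorem norm_inf_cent {T A B : Subgroup G} (hA : T ≤ normalizer (A : Set G))
    (hB : T ≤ normalizer (B : Set G)) :
    T ≤ normalizer ((A ⊓ centralizer (B : Set G) : Subgroup G) : Set G) := by
  refine le_norm fun t ht x hx => ⟨norm_mem hA ht hx.1, fun o ho => ?_⟩
  have h1 := hx.2 _ (norm_mem' hB ht ho)
  calc o * (t * x * t⁻¹) = t * ((t⁻¹ * o * t) * x) * t⁻¹ := by group
    _ = t * (x * (t⁻¹ * o * t)) * t⁻¹ := by rw [h1]
    _ = t * x * t⁻¹ * o := by group

theorem commutator_le_of_norm {A B : Subgroup G} (h : B ≤ normalizer (A : Set G)) :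
    (⁅A, B⁆ : Subgroup G) ≤ A := (le_normalizer_iff_commutator_le_left).1 h

/-- `R = C_W(E)`. -/
def rr (E W : Subgroup G) : Subgroup G := W ⊓ centralizer (E : Set G)

theorem isPGroup_W (h : Sit E S Q V W) : IsPGroup 2 W := by
  intro g
  refine ⟨1, Subtype.ext ?_⟩
  have := h.sq _ g.2
  simp only [pow_one, Subgroup.coe_pow, Subgroup.coe_one]
  rw [pow_two]
  exact this

theorem ab (h : Sit E S Q V W) : ∀ x ∈ W, ∀ y ∈ W, x * y = y * x := by
  intro x hx y hy
  have h1 := h.sq _ (W.mul_mem hx hy)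
  have h2 := h.sq _ hx
  have h3 := h.sq _ hy
  have e1 : x⁻¹ = x := inv_eq_of_mul_eq_one_left h2
  have e2 : y⁻¹ = y := inv_eq_of_mul_eq_one_left h3
  have h4 : x * y = (x * y)⁻¹ := (inv_eq_of_mul_eq_one_left h1).symm
  rw [h4, mul_inv_rev, e1, e2]

/-- `W = V [W, E]`. -/
theorem le_sup (h : Sit E S Q V W) : W ≤ V ⊔ ⁅W, E⁆ := by
  refine h.gen _ le_sup_left (le_norm fun e he x hx => ?_)
  have hWn : (⁅W, E⁆ : Subgroup G) ≤ W := commutator_le_of_norm h.EW
  have hVn : V ≤ normalizer ((⁅W, E⁆ : Subgroup G) : Set G) := by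
    refine le_norm fun v hv c hc => ?_
    rw [h.ab v (h.VW hv) c (hWn hc), mul_inv_cancel_right]; exact hc
  obtain ⟨v, hv, c, hc, rfl⟩ := mem_sup_of_le_norm hVn hx
  have h1 : e * (v * c) * e⁻¹ = (v * ⁅v⁻¹, e⁆) * (e * c * e⁻¹) := by
    simp only [commutatorElement_def]; group
  rw [h1]
  refine mul_mem (mul_mem (mem_sup_left hv) (mem_sup_right ?_)) (mem_sup_right ?_)
  · exact commutator_mem_commutator (W.inv_mem (h.VW hv)) he
  · exact norm_mem (norm_commutator h.EW le_normalizer) he hc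

/-- (i) `[W, Q] ≤ C_W(E)`. -/
theorem commutator_Q_le [Finite G] (h : Sit E S Q V W) : (⁅W, Q⁆ : Subgroup G) ≤ rr E W := by
  have hQW : (⁅W, Q⁆ : Subgroup G) ≤ W := commutator_le_of_norm (h.QS.trans h.SW)
  rcases h.one _ hQW (norm_commutator h.EW h.EQ) (norm_commutator h.SW h.SQ) with h1 | h1
  · exact fun k hk => ⟨hQW hk, fun e he => h1 k hk e he⟩
  · exfalso
    have h2 : W ≤ V := le_of_le_sup_commutator (S := Q) (h.two.to_le h.QS) h.ab h.isPGroup_W
      (h.QS.trans h.SW) (h.QS.trans h.SV) h.VW (h.le_sup.trans (sup_le_sup_left h1 _))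
    have h3 : V = W := le_antisymm h.VW h2
    exact h.nV (h3 ▸ h.EW)

theorem rr_le : rr E W ≤ W := inf_le_left

theorem E_norm_rr (h : Sit E S Q V W) : E ≤ normalizer ((rr E W : Subgroup G) : Set G) :=
  norm_inf_cent h.EW le_normalizer

theorem S_norm_rr (h : Sit E S Q V W) : S ≤ normalizer ((rr E W : Subgroup G) : Set G) :=
  norm_inf_cent h.SW h.SE

/-- (ii) `O = [Q, E]` centralises `R = C_W(E)`. -/
theorem O_cent_rr (h : Sit E S Q V W) : (⁅⁅Q, E⁆, rr E W⁆ : Subgroup G) = ⊥ := by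
  refine commutator_commutator_eq_bot_of_rotate ?_ ?_
  · have h1 : (⁅E, rr E W⁆ : Subgroup G) = ⊥ := by
      rw [commutator_eq_bot_iff_le_centralizer]
      intro e he r hr
      exact (hr.2 e he).symm
    rw [h1, commutator_bot_left]
  · have h1 : (⁅rr E W, Q⁆ : Subgroup G) ≤ rr E W := commutator_le_of_norm (h.QS.trans h.S_norm_rr)
    rw [eq_bot_iff]
    refine (commutator_mono h1 le_rfl).trans ?_
    rw [le_bot_iff, commutator_eq_bot_iff_le_centralizer]
    exact fun r hr e he => (hr.2 e he)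

/-- (iv) If `O = [Q, E]` centralises `W`, then `Q` centralises `[W, E]`. -/
theorem Q_cent [Finite G] (h : Sit E S Q V W) (hO : (⁅⁅Q, E⁆, W⁆ : Subgroup G) = ⊥) :
    (⁅⁅W, E⁆, Q⁆ : Subgroup G) = ⊥ := by
  have h1 : (⁅⁅E, Q⁆, W⁆ : Subgroup G) = ⊥ := by rw [commutator_comm E Q]; exact hO
  have h2 : (⁅⁅Q, W⁆, E⁆ : Subgroup G) = ⊥ := by
    rw [commutator_comm Q W, eq_bot_iff]
    refine (commutator_mono h.commutator_Q_le le_rfl).trans ?_
    rw [le_bot_iff, commutator_eq_bot_iff_le_centralizer]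
    exact fun r hr e he => (hr.2 e he)
  exact commutator_commutator_eq_bot_of_rotate h1 h2

/-- **(C2)**: either `Q` centralises `[W, E]`, or the data of the dual offender lemma hold for
`O = [Q, E]`, `H = C_W(E)`. -/
theorem dat [Finite G] (h : Sit E S Q V W) :
    (⁅⁅W, E⁆, Q⁆ : Subgroup G) = ⊥ ∨ Dat E S ⁅Q, E⁆ W (rr E W) := by
  by_cases hO : (⁅⁅Q, E⁆, W⁆ : Subgroup G) = ⊥
  · exact Or.inl (h.Q_cent hO)
  · right
    have hOQ : (⁅Q, E⁆ : Subgroup G) ≤ Q := commutator_le_of_norm h.EQ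
    refine { sq := h.sq, le := rr_le, two := h.two, rH := fun r hr x hx => (hx.2 r hr), oH := ?_,
             rX := h.EW, sX := h.SW, rO := norm_commutator h.EQ le_normalizer,
             sO := norm_commutator h.SQ h.SE, sH := h.S_norm_rr, comm := ?_, irr := ?_, OO := h.OO,
             ne := ?_ }
    · intro o ho x hx
      have h1 := h.O_cent_rr
      rw [commutator_eq_bot_iff_le_centralizer] at h1
      exact (h1 ho x hx).symm
    · intro x hx o ho
      exact h.commutator_Q_le (commutator_mem_commutator hx (hOQ ho))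
    · intro Y hY1 hY2 hEY hSY
      rcases h.one Y hY2 hEY hSY with h1 | h1
      · left
        exact le_antisymm (fun y hy => ⟨hY2 hy, fun e he => h1 y hy e he⟩) hY1
      · exact Or.inr h1
    · by_contra hc
      push Not at hc
      apply hO
      rw [commutator_comm, commutator_eq_bot_iff_le_centralizer]
      exact fun x hx o ho => (hc x hx o ho).symm

/-- **(C2)**, numerical form: `Q` centralises `[W, E]`, or `V` is an FF-module with the offender
`O = [Q, E] ≤ S`: `|V : C_V(E)| ≤ |O : C_O(V)|`, `C_V(O) = C_V(E)`, `[V, O] ≠ 1`, `[V, O] ≤ C_V(E)`. -/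
theorem ctwo [Finite G] (h : Sit E S Q V W) :
    (⁅⁅W, E⁆, Q⁆ : Subgroup G) = ⊥ ∨
    ((rr E W).relIndex V ≤ (centralizer (V : Set G)).relIndex ⁅Q, E⁆ ∧
      (∀ v ∈ V, (v ∈ rr E W ↔ ∀ o ∈ (⁅Q, E⁆ : Subgroup G), v * o = o * v)) ∧
      (∃ v ∈ V, ∃ o ∈ (⁅Q, E⁆ : Subgroup G), v * o ≠ o * v) ∧
      (⁅V, ⁅Q, E⁆⁆ : Subgroup G) ≤ V ⊓ rr E W) := by
  rcases h.dat with h1 | h1
  · exact Or.inl h1
  · right
    have hOQ : (⁅Q, E⁆ : Subgroup G) ≤ Q := commutator_le_of_norm h.EQ
    refine ⟨h1.relIndex_le h.VW, fun v hv => ⟨fun hr o ho => (h1.oH o ho v hr).symm,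
      fun hc => h1.mem_of_comm (h.VW hv) hc⟩, ?_, ?_⟩
    · by_contra hc
      push Not at hc
      have h2 : V ≤ rr E W := fun v hv => h1.mem_of_comm (h.VW hv) (fun o ho => hc v hv o ho)
      have h3 : W ≤ rr E W := h.gen _ h2 h.E_norm_rr
      apply h.nV
      refine le_norm fun e he v hv => ?_
      have h4 := (h2 hv).2 e he
      rw [h4, mul_inv_cancel_right]
      exact hv
    · rw [commutator_le]
      intro v hv o ho
      refine ⟨?_, h1.comm v (h.VW hv) o ho⟩
      have e : ⁅v, o⁆ = v * (o * v⁻¹ * o⁻¹) := by simp only [commutatorElement_def]; group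
      rw [e]
      exact V.mul_mem hv (norm_mem h.SV (h.QS (hOQ ho)) (V.inv_mem hv))

end Sit

end Cfsg.Agent.Omega.NO3b.CTwo
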