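import Cfsg.Agent.Omega.NO3b.UMethod
import Cfsg.Agent.Omega.NO3S.Basic

/-!
# LEMMA HZ' (helper498, bb OMEGA #14862 (2)): cutting the row `V_P = N ⊗ A`

`Hyp S P`, `V = V_P`, `Z₀ ≤ Ω₁Z(S)`, `V₀ = ⟨Z₀^P⟩ ≤ V`.

* `le_o2` : if `[V₀, S] ≤ Z₀ ≠ 1` and `C_S(V₀) ≤ C_S(V)`, then `V ≤ O₂(C_G(Z₀))`;
* `comm`, `sq` : then `⟨V ^ C_G(Z₀)⟩` is elementary abelian; `nonLoc` : `⟨P, C_G(Z₀)⟩` is nonlocal;
* `Tens F S P V m` : `V = N ⊗ A`, `N` the natural module of `SL₂(F)`, `dim A = m`, `P` induces `SL₂(F)` on `V` and `S` the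
  group of upper unitriangular matrices (no field automorphisms); `Tens.Zα`, `Tens.Vα` : the subgroups `n ⊗ α`, `N ⊗ α`;
* `Tens.hz` : **LEMMA HZ'**: for every `α ≠ 0`: `V ≤ O₂(C_G(n ⊗ α))`, `⟨V ^ C_G(n ⊗ α)⟩` is elementary abelian,
  `N ⊗ α = ⟨(n ⊗ α)^P⟩` is natural (`NO3S.NatP`), `⟨P, C_G(n ⊗ α)⟩` is nonlocal.
-/

set_option autoImplicit false
set_option linter.unusedSectionVars false

namespace Cfsg.Agent.Omega.NO3b.CutNA

open Subgroup Cfsg Cfsg.Agent.ZN Cfsg.Agent.Omega.MinPar Cfsg.Agent.Omega.FrameNOFF Cfsg.Agent.Omega.NO3S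
open Cfsg.Agent.Omega.NoFF.Basic (conj_conj mem_conj conj_le_iff conj_le_centralizer comm_symm comm_mono
  Z_le_V V_le conj_V_mul)
open Cfsg.Agent.Omega.NO3b.UMethod (mem_centralizer_of_comm lemmaU)
open Cfsg.Agent.Omega.NatPair (ap ap_one ap_add ap_smul exists_ap ap_zero' ap_one' ext2)
open Cfsg.Agent.Lib.SL2Mat (up up_00 up_01 up_10 up_11)
open Cfsg.Agent.MinSimple.VModule (mem_zc zc_le zc_le_zl le_normalizer_zl zl_le o2_isPGroup zc_sq
  le_centralizer_zc)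
open scoped Pointwise

universe u

section group

variable {G : Type u} [Group G] [Finite G] {S : Sylow 2 G} {P Z₀ : Subgroup G}

theorem isLoc (hZ : Z₀ ≤ zc (S : Subgroup G)) (hne : Z₀ ≠ ⊥) :
    IsLoc (S : Subgroup G) (centralizer (Z₀ : Set G)) :=
  isLoc_of_le_normalizer S ((le_centralizer_zc _).trans (centralizer_le hZ))
    (S.isPGroup'.to_le (hZ.trans (zc_le _))) hne (centralizer_le_normalizer _)

theorem V_le_zl (hZ : Z₀ ≤ zc (S : Subgroup G)) : NoFF.Basic.V Z₀ P ≤ zl (S : Subgroup G) P :=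
  V_le fun p hp => by
    have h1 := conj_le_iff (g := p) |>.2 (hZ.trans (zc_le_zl (S : Subgroup G) P))
    rwa [NoFF.Lines.conj_eq (le_normalizer_zl _ _ hp)] at h1

/-- **LEMMA HZ'**, group form. -/
theorem le_o2 (h : Hyp S P) (hZ : Z₀ ≤ zc (S : Subgroup G)) (hne : Z₀ ≠ ⊥)
    (ha : ∀ f ∈ NoFF.Basic.V Z₀ P, ∀ t ∈ (S : Subgroup G), f * t * f⁻¹ * t⁻¹ ∈ Z₀)
    (hb : (S : Subgroup G) ⊓ centralizer (NoFF.Basic.V Z₀ P : Set G) ≤
      centralizer (zl (S : Subgroup G) P : Set G)) :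
    zl (S : Subgroup G) P ≤ o2 (centralizer (Z₀ : Set G)) := by
  have hL := isLoc (S := S) hZ hne
  set H := centralizer (Z₀ : Set G) with hH
  have hSH : (S : Subgroup G) ≤ H := hL.le
  have hUS : zl (S : Subgroup G) H ≤ (S : Subgroup G) :=
    ((hL.zl_le S h.ctx.char2).trans (zc_le _)).trans (hL.o2_le S)
  have hVS : zl (S : Subgroup G) P ≤ (S : Subgroup G) := h.V_le_S
  have hcent : NoFF.Basic.V Z₀ P ≤ centralizer (zl (S : Subgroup G) H : Set G) := by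
    intro f hf
    exact mem_centralizer_of_comm (H := H) (T := (S : Subgroup G)) (A := Z₀) (X := zc (S : Subgroup G)) hSH
      (MinSimple.Basic.not_dvd_relIndex S hSH) (le_centralizer_zc _) (zc_le_zl _ _) (le_normalizer_zl _ _)
      (fun Y hY hHY => zl_le hY hHY) le_rfl
      (fun a ha => by
        have := zc_sq _ _ (hZ ha)
        rwa [pow_two] at this)
      (hSH (hVS (V_le_zl hZ hf))) fun u hu => ha f hf u (hUS hu)
  have hcent2 : zl (S : Subgroup G) H ≤ centralizer (zl (S : Subgroup G) P : Set G) :=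
    fun u hu => hb ⟨hUS hu, comm_symm hcent hu⟩
  refine lemmaU (U := zl (S : Subgroup G) H) (C := CZ (S : Subgroup G)) (le_normalizer_zl _ _)
    (inf_le_right.trans (centralizer_le (zc_le_zl _ _))) (hVS.trans hSH) (comm_symm hcent2) ?_
  exact zl_le_o2_of_comm h.ctx h.star h.W_comm

/-- two conjugates of `V` under `C_G(Z₀)` commute if `V ≤ O₂(C_G(Z₀))` -/
theorem comm_conj (h : Hyp S P) (hZ : Z₀ ≤ zc (S : Subgroup G)) (hne : Z₀ ≠ ⊥)
    (hV : zl (S : Subgroup G) P ≤ o2 (centralizer (Z₀ : Set G))) {x y : G}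
    (hx : x ∈ centralizer (Z₀ : Set G)) (hy : y ∈ centralizer (Z₀ : Set G)) :
    MulAut.conj x • zl (S : Subgroup G) P ≤
      centralizer ((MulAut.conj y • zl (S : Subgroup G) P : Subgroup G) : Set G) := by
  have hL := isLoc (S := S) hZ hne
  have key : ∀ x ∈ centralizer (Z₀ : Set G), ∀ y ∈ centralizer (Z₀ : Set G),
      MulAut.conj x • zl (S : Subgroup G) P ≤ MulAut.conj y • P := by
    intro x hx y hy
    have e : ∀ x ∈ centralizer (Z₀ : Set G), MulAut.conj x • o2 (centralizer (Z₀ : Set G)) =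
        o2 (centralizer (Z₀ : Set G)) := fun x hx =>
      NoFF.Lines.conj_eq (MinSimple.VModule.le_normalizer_o2 _ hx)
    have h1 := conj_le_iff (g := x) |>.2 hV
    rw [e x hx, ← e y hy] at h1
    exact h1.trans (conj_le_iff.2 ((hL.o2_le S).trans h.star.isLoc.le))
  exact h.geo.toSys.noff' (Set.mem_singleton P) (Set.mem_singleton P) (key x hx y hy) (key y hy x hx)

theorem comm (h : Hyp S P) (hZ : Z₀ ≤ zc (S : Subgroup G)) (hne : Z₀ ≠ ⊥)
    (hV : zl (S : Subgroup G) P ≤ o2 (centralizer (Z₀ : Set G))) :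
    NoFF.Basic.V (zl (S : Subgroup G) P) (centralizer (Z₀ : Set G)) ≤
      centralizer (NoFF.Basic.V (zl (S : Subgroup G) P) (centralizer (Z₀ : Set G)) : Set G) :=
  V_le fun _ hx => comm_symm (V_le fun _ hy => comm_symm (comm_conj h hZ hne hV hx hy))

theorem sq (h : Hyp S P) (hZ : Z₀ ≤ zc (S : Subgroup G)) (hne : Z₀ ≠ ⊥)
    (hV : zl (S : Subgroup G) P ≤ o2 (centralizer (Z₀ : Set G))) :
    ∀ x ∈ NoFF.Basic.V (zl (S : Subgroup G) P) (centralizer (Z₀ : Set G)), x ^ 2 = 1 :=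
  NoFF.Lines.Geo.sq_of_comm (comm h hZ hne hV)
    (B := fun p : centralizer (Z₀ : Set G) => MulAut.conj (p : G) • zl (S : Subgroup G) P)
    (fun p => Z_le_V p.2) le_rfl
    fun p => NoFF.Lines.Geo.conj_sq (fun _ hv => zc_sq _ _ (h.zl_le hv)) p

theorem nonLoc (h : Hyp S P) (hZ : Z₀ ≤ zc (S : Subgroup G)) : NonLoc P (centralizer (Z₀ : Set G)) :=
  h.nonLoc.mono le_rfl (centralizer_le hZ)

end group

/-! ### `V = N ⊗ A` -/

/-- `V` is the sum of `m` natural `SL₂(F)`-modules with the diagonal action of `SL₂(F)`; `P` induces `SL₂(F)` and `S`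
the group of the matrices `up b`. -/
structure Tens (F : Type*) [Field F] {G : Type*} [Group G] (S P V : Subgroup G) (m : ℕ) where
  e : (Fin m → Fin 2 → F) → G
  e_add : ∀ x y, e (x + y) = e x * e y
  e_inj : Function.Injective e
  mem_iff : ∀ g, g ∈ V ↔ ∃ x, e x = g
  act : ∀ g ∈ P, ∃ A : Matrix.SpecialLinearGroup (Fin 2) F, ∀ x, g * e x * g⁻¹ = e fun i => ap A (x i)
  lift : ∀ A : Matrix.SpecialLinearGroup (Fin 2) F, ∃ g ∈ P, ∀ x, g * e x * g⁻¹ = e fun i => ap A (x i)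
  unip : ∀ t ∈ S, ∃ b : F, ∀ x, t * e x * t⁻¹ = e fun i => ap (up b) (x i)

namespace Tens

variable {F : Type*} [Field F] {G : Type*} [Group G] {S P V : Subgroup G} {m : ℕ} (M : Tens F S P V m)

theorem e_zero : M.e 0 = 1 := by
  have h := M.e_add 0 0
  rw [add_zero] at h
  exact left_eq_mul.1 h

theorem e_neg (x : Fin m → Fin 2 → F) : M.e (-x) = (M.e x)⁻¹ := by
  rw [eq_inv_iff_mul_eq_one, ← M.e_add, neg_add_cancel, M.e_zero]

/-- the vector `x ⊗ α` -/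
def ten (α : Fin m → F) (x : Fin 2 → F) : Fin m → Fin 2 → F := fun i => α i • x

theorem ten_add (α : Fin m → F) (x y : Fin 2 → F) : ten α (x + y) = ten α x + ten α y := by
  funext i
  exact smul_add _ _ _

theorem ten_zero (α : Fin m → F) : ten α (0 : Fin 2 → F) = 0 := by
  funext i
  exact smul_zero _

theorem ten_neg (α : Fin m → F) (x : Fin 2 → F) : ten α (-x) = -ten α x := by
  funext i
  exact smul_neg _ _

theorem ten_inj {α : Fin m → F} (hα : α ≠ 0) : Function.Injective (ten (F := F) α) := by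
  intro x y hxy
  obtain ⟨i, hi⟩ := Function.ne_iff.1 hα
  have h1 : α i • x = α i • y := congrFun hxy i
  exact smul_right_injective _ hi h1

theorem ap_ten (A : Matrix.SpecialLinearGroup (Fin 2) F) (α : Fin m → F) (x : Fin 2 → F) :
    (fun i => ap A (ten α x i)) = ten α (ap A x) := by
  funext i
  exact ap_smul A (α i) x

/-- the subgroup `N ⊗ α` -/
def Vα (α : Fin m → F) : Subgroup G where
  carrier := {g | ∃ x : Fin 2 → F, M.e (ten α x) = g}
  one_mem' := ⟨0, by rw [ten_zero, M.e_zero]⟩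
  mul_mem' := by
    rintro _ _ ⟨x, rfl⟩ ⟨y, rfl⟩
    exact ⟨x + y, by rw [ten_add, M.e_add]⟩
  inv_mem' := by
    rintro _ ⟨x, rfl⟩
    exact ⟨-x, by rw [ten_neg, M.e_neg]⟩

/-- the subgroup `n ⊗ α` -/
def Zα (α : Fin m → F) : Subgroup G where
  carrier := {g | ∃ x : Fin 2 → F, x 1 = 0 ∧ M.e (ten α x) = g}
  one_mem' := ⟨0, rfl, by rw [ten_zero, M.e_zero]⟩
  mul_mem' := by
    rintro _ _ ⟨x, hx, rfl⟩ ⟨y, hy, rfl⟩
    exact ⟨x + y, by rw [Pi.add_apply, hx, hy, add_zero], by rw [ten_add, M.e_add]⟩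
  inv_mem' := by
    rintro _ ⟨x, hx, rfl⟩
    exact ⟨-x, by rw [Pi.neg_apply, hx, neg_zero], by rw [ten_neg, M.e_neg]⟩

theorem Zα_le (α : Fin m → F) : M.Zα α ≤ M.Vα α := by
  rintro _ ⟨x, -, rfl⟩
  exact ⟨x, rfl⟩

theorem Vα_le (α : Fin m → F) : M.Vα α ≤ V := by
  rintro _ ⟨x, rfl⟩
  exact (M.mem_iff _).2 ⟨_, rfl⟩

theorem Zα_ne {α : Fin m → F} (hα : α ≠ 0) : M.Zα α ≠ ⊥ := by
  intro h
  have h1 : M.e (ten α ![1, 0]) ∈ M.Zα α := ⟨_, rfl, rfl⟩
  rw [h, mem_bot, ← M.e_zero, ← ten_zero α] at h1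
  have h2 := ten_inj hα (M.e_inj h1)
  exact one_ne_zero (congrFun h2 0)

/-- `N ⊗ α` is a natural module for `P`. -/
def natP {α : Fin m → F} (hα : α ≠ 0) : NatP F (M.Vα α) P where
  e x := M.e (ten α x)
  e_add x y := by rw [ten_add, M.e_add]
  e_inj x y h := ten_inj hα (M.e_inj h)
  mem_iff g := Iff.rfl
  lift A := by
    obtain ⟨g, hg, h⟩ := M.lift A
    exact ⟨g, hg, fun x => by rw [h, ap_ten]⟩
  norm g hg x A hA := by
    obtain ⟨B, hB⟩ := M.act g hg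
    refine ⟨B * A * B⁻¹, fun y => ?_⟩
    have h1 : g⁻¹ * M.e (ten α y) * g = M.e (ten α (ap B⁻¹ y)) := by
      have h2 := hB (ten α (ap B⁻¹ y))
      rw [ap_ten, ← Cfsg.Agent.Omega.NatPair.ap_mul, mul_inv_cancel, ap_one] at h2
      rw [← h2]
      group
    calc g * x * g⁻¹ * M.e (ten α y) * (g * x * g⁻¹)⁻¹ = g * (x * (g⁻¹ * M.e (ten α y) * g) * x⁻¹) * g⁻¹ := by
          group
      _ = M.e (ten α (ap B (ap A (ap B⁻¹ y)))) := by rw [h1, hA, hB, ap_ten]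
      _ = _ := by rw [Cfsg.Agent.Omega.NatPair.ap_mul, Cfsg.Agent.Omega.NatPair.ap_mul]

theorem le_normalizer_Vα (α : Fin m → F) : P ≤ normalizer (M.Vα α : Set G) := by
  have key : ∀ g ∈ P, ∀ v ∈ M.Vα α, g * v * g⁻¹ ∈ M.Vα α := by
    rintro g hg _ ⟨x, rfl⟩
    obtain ⟨A, hA⟩ := M.act g hg
    exact ⟨ap A x, by rw [hA, ap_ten]⟩
  intro g hg
  rw [mem_normalizer_iff]
  intro v
  refine ⟨key g hg v, fun h => ?_⟩
  have := key g⁻¹ (inv_mem hg) _ h
  simpa [mul_assoc] using this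

/-- `N ⊗ α = ⟨(n ⊗ α)^P⟩` -/
theorem V_Zα (α : Fin m → F) : NoFF.Basic.V (M.Zα α) P = M.Vα α := by
  apply le_antisymm
  · refine V_le fun p hp => ?_
    have h1 := conj_le_iff (g := p) |>.2 (M.Zα_le α)
    rwa [NoFF.Lines.conj_eq (M.le_normalizer_Vα α hp)] at h1
  · rintro _ ⟨x, rfl⟩
    by_cases hx : x = 0
    · rw [hx, ten_zero, M.e_zero]
      exact one_mem _
    obtain ⟨A, hA⟩ := exists_ap (F := F) (x := ![1, 0]) (y := x) (fun h => one_ne_zero (congrFun h 0)) hx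
    obtain ⟨g, hg, hgA⟩ := M.lift A
    apply Z_le_V hg
    rw [mem_conj]
    refine ⟨![1, 0], rfl, ?_⟩
    have h1 := hgA (ten α ![1, 0])
    rw [ap_ten, hA] at h1
    rw [← h1]
    group

/-- `[N ⊗ α, S] ≤ n ⊗ α` -/
theorem comm_mem (α : Fin m → F) {f t : G} (hf : f ∈ M.Vα α) (ht : t ∈ S) : f * t * f⁻¹ * t⁻¹ ∈ M.Zα α := by
  obtain ⟨x, rfl⟩ := hf
  obtain ⟨b, hb⟩ := M.unip t ht
  have h1 : t * (M.e (ten α x))⁻¹ * t⁻¹ = M.e (ten α (ap (up b) (-x))) := by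
    rw [← M.e_neg, ← ten_neg, hb, ap_ten]
  refine ⟨x + ap (up b) (-x), ?_, ?_⟩
  · rw [Pi.add_apply, ap_one', up_10, up_11, Pi.neg_apply, Pi.neg_apply]
    ring
  · rw [ten_add, M.e_add, ← h1]
    group

/-- `C_S(N ⊗ α) = C_S(V)` -/
theorem cent_le {α : Fin m → F} (hα : α ≠ 0) {t : G} (ht : t ∈ S) (htc : t ∈ centralizer (M.Vα α : Set G)) :
    t ∈ centralizer (V : Set G) := by
  obtain ⟨b, hb⟩ := M.unip t ht
  have hb0 : b = 0 := by
    have h1 : M.e (ten α ![0, 1]) ∈ M.Vα α := ⟨_, rfl⟩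
    have h2 := mem_centralizer_iff.1 htc _ h1
    have h3 : t * M.e (ten α ![0, 1]) * t⁻¹ = M.e (ten α ![0, 1]) := by rw [← h2]; group
    rw [hb, ap_ten] at h3
    have h4 := congrFun (ten_inj hα (M.e_inj h3)) 0
    rw [ap_zero', up_00, up_01] at h4
    simpa using h4
  rw [mem_centralizer_iff]
  intro v hv
  obtain ⟨x, rfl⟩ := (M.mem_iff v).1 hv
  have h1 := hb x
  have h2 : (fun i => ap (up b) (x i)) = x := by
    funext i
    apply ext2
    · rw [ap_zero', up_00, up_01, hb0]; ring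
    · rw [ap_one', up_10, up_11]; ring
  rw [h2] at h1
  calc M.e x * t = t * M.e x * t⁻¹ * t := by rw [h1]
    _ = t * M.e x := by group

theorem Zα_le_cent (α : Fin m → F) {t z : G} (ht : t ∈ S) (hz : z ∈ M.Zα α) : t * z * t⁻¹ = z := by
  obtain ⟨x, hx, rfl⟩ := hz
  obtain ⟨b, hb⟩ := M.unip t ht
  rw [hb, ap_ten]
  congr 2
  apply ext2
  · rw [ap_zero', up_00, up_01, hx]; ring
  · rw [ap_one', up_10, up_11, hx]; ring

end Tens

section hz

variable {F : Type*} [Field F] {G : Type u} [Group G] [Finite G] {S : Sylow 2 G} {P : Subgroup G} {m : ℕ}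

/-- `n ⊗ α ≤ Ω₁Z(S)` -/
theorem Tens.Zα_le_zc (h : Hyp S P) (M : Tens F (S : Subgroup G) P (zl (S : Subgroup G) P) m) (α : Fin m → F) :
    M.Zα α ≤ zc (S : Subgroup G) := by
  intro z hz
  have hzV := (M.Zα_le α).trans (M.Vα_le α) hz
  refine mem_zc.2 ⟨h.V_le_S hzV, fun t ht => ?_, zc_sq _ _ (h.zl_le hzV)⟩
  have h1 := M.Zα_le_cent α ht hz
  calc t * z = t * z * t⁻¹ * t := by group
    _ = z * t := by rw [h1]

/-- **LEMMA HZ'.** -/
theorem Tens.hz (h : Hyp S P) (M : Tens F (S : Subgroup G) P (zl (S : Subgroup G) P) m) {α : Fin m → F}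
    (hα : α ≠ 0) :
    M.Zα α ≤ zc (S : Subgroup G) ∧ M.Zα α ≠ ⊥ ∧ NoFF.Basic.V (M.Zα α) P = M.Vα α ∧
      Nonempty (NatP F (M.Vα α) P) ∧
      zl (S : Subgroup G) P ≤ o2 (centralizer (M.Zα α : Set G)) ∧
      M.Vα α ≤ o2 (centralizer (M.Zα α : Set G)) ∧
      NonLoc P (centralizer (M.Zα α : Set G)) ∧
      NoFF.Basic.V (zl (S : Subgroup G) P) (centralizer (M.Zα α : Set G)) ≤
        centralizer (NoFF.Basic.V (zl (S : Subgroup G) P) (centralizer (M.Zα α : Set G)) : Set G) ∧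
      ∀ x ∈ NoFF.Basic.V (zl (S : Subgroup G) P) (centralizer (M.Zα α : Set G)), x ^ 2 = 1 := by
  have hZ := M.Zα_le_zc h α
  have hne := M.Zα_ne hα
  have hV : zl (S : Subgroup G) P ≤ o2 (centralizer (M.Zα α : Set G)) := by
    refine le_o2 h hZ hne ?_ ?_
    · rw [M.V_Zα α]
      exact fun f hf t ht => M.comm_mem α hf ht
    · rw [M.V_Zα α]
      exact fun t ht => M.cent_le hα ht.1 ht.2
  exact ⟨hZ, hne, M.V_Zα α, ⟨M.natP hα⟩, hV, (M.Vα_le α).trans hV, nonLoc h hZ, comm h hZ hne hV,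
    sq h hZ hne hV⟩

end hz

end Cfsg.Agent.Omega.NO3b.CutNA
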