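import Cfsg.Agent.Omega.FFBr.Def

/-!
# The end of THEOREM K0 (helper706, #14028, section 6): a fixed vector outside the centralised part

`X` acts on the elementary abelian 2-groups `U`, `V`; `π : U → V` is an equivariant epimorphism whose kernel is
centralised by the elements of odd order of `X`, `V` is faithful and satisfies the conclusion of the FF theorem
(`AConcl T V`), and an offender `A ≤ T` on `V` satisfies `C_U(A) = π⁻¹(C_V(A))`. Then `T` fixes some `u ∈ U`
with `π u ≠ 1`.

* `torus` : the torus argument (`SL₂(q)`);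
* `Lift.nat`, `Lift.sym` : the two types; `Lift.exists_fix` : the theorem.
-/

set_option autoImplicit false
set_option linter.unusedSectionVars false

namespace Cfsg.Agent.Omega.NO3b.EndFix

open Subgroup Cfsg.Agent.Lib.SL2Mat Cfsg.Agent.Omega.FFBr
open Cfsg.Agent.Omega.NatPair (ap ap_mul ap_one ap_inv_ap ap_zero' ap_one')

section torus

variable {X U : Type*} [Group X] [Finite X] [Group U] [Finite U] [MulDistribMulAction X U]

/-- A 2-group acting on a nontrivial 2-group has a nontrivial fixed point. -/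
theorem exists_fixed {T : Subgroup X} (hT : IsPGroup 2 T) (hU : IsPGroup 2 U) {D : Subgroup U} (hne : D ≠ ⊥)
    (hD : ∀ t ∈ T, ∀ d ∈ D, t • d ∈ D) : ∃ d ∈ D, d ≠ 1 ∧ ∀ t ∈ T, t • d = d := by
  have : Fact (Nat.Prime 2) := ⟨Nat.prime_two⟩
  let act : MulAction T D :=
    { smul := fun t d => ⟨(t : X) • (d : U), hD t t.2 d d.2⟩
      one_smul := fun d => Subtype.ext (one_smul X (d : U))
      mul_smul := fun s t d => Subtype.ext (mul_smul (s : X) (t : X) (d : U)) }
  have h1 : (1 : D) ∈ MulAction.fixedPoints T D := by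
    intro t
    exact Subtype.ext (smul_one (t : X))
  have h2 : 2 ∣ Nat.card D := by
    obtain ⟨n, hn⟩ := IsPGroup.iff_card.1 (hU.to_subgroup D)
    rcases Nat.eq_zero_or_pos n with h0 | h0
    · rw [h0, pow_zero] at hn
      exact absurd (Subgroup.card_eq_one.1 hn) hne
    · rw [hn]
      exact dvd_pow_self 2 h0.ne'
  obtain ⟨d, hd, hd1⟩ := hT.exists_fixed_point_of_prime_dvd_card_of_fixed_point D h2 h1
  refine ⟨d, d.2, fun h => hd1 (Subtype.ext h.symm), fun t ht => ?_⟩
  exact congrArg Subtype.val (hd ⟨t, ht⟩)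

/-- **The torus argument.** -/
theorem torus {T : Subgroup X} (hT : IsPGroup 2 T) (hcom : ∀ u w : U, u * w = w * u) (hsq : ∀ u : U, u * u = 1)
    {Z C : Subgroup U} (hCZ : C ≤ Z) (hne : C ≠ Z) (hTZ : ∀ t ∈ T, ∀ z ∈ Z, t • z ∈ Z) {h : X}
    (hodd : Odd (orderOf h)) (hZ : ∀ z ∈ Z, h • z ∈ Z) (hC : ∀ t ∈ T, ∀ c ∈ C, (t * h * t⁻¹) • c = c)
    (hfix : ∀ z ∈ Z, h • z = z → z ∈ C)
    (hcm : ∀ t ∈ T, ∀ z ∈ Z, (t * h * t⁻¹) • h • z = h • (t * h * t⁻¹) • z) :
    ∃ z ∈ Z, z ∉ C ∧ ∀ t ∈ T, t • z = z := by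
  have hC1 : ∀ c ∈ C, h • c = c := by
    intro c hc
    have := hC 1 T.one_mem c hc
    rwa [one_mul, inv_one, mul_one] at this
  -- `φ(z) = [z, h]`
  let φ : Z →* U :=
    { toFun := fun z => (h • (z : U)) * (z : U)⁻¹
      map_one' := by simp
      map_mul' := fun z w => by
        have e1 := hcom (h • (w : U)) (z : U)⁻¹
        have e2 := hcom (z : U) (w : U)
        rw [Subgroup.coe_mul, smul_mul', e2, mul_inv_rev, mul_assoc, mul_assoc]
        congr 1
        rw [← mul_assoc, e1, mul_assoc] }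
  have hφ : ∀ z : Z, φ z = (h • (z : U)) * (z : U)⁻¹ := fun _ => rfl
  set D : Subgroup U := φ.range with hD
  have hDZ : D ≤ Z := by
    rintro _ ⟨z, rfl⟩
    exact Z.mul_mem (hZ _ z.2) (Z.inv_mem z.2)
  have hker : φ.ker = C.subgroupOf Z := by
    ext z
    rw [MonoidHom.mem_ker, hφ, mul_inv_eq_one, mem_subgroupOf]
    exact ⟨fun h1 => hfix z z.2 h1, fun h1 => hC1 _ h1⟩
  have hDC : ∀ d ∈ D, d ∈ C → d = 1 := by
    rintro _ ⟨z, rfl⟩ hzC
    have e0 : h • (z : U) = φ z * z := by rw [hφ, inv_mul_cancel_right]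
    have key : ∀ n : ℕ, (h ^ n) • (z : U) = (φ z) ^ n * z := by
      intro n
      induction n with
      | zero => simp
      | succ n ih =>
        rw [pow_succ', mul_smul, ih, smul_mul', smul_pow', hC1 _ hzC, e0, ← mul_assoc, ← pow_succ]
    have h1 := key (orderOf h)
    rw [pow_orderOf_eq_one, one_smul] at h1
    have h2 : (φ z) ^ orderOf h = 1 := by
      have := congrArg (fun y => y * (z : U)⁻¹) h1
      simpa using this.symm
    obtain ⟨j, hj⟩ := hodd
    rw [hj, pow_succ, pow_mul, pow_two, hsq, one_pow, one_mul] at h2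
    exact h2
  have hDne : D ≠ ⊥ := by
    intro h0
    apply hne
    refine le_antisymm hCZ fun z hz => hfix z hz ?_
    have h1 : φ ⟨z, hz⟩ ∈ D := ⟨_, rfl⟩
    rw [h0, mem_bot, hφ, mul_inv_eq_one] at h1
    exact h1
  -- `Z = C D`
  have hCD : ∀ z ∈ Z, ∃ c ∈ C, ∃ d ∈ D, z = c * d := by
    have hn : ∀ x ∈ C ⊔ D, ∃ c ∈ C, ∃ d ∈ D, x = c * d := by
      intro x hx
      have hnorm : D ≤ normalizer (C : Set U) := by
        intro d _
        rw [mem_normalizer_iff]
        intro y
        have e : d * y * d⁻¹ = y := by rw [hcom d y, mul_inv_cancel_right]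
        rw [e]
      rw [← SetLike.mem_coe, Subgroup.coe_mul_of_right_le_normalizer_left _ _ hnorm, Set.mem_mul] at hx
      obtain ⟨c, hc, d, hd, hx⟩ := hx
      exact ⟨c, hc, d, hd, hx.symm⟩
    have hle : C ⊔ D ≤ Z := sup_le hCZ hDZ
    have hcard : Nat.card Z ≤ Nat.card ↥(C ⊔ D) := by
      have h1 : Nat.card (C.subgroupOf Z) * Nat.card D = Nat.card Z := by
        rw [← hker, hD, ← Subgroup.index_ker φ]
        exact Subgroup.card_mul_index _
      have h2 : Nat.card (C.subgroupOf Z) = Nat.card C := Nat.card_congr (subgroupOfEquivOfLe hCZ).toEquiv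
      rw [← h1, h2]
      have hinj : Function.Injective (fun p : C × D => (⟨(p.1 : U) * p.2, mul_mem
          (le_sup_left (a := C) (b := D) p.1.2) (le_sup_right (a := C) (b := D) p.2.2)⟩ : ↥(C ⊔ D))) := by
        rintro ⟨c, d⟩ ⟨c', d'⟩ h3
        have h4 : (c : U) * d = c' * d' := congrArg Subtype.val h3
        have h5 : (d : U) * (d' : U)⁻¹ = (c : U)⁻¹ * c' := by
          rw [eq_inv_mul_iff_mul_eq, ← mul_assoc, h4, mul_inv_cancel_right]
        have h6 : (d : U) * (d' : U)⁻¹ = 1 := hDC _ (D.mul_mem d.2 (D.inv_mem d'.2)) (by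
          rw [h5]; exact C.mul_mem (C.inv_mem c.2) c'.2)
        have h7 : (d : U) = d' := mul_inv_eq_one.1 h6
        have h8 : (c : U) = c' := by rw [h7] at h4; exact mul_right_cancel h4
        exact Prod.ext (Subtype.ext h8) (Subtype.ext h7)
      have := Nat.card_le_card_of_injective _ hinj
      rwa [Nat.card_prod] at this
    have heq : C ⊔ D = Z := eq_of_le_of_card_ge hle hcard
    intro z hz
    exact hn z (heq ▸ hz)
  -- `[Z, h^t] ≤ D`
  have hx : ∀ t ∈ T, ∀ z ∈ Z, ((t * h * t⁻¹) • z) * z⁻¹ ∈ D := by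
    intro t ht z hz
    obtain ⟨c, hc, d, ⟨y, rfl⟩, rfl⟩ := hCD z hz
    have hxZ : ∀ z ∈ Z, (t * h * t⁻¹) • z ∈ Z := by
      intro z hz
      rw [mul_smul, mul_smul]
      exact hTZ t ht _ (hZ _ (hTZ _ (T.inv_mem ht) _ hz))
    have e1 : (t * h * t⁻¹) • φ y = φ ⟨(t * h * t⁻¹) • (y : U), hxZ _ y.2⟩ := by
      rw [hφ, hφ, smul_mul', smul_inv', hcm t ht _ y.2]
    have e2 : ((t * h * t⁻¹) • (c * φ y)) * (c * φ y)⁻¹ = ((t * h * t⁻¹) • φ y) * (φ y)⁻¹ := by
      rw [smul_mul', hC t ht c hc]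
      generalize (t * h * t⁻¹) • φ y = a
      rw [mul_inv_rev, ← mul_assoc, mul_assoc c a, hcom c (a * (φ y)⁻¹), mul_inv_cancel_right]
    rw [e2, e1]
    exact D.mul_mem ⟨_, rfl⟩ (D.inv_mem ⟨_, rfl⟩)
  have hTD : ∀ t ∈ T, ∀ d ∈ D, t • d ∈ D := by
    rintro t ht _ ⟨z, rfl⟩
    have h1 := hx t ht (t • (z : U)) (hTZ t ht _ z.2)
    have e : t • φ z = ((t * h * t⁻¹) • (t • (z : U))) * (t • (z : U))⁻¹ := by
      rw [hφ, smul_mul', smul_inv', ← mul_smul, ← mul_smul]
      simp
    rw [e]
    exact h1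
  have hpU : IsPGroup 2 U := fun u => ⟨1, by rw [pow_one, pow_two]; exact hsq u⟩
  obtain ⟨d, hd, hd1, hdT⟩ := exists_fixed hT hpU hDne hTD
  exact ⟨d, hDZ hd, fun h1 => hd1 (hDC d hd h1), hdT⟩

end torus

/-- The situation: `π : U → V` equivariant and onto, `ker π` centralised by the elements of odd order, `V` faithful
without fixed points of `O²(X)`, `A ≤ T` an offender on `V` with `C_U(A) = π⁻¹(C_V(A))`. -/
structure Lift {X U V : Type*} [Group X] [Group U] [Group V] [MulDistribMulAction X U]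
    [MulDistribMulAction X V] (π : U →* V) (T A : Subgroup X) : Prop where
  comm : ∀ u w : U, u * w = w * u
  sq : ∀ u : U, u * u = 1
  surj : Function.Surjective π
  eqv : ∀ (x : X) (u : U), π (x • u) = x • π u
  ker : ∀ u : U, π u = 1 → ∀ x : X, Odd (orderOf x) → x • u = u
  faith : ∀ x : X, (∀ v : V, x • v = v) → x = 1
  odd : ∀ v ∈ odd X V, v = 1
  pT : IsPGroup 2 T
  AT : A ≤ T
  off : AOff V A
  full : ∀ u : U, (∀ a ∈ A, a • π u = π u) → ∀ a ∈ A, a • u = u

namespace Lift

variable {X U V : Type*} [Group X] [Finite X] [Group U] [Finite U] [Group V] [Finite V]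
  [MulDistribMulAction X U] [MulDistribMulAction X V] {π : U →* V} {T A : Subgroup X}

theorem sqV (L : Lift π T A) (v : V) : v * v = 1 := by
  obtain ⟨u, rfl⟩ := L.surj v
  rw [← map_mul, L.sq, map_one]

theorem invV (L : Lift π T A) (v : V) : v⁻¹ = v := inv_eq_of_mul_eq_one_left (L.sqV v)

theorem eq_of (L : Lift π T A) {g g' : X} (h : ∀ v : V, g • v = g' • v) : g = g' := by
  have h1 := L.faith (g'⁻¹ * g) fun v => by rw [mul_smul, h, ← mul_smul, inv_mul_cancel, one_smul]
  exact (inv_mul_eq_one.1 h1).symm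

/-- conjugation by `T` -/
theorem conj (L : Lift π T A) {t : X} (ht : t ∈ T) : Lift π T (A.map (MulAut.conj t).toMonoidHom) := by
  have hmem : ∀ a ∈ A, t * a * t⁻¹ ∈ A.map (MulAut.conj t).toMonoidHom := fun a ha => ⟨a, ha, rfl⟩
  refine ⟨L.comm, L.sq, L.surj, L.eqv, L.ker, L.faith, L.odd, L.pT, ?_, ⟨?_, ?_, ?_, ?_⟩, ?_⟩
  · rintro _ ⟨a, ha, rfl⟩
    exact T.mul_mem (T.mul_mem ht (L.AT ha)) (T.inv_mem ht)
  · rintro _ ⟨a, ha, rfl⟩ _ ⟨b, hb, rfl⟩
    rw [← map_mul, ← map_mul, L.off.comm a ha b hb]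
  · rintro _ ⟨a, ha, rfl⟩
    rw [← map_mul, L.off.sq a ha, map_one]
  · intro h0
    exact L.off.ne ((Subgroup.map_eq_bot_iff_of_injective _ (MulAut.conj t).injective).1 h0)
  · have h1 : ClassTwoFusion.Quad.cv V ((A.map (MulAut.conj t).toMonoidHom : Subgroup X) : Set X) =
        (ClassTwoFusion.Quad.cv V (A : Set X)).map (MulDistribMulAction.toMulEquiv V t).toMonoidHom := by
      ext v
      constructor
      · intro hv
        refine ⟨t⁻¹ • v, fun a ha => ?_, ?_⟩
        · have h2 := hv (t * a * t⁻¹) (hmem a ha)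
          rw [mul_smul, mul_smul] at h2
          rw [eq_inv_smul_iff]
          exact h2
        · change t • t⁻¹ • v = v
          rw [smul_inv_smul]
      · rintro ⟨w, hw, rfl⟩ _ ⟨a, ha, rfl⟩
        change (t * a * t⁻¹) • t • w = t • w
        rw [mul_smul, inv_smul_smul, mul_smul, hw a ha]
    have h2 : (ClassTwoFusion.Quad.cv V ((A.map (MulAut.conj t).toMonoidHom : Subgroup X) : Set X)).index =
        (ClassTwoFusion.Quad.cv V (A : Set X)).index := by
      rw [h1]
      exact Subgroup.index_map_equiv _ (MulDistribMulAction.toMulEquiv V t)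
    rw [h2, Nat.card_congr (A.equivMapOfInjective _ (MulAut.conj t).injective).symm.toEquiv]
    exact L.off.le
  · rintro u hu _ ⟨a, ha, rfl⟩
    have h1 := L.full (t⁻¹ • u) (fun b hb => by
      have h2 := hu _ (hmem b hb)
      rw [L.eqv, eq_inv_smul_iff, ← mul_smul, ← mul_smul]
      exact h2) a ha
    rw [eq_inv_smul_iff, ← mul_smul, ← mul_smul] at h1
    exact h1

/-! ### Natural `SL₂(F)`-modules -/

section nat

variable {F : Type} [Field F] [Finite F] [CharP F 2] {k : ℕ}

/-- `g` acts as `B` on the coordinates -/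
def Co (n : AbsNat F T V k) (g : X) (B : Fin k → Matrix.SpecialLinearGroup (Fin 2) F) : Prop :=
  ∀ v i, n.e (g • v) i = ap (B i) (n.e v i)

theorem e_one (n : AbsNat F T V k) : n.e 1 = 0 := by
  have h1 := n.mul 1 1
  rw [mul_one] at h1
  exact left_eq_add.1 h1

theorem e_inj (L : Lift π T A) (n : AbsNat F T V k) {v w : V} (h : n.e v = n.e w) : v = w := by
  have h1 : n.e (v * w) = 0 := by
    rw [n.mul, h]
    funext i j
    exact CharTwo.add_self_eq_zero _
  have h2 := L.odd _ ((n.ker _).1 h1)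
  rw [← L.invV w]
  exact eq_inv_of_mul_eq_one_left h2

theorem Co.eq (L : Lift π T A) (n : AbsNat F T V k) {g g' : X} {B : Fin k → Matrix.SpecialLinearGroup (Fin 2) F}
    (h : Co n g B) (h' : Co n g' B) : g = g' :=
  L.eq_of fun v => L.e_inj n (funext fun i => by rw [h v i, h' v i])

omit [Finite X] [Finite V] [Finite F] [CharP F 2] in
theorem Co.mul {n : AbsNat F T V k} {g g' : X} {B B' : Fin k → Matrix.SpecialLinearGroup (Fin 2) F}
    (h : Co n g B) (h' : Co n g' B') : Co n (g * g') fun i => B i * B' i := by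
  intro v i
  rw [mul_smul, h, h', ap_mul]

omit [Finite X] [Finite V] [Finite F] [CharP F 2] in
theorem Co.inv {n : AbsNat F T V k} {g : X} {B : Fin k → Matrix.SpecialLinearGroup (Fin 2) F}
    (h : Co n g B) : Co n g⁻¹ fun i => (B i)⁻¹ := by
  intro v i
  have h1 := h (g⁻¹ • v) i
  rw [smul_inv_smul] at h1
  rw [h1, ap_inv_ap]

theorem Co.one (n : AbsNat F T V k) : Co n 1 fun _ => 1 := by
  intro v i
  rw [one_smul, ap_one]

theorem exists_co (n : AbsNat F T V k) (B : Fin k → Matrix.SpecialLinearGroup (Fin 2) F) : ∃ g, Co n g B := by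
  obtain ⟨g, hg⟩ := n.lift B
  exact ⟨g, hg.1⟩

theorem pi_up_zero : (fun _ : Fin k => up (0 : F)) = fun _ => 1 := funext fun _ => up_zero

/-- every index occurs in the support of a conjugate of `A` -/
theorem exists_A (L : Lift π T A) (n : AbsNat F T V k) (i : Fin k) : ∃ A' : Subgroup X, Lift π T A' ∧
    (∀ a ∈ A', ∃ b : Fin k → F, Co n a fun j => up (b j)) ∧
    ∀ b : F, ∃ a ∈ A', Co n a fun j => up ((Pi.single i b : Fin k → F) j) := by
  obtain ⟨I, h1, h2⟩ := n.off A L.AT L.off
  obtain ⟨i₀, hi₀⟩ : ∃ i₀, i₀ ∈ I := by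
    by_contra hcon
    push Not at hcon
    refine L.off.ne ((Subgroup.eq_bot_iff_forall _).2 fun a ha => ?_)
    obtain ⟨b, hb, hc⟩ := h1 a ha
    have hb0 : b = 0 := funext fun j => hb j (hcon j)
    refine Co.eq L n (B := fun _ => 1) ?_ (Co.one n)
    intro v j
    have h3 := hc.1 v j
    simp only [hb0, Pi.zero_apply, up_zero] at h3
    exact h3
  obtain ⟨t, ht, hti⟩ := n.trans i₀ i
  obtain ⟨I', h1', h2'⟩ := n.off _ (L.conj ht).AT (L.conj ht).off
  have hi : i ∈ I' := by
    by_contra hcon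
    obtain ⟨a, ha, hac⟩ := h2 (Pi.single i₀ 1) fun j hj => by
      rw [Pi.single_eq_of_ne]
      rintro rfl
      exact hj hi₀
    obtain ⟨b, hb, hbc⟩ := h1' _ ⟨a, ha, rfl⟩
    obtain ⟨w, hw⟩ := n.surj fun _ => ![0, 1]
    have h3 := hbc.1 (t • w) i
    have e1 : (MulAut.conj t).toMonoidHom a • t • w = t • a • w := by
      change (t * a * t⁻¹) • t • w = t • a • w
      rw [mul_smul, inv_smul_smul, mul_smul]
    simp only [e1, hb i hcon, up_zero, ap_one] at h3
    have h4 : n.e (t • (a • w * w)) i = 0 := by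
      rw [smul_mul', n.mul, Pi.add_apply, h3]
      funext j
      exact CharTwo.add_self_eq_zero _
    have h5 := (hti _).1 h4
    rw [n.mul, Pi.add_apply, hac.1, hw] at h5
    have h6 := congrFun h5 0
    simp only [Pi.single_eq_same] at h6
    rw [Pi.add_apply, ap_zero'] at h6
    simp at h6
  refine ⟨_, L.conj ht, fun a ha => ?_, fun b => ?_⟩
  · obtain ⟨b, -, hb⟩ := h1' a ha
    exact ⟨b, hb.1⟩
  · obtain ⟨a, ha, hac⟩ := h2' (Pi.single i b) fun j hj => by
      rw [Pi.single_eq_of_ne]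
      rintro rfl
      exact hj hi
    exact ⟨a, ha, hac.1⟩

/-- the elements of the root group at `i` centralise `{u | e (π u) i 1 = 0}` -/
theorem root_fix (L : Lift π T A) (n : AbsNat F T V k) {i : Fin k} {b : F} {g : X}
    (hg : Co n g fun j => up ((Pi.single i b : Fin k → F) j)) {u : U} (hu : n.e (π u) i 1 = 0) : g • u = u := by
  obtain ⟨A', L', hA, hA'⟩ := L.exists_A n i
  obtain ⟨r, hr, hrc⟩ := hA' b
  obtain rfl := Co.eq L n hg hrc
  -- the first part
  obtain ⟨v₁, hv₁⟩ := n.surj fun j => ![n.e (π u) j 0, 0]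
  obtain ⟨u₁, rfl⟩ := L.surj v₁
  have fixA : ∀ u : U, (∀ j, n.e (π u) j 1 = 0) → ∀ a ∈ A', a • u = u := by
    intro u hu
    refine L'.full u fun a ha => ?_
    obtain ⟨c, hc⟩ := hA a ha
    refine L.e_inj n (funext fun j => ?_)
    rw [hc (π u) j]
    refine Cfsg.Agent.Omega.NatPair.ext2 ?_ ?_
    · rw [ap_zero', up_00, up_01, hu j]; ring
    · rw [ap_one', up_10, up_11]; ring
  have h1 : g • u₁ = u₁ := fixA u₁ (fun j => by rw [hv₁]; rfl) g hr
  -- the second part
  obtain ⟨w, hw⟩ := exists_co n fun j => if j = i then 1 else wm 1 one_ne_zero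
  obtain ⟨v₃, hv₃⟩ := n.surj fun j => if j = i then 0 else ![n.e (π u) j 1, 0]
  have h2 : g • (u₁ * u) = u₁ * u := by
    have h3 : π (w⁻¹ • (u₁ * u)) = v₃ := by
      rw [L.eqv, inv_smul_eq_iff]
      refine L.e_inj n (funext fun j => ?_)
      rw [hw v₃ j, hv₃, map_mul, n.mul, hv₁, Pi.add_apply]
      by_cases hj : j = i
      · subst hj
        simp only [if_true]
        rw [ap_one]
        refine Cfsg.Agent.Omega.NatPair.ext2 ?_ ?_
        · rw [Pi.add_apply, Matrix.cons_val_zero, CharTwo.add_self_eq_zero]; rfl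
        · rw [Pi.add_apply, hu]; simp
      · simp only [if_neg hj]
        refine Cfsg.Agent.Omega.NatPair.ext2 ?_ ?_
        · rw [Pi.add_apply, Matrix.cons_val_zero, CharTwo.add_self_eq_zero, ap_zero', wm_00, wm_01]
          simp
        · rw [Pi.add_apply, ap_one', wm_10, wm_11]
          simp [CharTwo.neg_eq]
    have h4 : ∀ a ∈ A', a • (w⁻¹ • (u₁ * u)) = w⁻¹ • (u₁ * u) := by
      refine fixA _ fun j => ?_
      rw [h3, hv₃]
      by_cases hj : j = i
      · simp only [if_pos hj]; rfl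
      · simp only [if_neg hj]; rfl
    have h5 : w⁻¹ * g * w = g := by
      refine Co.eq L n (B := fun j => (if j = i then 1 else wm 1 one_ne_zero)⁻¹ *
        up ((Pi.single i b : Fin k → F) j) * (if j = i then 1 else wm 1 one_ne_zero)) ((hw.inv.mul hg).mul hw) ?_
      have e : (fun j => (if j = i then 1 else wm 1 one_ne_zero)⁻¹ *
        up ((Pi.single i b : Fin k → F) j) * (if j = i then 1 else wm 1 one_ne_zero)) =
          fun j => up ((Pi.single i b : Fin k → F) j) := by
        funext j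
        by_cases hj : j = i
        · simp only [if_pos hj, inv_one, one_mul, mul_one]
        · simp only [if_neg hj, Pi.single_eq_of_ne hj, up_zero, mul_one, inv_mul_cancel]
      rw [e]
      exact hg
    have h6 := h4 g hr
    rw [eq_inv_smul_iff, ← mul_smul, ← mul_smul] at h6
    have h7 : w * g * w⁻¹ = g := by
      conv_lhs => rw [← h5]
      group
    rwa [h7] at h6
  rw [smul_mul', h1] at h2
  exact mul_left_cancel h2

/-- the upper unitriangular elements centralise `{u | ∀ i, e (π u) i 1 = 0}` -/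
theorem roots_fix (L : Lift π T A) (n : AbsNat F T V k) {b : Fin k → F} {g : X}
    (hg : Co n g fun j => up (b j)) {u : U} (hu : ∀ i, n.e (π u) i 1 = 0) : g • u = u := by
  have key : ∀ b : Fin k → F, ∀ g : X, Co n g (fun j => up (b j)) → g • u = u := by
    intro b
    have h1 : (∑ i, (Pi.single i (b i) : Fin k → F)) = b := Finset.univ_sum_single b
    rw [← h1]
    refine Finset.sum_induction _ (fun b : Fin k → F => ∀ g : X, Co n g (fun j => up (b j)) → g • u = u) ?_ ?_ ?_
    · intro b c hb hc g hg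
      obtain ⟨g₁, hg₁⟩ := exists_co n fun j => up (b j)
      have h2 : Co n (g₁⁻¹ * g) fun j => up (c j) := by
        have h3 := hg₁.inv.mul hg
        have e : (fun j => (up (b j))⁻¹ * up ((b + c) j)) = fun j => up (c j) := by
          funext j
          rw [up_inv, up_mul, Pi.add_apply, neg_add_cancel_left]
        rwa [e] at h3
      have h4 := hc _ h2
      rw [mul_smul, inv_smul_eq_iff, hb g₁ hg₁] at h4
      exact h4
    · intro g hg
      have h2 : g = 1 := Co.eq L n (B := fun _ => 1) (by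
        intro v j
        have := hg v j
        simp only [Pi.zero_apply, up_zero] at this
        exact this) (Co.one n)
      rw [h2, one_smul]
    · intro i _ g hg
      exact L.root_fix n hg (hu i)
  exact key b g hg

/-- the elements `u` with `e (π u) i 1 = 0` for all `i` -/
def ZZ (n : AbsNat F T V k) (π : U →* V) : Subgroup U where
  carrier := {u | ∀ i, n.e (π u) i 1 = 0}
  one_mem' := fun i => by rw [map_one, e_one]; rfl
  mul_mem' := fun {u w} hu hw i => by rw [map_mul, n.mul, Pi.add_apply, Pi.add_apply, hu i, hw i, add_zero]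
  inv_mem' := fun {u} hu i => by
    have h1 := n.mul (π u) (π u⁻¹)
    rw [← map_mul, mul_inv_cancel, map_one, e_one] at h1
    have h2 := congrFun (congrFun h1 i) 1
    rw [Pi.add_apply, Pi.add_apply, hu i, zero_add] at h2
    exact h2.symm

theorem mem_ZZ {n : AbsNat F T V k} {π : U →* V} {u : U} : u ∈ ZZ n π ↔ ∀ i, n.e (π u) i 1 = 0 := Iff.rfl

/-- `q ≥ 4` -/
theorem nat_big (L : Lift π T A) (n : AbsNat F T V k) (hk : 0 < k) (hF : ∃ l : F, l ≠ 0 ∧ l ≠ 1) :
    ∃ u, (∀ t ∈ T, t • u = u) ∧ π u ≠ 1 := by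
  obtain ⟨l, hl0, hl1⟩ := hF
  obtain ⟨h, hh⟩ := exists_co n fun _ => dg l hl0
  have hpow : ∀ m : ℕ, ∀ v i, n.e (h ^ m • v) i = ![l ^ m * n.e v i 0, (l⁻¹) ^ m * n.e v i 1] := by
    intro m
    induction m with
    | zero =>
      intro v i
      rw [pow_zero, one_smul, pow_zero, pow_zero, one_mul, one_mul]
      exact Cfsg.Agent.Omega.NatPair.ext2 rfl rfl
    | succ m ih =>
      intro v i
      rw [pow_succ', mul_smul, hh, ih]
      refine Cfsg.Agent.Omega.NatPair.ext2 ?_ ?_
      · rw [ap_zero', dg_00, dg_01]; simp; ring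
      · rw [ap_one', dg_10, dg_11]; simp; ring
  have hodd : Odd (orderOf h) := by
    have : Fintype F := Fintype.ofFinite F
    have h1 : h ^ (Fintype.card F - 1) = 1 := by
      refine L.eq_of fun v => L.e_inj n (funext fun i => ?_)
      rw [hpow, FiniteField.pow_card_sub_one_eq_one l hl0, FiniteField.pow_card_sub_one_eq_one _ (inv_ne_zero hl0),
        one_mul, one_mul, one_smul]
      exact Cfsg.Agent.Omega.NatPair.ext2 rfl rfl
    obtain ⟨m, -, hm⟩ := FiniteField.card F 2
    have h2 : Odd (Fintype.card F - 1) := by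
      rw [hm]
      have h3 : (2 : ℕ) ∣ 2 ^ (m : ℕ) := dvd_pow_self 2 m.pos.ne'
      have h4 : 0 < 2 ^ (m : ℕ) := by positivity
      obtain ⟨c, hc⟩ := h3
      exact ⟨c - 1, by omega⟩
    exact Odd.of_dvd_nat h2 (orderOf_dvd_of_pow_eq_one h1)
  have hoddc : ∀ t : X, Odd (orderOf (t * h * t⁻¹)) := by
    intro t
    have : orderOf (t * h * t⁻¹) = orderOf h := orderOf_injective (MulAut.conj t).toMonoidHom (MulAut.conj t).injective h
    rwa [this]
  have hZ : ∀ z ∈ ZZ n π, h • z ∈ ZZ n π := by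
    intro z hz i
    rw [L.eqv, hh, ap_one', dg_10, dg_11, hz i, zero_mul, mul_zero, add_zero]
  have hTZ : ∀ t ∈ T, ∀ z ∈ ZZ n π, t • z ∈ ZZ n π := by
    intro t ht z hz i
    obtain ⟨σ, hσ⟩ := n.line t ht
    have h1 := (hσ (π z) (σ.symm i)).2 (hz _)
    rw [σ.apply_symm_apply] at h1
    rwa [L.eqv]
  obtain ⟨z, hz, hzC, hzT⟩ := torus L.pT L.comm L.sq (Z := ZZ n π) (C := π.ker) (h := h) (fun u hu i => by
      rw [MonoidHom.mem_ker] at hu
      rw [hu, e_one]; rfl) (by
      intro h0
      obtain ⟨v, hv⟩ := n.surj fun _ => ![1, 0]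
      obtain ⟨u, rfl⟩ := L.surj v
      have h1 : u ∈ ZZ n π := fun i => by rw [hv]; rfl
      rw [← h0, MonoidHom.mem_ker] at h1
      rw [h1, e_one] at hv
      have h2 := congrFun (congrFun hv ⟨0, hk⟩) 0
      simp at h2) hTZ hodd hZ (fun t _ c hc => L.ker c (MonoidHom.mem_ker.1 hc) _ (hoddc t)) (by
      intro z hz h1
      rw [MonoidHom.mem_ker]
      refine L.e_inj n ?_
      rw [e_one]
      funext i
      have h2 := hh (π z) i
      rw [← L.eqv, h1] at h2
      refine Cfsg.Agent.Omega.NatPair.ext2 ?_ (hz i)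
      have h3 := congrFun h2 0
      rw [ap_zero', dg_00, dg_01, zero_mul, add_zero] at h3
      have h4 : (l - 1) * n.e (π z) i 0 = 0 := by rw [sub_mul, ← h3]; ring
      rcases mul_eq_zero.1 h4 with h5 | h5
      · exact absurd (sub_eq_zero.1 h5) hl1
      · exact h5) (by
      intro t ht z hz
      obtain ⟨B, hB⟩ := n.norm t h (fun _ => dg l hl0) hh
      -- `B` is upper triangular
      have hBt : ∀ i, ent (B i) 1 0 = 0 := by
        intro i
        obtain ⟨v, hv⟩ := n.surj fun _ => ![1, 0]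
        obtain ⟨u, rfl⟩ := L.surj v
        have h1 : u ∈ ZZ n π := fun i => by rw [hv]; rfl
        have h2 : (t * h * t⁻¹) • u ∈ ZZ n π := by
          rw [mul_smul, mul_smul]
          exact hTZ t ht _ (hZ _ (hTZ _ (T.inv_mem ht) _ h1))
        have h3 := h2 i
        rw [L.eqv, hB, ap_one', hv] at h3
        simpa using h3
      have hBc : Co n (t * h * t⁻¹) B := hB
      -- the commutator acts trivially
      have h4 : ((h * (t * h * t⁻¹))⁻¹ * ((t * h * t⁻¹) * h)) • z = z := by
        have h5 := (hh.mul hBc).inv.mul (hBc.mul hh)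
        refine L.roots_fix n (b := fun i => ent ((dg l hl0 * B i)⁻¹ * (B i * dg l hl0)) 0 1) ?_ hz
        have e : (fun i => (dg l hl0 * B i)⁻¹ * (B i * dg l hl0)) =
            fun i => up (ent ((dg l hl0 * B i)⁻¹ * (B i * dg l hl0)) 0 1) := by
          funext i
          have hd := det_eq (B i)
          rw [hBt i, mul_zero, sub_zero] at hd
          refine ext_ent ?_ ?_ ?_ ?_
          · rw [up_00]
            simp only [ent_mul, ent_inv, hBt i, dg_00, dg_01, dg_10, dg_11, mk_00, mk_01]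
            field_simp
            linear_combination l * hd
          · rw [up_01]
          · rw [up_10]
            simp only [ent_mul, ent_inv, hBt i, dg_00, dg_01, dg_10, dg_11, mk_10, mk_11]
            ring
          · rw [up_11]
            simp only [ent_mul, ent_inv, hBt i, dg_00, dg_01, dg_10, dg_11, mk_10, mk_11]
            field_simp
            linear_combination l ^ 2 * hd
        rwa [e] at h5
      rw [mul_smul, inv_smul_eq_iff] at h4
      exact (mul_smul _ _ _).symm.trans (h4.trans (mul_smul _ _ _)))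
  exact ⟨z, hzT, fun h0 => hzC (MonoidHom.mem_ker.2 h0)⟩

/-- `q = 2` -/
theorem nat_two (L : Lift π T A) (n : AbsNat F T V k) (hk : 0 < k) (hF : ∀ l : F, l = 0 ∨ l = 1) :
    ∃ u, (∀ t ∈ T, t • u = u) ∧ π u ≠ 1 := by
  have two : (1 : F) + 1 = 0 := CharTwo.add_self_eq_zero 1
  have neg : (-1 : F) = 1 := CharTwo.neg_eq 1
  set c : Matrix.SpecialLinearGroup (Fin 2) F := Cfsg.Agent.Lib.SL2Mat.mk 0 1 1 1 (by rw [zero_mul, one_mul, zero_sub, neg]) with hc
  have hc3 : c * c * c = 1 := by
    refine ext_ent ?_ ?_ ?_ ?_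
    · simp only [ent_mul, hc, mk_00, mk_01, mk_10, mk_11, ent_one_00]; linear_combination (0 : F) * two
    · simp only [ent_mul, hc, mk_00, mk_01, mk_10, mk_11, ent_one_01]; linear_combination two
    · simp only [ent_mul, hc, mk_00, mk_01, mk_10, mk_11, ent_one_10]; linear_combination two
    · simp only [ent_mul, hc, mk_00, mk_01, mk_10, mk_11, ent_one_11]; linear_combination two
  -- the elements of order 3 commute
  have hcomm : ∀ B : Matrix.SpecialLinearGroup (Fin 2) F, B * B * B = 1 → B * c = c * B := by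
    intro B hB
    have h00 := congrArg (fun M => ent M 0 0) hB
    have h01 := congrArg (fun M => ent M 0 1) hB
    have h10 := congrArg (fun M => ent M 1 0) hB
    have h11 := congrArg (fun M => ent M 1 1) hB
    simp only [ent_mul, ent_one_00, ent_one_01, ent_one_10, ent_one_11] at h00 h01 h10 h11
    have hd := det_eq B
    have key : ent B 0 1 = ent B 1 0 ∧ ent B 0 0 + ent B 0 1 + ent B 1 1 = 0 ∨ (ent B 0 1 = 0 ∧ ent B 1 0 = 0 ∧
        ent B 0 0 = 1 ∧ ent B 1 1 = 1) := by
      rcases hF (ent B 0 0) with e0 | e0 <;> rcases hF (ent B 0 1) with e1 | e1 <;>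
        rcases hF (ent B 1 0) with e2 | e2 <;> rcases hF (ent B 1 1) with e3 | e3 <;>
        simp_all
    refine ext_ent ?_ ?_ ?_ ?_
    · simp only [ent_mul, hc, mk_00, mk_01, mk_10]
      rcases key with ⟨k1, k2⟩ | ⟨k1, k2, k3, k4⟩
      · rw [k1]; ring
      · rw [k1, k2]; ring
    · simp only [ent_mul, hc, mk_00, mk_01, mk_11]
      rcases key with ⟨k1, k2⟩ | ⟨k1, k2, k3, k4⟩
      · linear_combination k2 - ent B 1 1 * two
      · rw [k1, k3, k4]; ring
    · simp only [ent_mul, hc, mk_00, mk_10, mk_11]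
      rcases key with ⟨k1, k2⟩ | ⟨k1, k2, k3, k4⟩
      · linear_combination k2 - k1 - ent B 0 0 * two - ent B 1 0 * two
      · rw [k2, k3, k4]; ring
    · simp only [ent_mul, hc, mk_01, mk_10, mk_11]
      rcases key with ⟨k1, k2⟩ | ⟨k1, k2, k3, k4⟩
      · rw [k1]; ring
      · rw [k1, k2]; ring
  obtain ⟨h, hh⟩ := exists_co n fun _ => c
  have hodd : Odd (orderOf h) := by
    have h1 : h ^ 3 = 1 := by
      have h2 := (hh.mul hh).mul hh
      rw [pow_three, ← mul_assoc]
      refine Co.eq L n (B := fun _ => 1) ?_ (Co.one n)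
      simp only [hc3] at h2
      exact h2
    exact Odd.of_dvd_nat (by decide) (orderOf_dvd_of_pow_eq_one h1)
  have hoddc : ∀ t : X, Odd (orderOf (t * h * t⁻¹)) := by
    intro t
    have : orderOf (t * h * t⁻¹) = orderOf h := orderOf_injective (MulAut.conj t).toMonoidHom (MulAut.conj t).injective h
    rwa [this]
  obtain ⟨z, -, hzC, hzT⟩ := torus L.pT L.comm L.sq (Z := ⊤) (C := π.ker) (h := h) le_top (by
      intro h0
      obtain ⟨v, hv⟩ := n.surj fun _ => ![1, 0]
      obtain ⟨u, rfl⟩ := L.surj v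
      have h1 : u ∈ (⊤ : Subgroup U) := mem_top u
      rw [← h0, MonoidHom.mem_ker] at h1
      rw [h1, e_one] at hv
      have h2 := congrFun (congrFun hv ⟨0, hk⟩) 0
      simp at h2) (fun _ _ _ _ => mem_top _) hodd (fun _ _ => mem_top _)
    (fun t _ c hc => L.ker c (MonoidHom.mem_ker.1 hc) _ (hoddc t)) (by
      intro z _ h1
      rw [MonoidHom.mem_ker]
      refine L.e_inj n ?_
      rw [e_one]
      funext i
      have h2 := hh (π z) i
      rw [← L.eqv, h1] at h2
      have h3 := congrFun h2 0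
      have h4 := congrFun h2 1
      rw [ap_zero', hc, mk_00, mk_01, zero_mul, one_mul, zero_add] at h3
      rw [ap_one', hc, mk_10, mk_11, one_mul, one_mul] at h4
      have h5 : n.e (π z) i 0 = 0 := by linear_combination -h4
      refine Cfsg.Agent.Omega.NatPair.ext2 h5 ?_
      rw [← h3, h5]; rfl) (by
      intro t _ z _
      obtain ⟨B, hB⟩ := n.norm t h (fun _ => c) hh
      have hBc : Co n (t * h * t⁻¹) B := hB
      have hB3 : ∀ i, B i * B i * B i = 1 := by
        intro i
        refine Cfsg.Agent.Omega.NatPair.ap_inj fun x => ?_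
        obtain ⟨v, hv⟩ := n.surj fun _ => x
        have h2 := ((hBc.mul hBc).mul hBc) v i
        have h3 : t * h * t⁻¹ * (t * h * t⁻¹) * (t * h * t⁻¹) = 1 := by
          have h4 : h * h * h = 1 := by
            refine Co.eq L n (B := fun _ => 1) ?_ (Co.one n)
            have h2 := (hh.mul hh).mul hh
            simp only [hc3] at h2
            exact h2
          calc _ = t * (h * h * h) * t⁻¹ := by group
            _ = 1 := by rw [h4]; group
        rw [h3, one_smul, hv] at h2
        rw [ap_one]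
        exact h2.symm
      have h4 : (t * h * t⁻¹) * h = h * (t * h * t⁻¹) := by
        refine Co.eq L n (hBc.mul hh) ?_
        have h5 := hh.mul hBc
        simp only [← hcomm _ (hB3 _)] at h5
        exact h5
      rw [← mul_smul, h4, mul_smul])
  exact ⟨z, hzT, fun h0 => hzC (MonoidHom.mem_ker.2 h0)⟩

theorem nat (L : Lift π T A) (n : AbsNat F T V k) (hk : 0 < k) : ∃ u, (∀ t ∈ T, t • u = u) ∧ π u ≠ 1 := by
  by_cases hF : ∃ l : F, l ≠ 0 ∧ l ≠ 1
  · exact L.nat_big n hk hF
  · push Not at hF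
    exact L.nat_two n hk fun l => or_iff_not_imp_left.2 fun h0 => hF l h0

end nat

/-! ### Even-subset modules -/

section sym

variable {k m : ℕ}

/-- `g` acts as the single transposition `(x y)` of the `i`-th summand -/
def Tr (s : AbsSym T V k m) (b : X) (i : Fin k) (x y : Fin (2 ^ m + 1)) : Prop :=
  AActsSym s.e b 1 (Function.update 1 i (Equiv.swap x y))

theorem s_one (s : AbsSym T V k m) : s.e 1 = 0 := by
  have h1 := s.mul 1 1
  rw [mul_one] at h1
  exact left_eq_add.1 h1

theorem s_inj (L : Lift π T A) (s : AbsSym T V k m) {v w : V} (h : s.e v = s.e w) : v = w := by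
  have h1 : s.e (v * w) = 0 := by
    rw [s.mul, h]
    funext i j
    exact CharTwo.add_self_eq_zero _
  have h2 := L.odd _ ((s.ker _).1 h1)
  rw [← L.invV w]
  exact eq_inv_of_mul_eq_one_left h2

theorem sym_eq (L : Lift π T A) (s : AbsSym T V k m) {g g' : X} {σ : Equiv.Perm (Fin k)}
    {τ : Fin k → Equiv.Perm (Fin (2 ^ m + 1))} (h : AActsSym s.e g σ τ) (h' : AActsSym s.e g' σ τ) : g = g' := by
  refine L.eq_of fun v => L.s_inj s (funext fun i => funext fun x => ?_)
  have h1 := h v (σ.symm i) ((τ (σ.symm i)).symm x)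
  have h2 := h' v (σ.symm i) ((τ (σ.symm i)).symm x)
  rw [σ.apply_symm_apply, Equiv.apply_symm_apply] at h1 h2
  rw [h1, h2]

/-- the action of a transposition on coordinates -/
theorem Tr.coord {s : AbsSym T V k m} {b : X} {i : Fin k} {x y : Fin (2 ^ m + 1)} (h : Tr s b i x y) (v : V)
    (j : Fin k) (z : Fin (2 ^ m + 1)) : s.e (b • v) j z = if j = i then s.e v j (Equiv.swap x y z) else s.e v j z := by
  by_cases hj : j = i
  · subst hj
    rw [if_pos rfl]
    have h1 := h v j (Equiv.swap x y z)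
    rw [Function.update_self, Equiv.swap_apply_self] at h1
    exact h1
  · rw [if_neg hj]
    have h1 := h v j z
    rw [Function.update_of_ne hj] at h1
    exact h1

theorem Tr.fix_iff (L : Lift π T A) {s : AbsSym T V k m} {b : X} {i : Fin k} {x y : Fin (2 ^ m + 1)}
    (h : Tr s b i x y) (v : V) : b • v = v ↔ s.e v i x = s.e v i y := by
  constructor
  · intro h1
    have h2 := h.coord v i x
    rw [h1, if_pos rfl, Equiv.swap_apply_left] at h2
    exact h2
  · intro h1
    refine L.s_inj s (funext fun j => funext fun z => ?_)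
    rw [h.coord]
    split_ifs with hj
    · subst hj
      rcases eq_or_ne z x with rfl | hx
      · rw [Equiv.swap_apply_left, h1]
      · rcases eq_or_ne z y with rfl | hy
        · rw [Equiv.swap_apply_right, h1]
        · rw [Equiv.swap_apply_of_ne_of_ne hx hy]
    · rfl

theorem exists_tr (s : AbsSym T V k m) (i : Fin k) (x y : Fin (2 ^ m + 1)) : ∃ b : X, Tr s b i x y := by
  obtain ⟨b, hb, -⟩ := s.lift (Function.update 1 i (Equiv.swap x y))
  exact ⟨b, hb⟩

/-- conjugation of a transposition -/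
theorem Tr.conj {s : AbsSym T V k m} {b g : X} {i : Fin k} {x y : Fin (2 ^ m + 1)} (h : Tr s b i x y)
    {σ : Equiv.Perm (Fin k)} {τ : Fin k → Equiv.Perm (Fin (2 ^ m + 1))} (hg : AActsSym s.e g σ τ) :
    Tr s (g * b * g⁻¹) (σ i) (τ i x) (τ i y) := by
  intro v j z
  obtain ⟨j, rfl⟩ := σ.surjective j
  obtain ⟨z, rfl⟩ := (τ j).surjective z
  have e : (Function.update (1 : Fin k → Equiv.Perm (Fin (2 ^ m + 1))) (σ i) (Equiv.swap (τ i x) (τ i y))) (σ j)
      (τ j z) = τ j ((Function.update (1 : Fin k → Equiv.Perm (Fin (2 ^ m + 1))) i (Equiv.swap x y)) j z) := by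
    by_cases hj : j = i
    · subst hj
      rw [Function.update_self, Function.update_self, (τ j).injective.map_swap]
    · rw [Function.update_of_ne hj, Function.update_of_ne (fun h0 => hj (σ.injective h0))]
      rfl
  rw [e]
  have h1 := hg (b • g⁻¹ • v) j ((Function.update (1 : Fin k → Equiv.Perm (Fin (2 ^ m + 1))) i (Equiv.swap x y)) j z)
  have h2 := h (g⁻¹ • v) j z
  have h3 := hg (g⁻¹ • v) j z
  rw [smul_inv_smul] at h3
  rw [Equiv.Perm.one_apply] at h2
  rw [Equiv.Perm.one_apply, mul_smul, mul_smul, h1, h2, ← h3]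

theorem sym_inv {s : AbsSym T V k m} {g : X} {σ : Equiv.Perm (Fin k)} {τ : Fin k → Equiv.Perm (Fin (2 ^ m + 1))}
    (hg : AActsSym s.e g σ τ) : AActsSym s.e g⁻¹ σ⁻¹ fun i => (τ (σ⁻¹ i))⁻¹ := by
  intro v i x
  have h1 := hg (g⁻¹ • v) (σ⁻¹ i) ((τ (σ⁻¹ i))⁻¹ x)
  have e1 : σ (σ⁻¹ i) = i := Equiv.apply_symm_apply σ i
  have e2 : (τ (σ⁻¹ i)) ((τ (σ⁻¹ i))⁻¹ x) = x := Equiv.apply_symm_apply _ x
  rw [smul_inv_smul, e1, e2] at h1
  exact h1.symm

/-- `A` contains a transposition -/
theorem exists_tr_mem (L : Lift π T A) (s : AbsSym T V k m) : ∃ b ∈ A, ∃ i x y, x ≠ y ∧ Tr s b i x y := by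
  obtain ⟨-, h1⟩ := s.off A L.AT L.off
  by_contra hcon
  refine L.off.ne ((Subgroup.eq_bot_iff_forall _).2 fun a ha => ?_)
  obtain ⟨τ, hτ, h2⟩ := h1 a ha
  have h3 : ∀ i x, τ i x = x := by
    intro i x
    by_contra h0
    obtain ⟨-, b, hb, hbt⟩ := h2 i x h0
    exact hcon ⟨b, hb, i, x, τ i x, fun h => h0 h.symm, hbt⟩
  refine L.eq_of fun v => L.s_inj s (funext fun i => funext fun x => ?_)
  have h4 := hτ v i x
  rw [h3, Equiv.Perm.one_apply] at h4
  rw [h4, one_smul]

/-- the vector `{z, w}` of the `j`-th summand -/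
theorem exists_pair (s : AbsSym T V k m) (j : Fin k) (z w : Fin (2 ^ m + 1)) :
    ∃ v, s.e v = Pi.single j (Pi.single z 1 + Pi.single w 1) := by
  refine s.surj _ fun i => ?_
  by_cases hi : i = j
  · subst hi
    rw [Pi.single_eq_same]
    simp only [Pi.add_apply, Finset.sum_add_distrib]
    rw [Finset.sum_pi_single', Finset.sum_pi_single']
    simp only [Finset.mem_univ, if_true]
    decide
  · rw [Pi.single_eq_of_ne hi]
    simp

theorem sym_mul {s : AbsSym T V k m} {g g' : X} {σ σ' : Equiv.Perm (Fin k)}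
    {τ τ' : Fin k → Equiv.Perm (Fin (2 ^ m + 1))} (hg : AActsSym s.e g σ τ) (hg' : AActsSym s.e g' σ' τ') :
    AActsSym s.e (g * g') (σ * σ') fun i => τ (σ' i) * τ' i := by
  intro v i x
  rw [mul_smul, Equiv.Perm.mul_apply, Equiv.Perm.mul_apply, hg, hg']

theorem five_le (hm : 2 ≤ m) : 5 ≤ 2 ^ m + 1 := by
  have : 2 ^ 2 ≤ 2 ^ m := Nat.pow_le_pow_right (by norm_num) hm
  omega

/-- a point outside four points -/
theorem exists_out (hm : 2 ≤ m) (x y z w : Fin (2 ^ m + 1)) : ∃ t, t ≠ x ∧ t ≠ y ∧ t ≠ z ∧ t ≠ w := by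
  by_contra hcon
  push Not at hcon
  have h1 : (Finset.univ : Finset (Fin (2 ^ m + 1))) ⊆ {x, y, z, w} := by
    intro t _
    simp only [Finset.mem_insert, Finset.mem_singleton]
    by_contra h2
    push Not at h2
    exact h2.2.2.2 (hcon t h2.1 h2.2.1 h2.2.2.1)
  have h2 := Finset.card_le_card h1
  rw [Finset.card_univ, Fintype.card_fin] at h2
  have h3 : ({x, y, z, w} : Finset (Fin (2 ^ m + 1))).card ≤ 4 := Finset.card_le_four
  have := five_le hm
  omega

/-- `b` centralises all `u ∈ U` whose image it centralises -/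
def Full (π : U →* V) (b : X) : Prop := ∀ u : U, b • π u = π u → b • u = u

theorem Full.conj (L : Lift π T A) {b : X} (h : Full π b) (g : X) : Full π (g * b * g⁻¹) := by
  intro u hu
  have h1 := h (g⁻¹ • u) (by
    rw [L.eqv, eq_inv_smul_iff, ← mul_smul, ← mul_smul]
    exact hu)
  rw [eq_inv_smul_iff, ← mul_smul, ← mul_smul] at h1
  exact h1

/-- the image of the subgroup of the elements fixed by `b`, if `b` fixes `ker π` -/
def FV (π : U →* V) (b : X) : Subgroup V := (ClassTwoFusion.Quad.cv U ({b} : Set X)).map π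

theorem mem_FV {b : X} {v : V} : v ∈ FV π b ↔ ∃ u, b • u = u ∧ π u = v := by
  constructor
  · rintro ⟨u, hu, rfl⟩
    exact ⟨u, hu b rfl, rfl⟩
  · rintro ⟨u, hu, rfl⟩
    exact ⟨u, by rintro a rfl; exact hu, rfl⟩

theorem fix_of_mem_FV {b : X} (hker : ∀ u : U, π u = 1 → b • u = u) {u : U} (h : π u ∈ FV π b) : b • u = u := by
  obtain ⟨w, hw, hwu⟩ := mem_FV.1 h
  have h1 : b • (w⁻¹ * u) = w⁻¹ * u := hker _ (by rw [map_mul, map_inv, hwu, inv_mul_cancel])
  rw [smul_mul', smul_inv', hw] at h1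
  exact mul_left_cancel h1

/-- decomposition of an even vector -/
theorem even_decomp {f : Fin (2 ^ m + 1) → ZMod 2} (hf : ∑ z, f z = 0) (z₀ : Fin (2 ^ m + 1)) :
    f = ∑ z, f z • (Pi.single z 1 + Pi.single z₀ 1 : Fin (2 ^ m + 1) → ZMod 2) := by
  funext t
  simp only [Finset.sum_apply, Pi.smul_apply, Pi.add_apply, smul_eq_mul, mul_add, Finset.sum_add_distrib,
    ← Finset.sum_mul, hf, zero_mul, add_zero]
  rw [Finset.sum_eq_single t]
  · rw [Pi.single_eq_same, mul_one]
  · intro z _ hz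
    rw [Pi.single_eq_of_ne hz.symm, mul_zero]
  · intro h
    exact absurd (Finset.mem_univ t) h

/-- the vectors centralised by a transposition are generated by pairs -/
theorem mem_of_pairs (L : Lift π T A) (s : AbsSym T V k m) (hm : 2 ≤ m) {i : Fin k} {x y : Fin (2 ^ m + 1)}
    (hxy : x ≠ y) (K : Subgroup V)
    (h1 : ∀ v, s.e v = Pi.single i (Pi.single x 1 + Pi.single y 1) → v ∈ K)
    (h2 : ∀ v j z w, z ≠ w → (j = i → z ≠ x ∧ z ≠ y ∧ w ≠ x ∧ w ≠ y) →
      s.e v = Pi.single j (Pi.single z 1 + Pi.single w 1) → v ∈ K)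
    {v : V} (hv : s.e v i x = s.e v i y) : v ∈ K := by
  have hneg : ∀ f : Fin k → Fin (2 ^ m + 1) → ZMod 2, -f = f := fun f =>
    funext fun _ => funext fun _ => CharTwo.neg_eq _
  -- the image of `K`
  let E : AddSubgroup (Fin k → Fin (2 ^ m + 1) → ZMod 2) :=
    { carrier := {f | ∃ v ∈ K, s.e v = f}
      zero_mem' := ⟨1, K.one_mem, s_one s⟩
      add_mem' := by
        rintro _ _ ⟨v, hv, rfl⟩ ⟨w, hw, rfl⟩
        exact ⟨v * w, K.mul_mem hv hw, s.mul v w⟩
      neg_mem' := by
        rintro _ ⟨v, hv, rfl⟩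
        exact ⟨v, hv, (hneg _).symm⟩ }
  have hE : ∀ f, f ∈ E ↔ ∃ v ∈ K, s.e v = f := fun _ => Iff.rfl
  have hEs : ∀ (c : ZMod 2) (f), f ∈ E → c • f ∈ E := by
    intro c f hf
    have : c = 0 ∨ c = 1 := by revert c; decide
    rcases this with rfl | rfl
    · rw [zero_smul]; exact E.zero_mem
    · rwa [one_smul]
  have key : s.e v ∈ E := by
    have e0 : s.e v = ∑ j, Pi.single j (s.e v j) := (Finset.univ_sum_single (s.e v)).symm
    rw [e0]
    refine sum_mem fun j _ => ?_
    -- a base point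
    obtain ⟨z₀, hz1, hz2, -, -⟩ := exists_out hm x y x y
    have base : ∀ (j : Fin k) (f : Fin (2 ^ m + 1) → ZMod 2), ∑ z, f z = 0 → (j = i → f x = 0 ∧ f y = 0) →
        (Pi.single j f : Fin k → Fin (2 ^ m + 1) → ZMod 2) ∈ E := by
      intro j f hf hfx
      have e1 : (Pi.single j f : Fin k → Fin (2 ^ m + 1) → ZMod 2) =
          ∑ z, f z • Pi.single j (Pi.single z 1 + Pi.single z₀ 1) := by
        conv_lhs => rw [even_decomp hf z₀]
        rw [← AddMonoidHom.single_apply, map_sum]
        refine Finset.sum_congr rfl fun z _ => ?_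
        rw [AddMonoidHom.single_apply, Pi.single_smul]
      rw [e1]
      refine sum_mem fun z _ => ?_
      by_cases hz : z = z₀
      · have : (Pi.single z 1 + Pi.single z₀ 1 : Fin (2 ^ m + 1) → ZMod 2) = 0 := by
          rw [hz]; funext t; exact CharTwo.add_self_eq_zero _
        rw [this, Pi.single_zero, smul_zero]
        exact E.zero_mem
      · by_cases hji : j = i ∧ (z = x ∨ z = y)
        · have : f z = 0 := by
            rcases hji.2 with h | h
            · rw [h]; exact (hfx hji.1).1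
            · rw [h]; exact (hfx hji.1).2
          rw [this, zero_smul]
          exact E.zero_mem
        · refine hEs _ _ ?_
          obtain ⟨p, hp⟩ := exists_pair s j z z₀
          refine ⟨p, h2 p j z z₀ hz (fun h => ⟨fun h' => hji ⟨h, Or.inl h'⟩, fun h' => hji ⟨h, Or.inr h'⟩, hz1, hz2⟩) hp, hp⟩
    by_cases hj : j = i
    · subst hj
      have e2 : s.e v j = (s.e v j + s.e v j x • (Pi.single x 1 + Pi.single y 1)) +
          s.e v j x • (Pi.single x 1 + Pi.single y 1) := by
        rw [add_assoc, ← add_smul, CharTwo.add_self_eq_zero, zero_smul, add_zero]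
      rw [e2, Pi.single_add]
      obtain ⟨p, hp⟩ := exists_pair s j x y
      have h3 : (∑ z, (Pi.single x 1 + Pi.single y 1 : Fin (2 ^ m + 1) → ZMod 2) z) = 0 := by
        have := s.even p j
        rwa [hp, Pi.single_eq_same] at this
      refine add_mem ?_ ?_
      · refine base j _ ?_ fun _ => ?_
        · simp only [Pi.add_apply, Pi.smul_apply, smul_eq_mul, Finset.sum_add_distrib, s.even v j, zero_add]
          rw [← Finset.mul_sum]
          simp only [Pi.add_apply] at h3
          rw [h3, mul_zero]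
        · constructor
          · simp only [Pi.add_apply, Pi.smul_apply, smul_eq_mul, Pi.single_eq_same, Pi.single_eq_of_ne hxy, add_zero,
              mul_one]
            exact CharTwo.add_self_eq_zero _
          · simp only [Pi.add_apply, Pi.smul_apply, smul_eq_mul, Pi.single_eq_same,
              Pi.single_eq_of_ne (Ne.symm hxy), zero_add, mul_one, ← hv]
            exact CharTwo.add_self_eq_zero _
      · rw [Pi.single_smul]
        exact hEs _ _ ⟨p, h1 p hp, hp⟩
    · exact base j _ (s.even v j) fun h => absurd h hj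
  obtain ⟨w, hw, hwv⟩ := (hE _).1 key
  rw [← L.s_inj s hwv]
  exact hw

/-- `[v, b]` for a transposition `b` -/
theorem Tr.comm_coord {s : AbsSym T V k m} {b : X} {i : Fin k} {x y : Fin (2 ^ m + 1)} (h : Tr s b i x y)
    (hxy : x ≠ y) (v : V) : s.e (b • v * v) = (s.e v i x + s.e v i y) •
      (Pi.single i (Pi.single x 1 + Pi.single y 1) : Fin k → Fin (2 ^ m + 1) → ZMod 2) := by
  funext j z
  rw [s.mul, Pi.add_apply, Pi.add_apply, h.coord, Pi.smul_apply, Pi.smul_apply, smul_eq_mul]
  by_cases hj : j = i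
  · subst hj
    rw [if_pos rfl, Pi.single_eq_same, Pi.add_apply]
    rcases eq_or_ne z x with rfl | hx
    · rw [Equiv.swap_apply_left, Pi.single_eq_same, Pi.single_eq_of_ne hxy, add_zero, mul_one, add_comm]
    · rcases eq_or_ne z y with rfl | hy
      · rw [Equiv.swap_apply_right, Pi.single_eq_same, Pi.single_eq_of_ne hx, zero_add, mul_one]
      · rw [Equiv.swap_apply_of_ne_of_ne hx hy, Pi.single_eq_of_ne hx, Pi.single_eq_of_ne hy, add_zero, mul_zero]
        exact CharTwo.add_self_eq_zero _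
  · rw [if_neg hj, Pi.single_eq_of_ne hj, Pi.zero_apply, mul_zero]
    exact CharTwo.add_self_eq_zero _

/-- the transpositions of `A` are full -/
theorem full_of_mem (L : Lift π T A) (s : AbsSym T V k m) (hm : 2 ≤ m) {b : X} (hb : b ∈ A) {i : Fin k}
    {x y : Fin (2 ^ m + 1)} (hxy : x ≠ y) (h : Tr s b i x y) : Full π b := by
  have hker : ∀ u : U, π u = 1 → b • u = u := fun u hu => L.full u (fun a _ => by rw [hu, smul_one]) b hb
  -- pairs away from `{x, y}`
  have hfar : ∀ v j z w, z ≠ w → (j = i → z ≠ x ∧ z ≠ y ∧ w ≠ x ∧ w ≠ y) →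
      s.e v = Pi.single j (Pi.single z 1 + Pi.single w 1) → v ∈ FV π b := by
    intro v j z w hzw hj hv
    obtain ⟨t, htx, hty, htz, htw⟩ := exists_out hm x y z w
    obtain ⟨p, hp⟩ := exists_pair s j t z
    set c : Equiv.Perm (Fin (2 ^ m + 1)) := Equiv.swap z t * Equiv.swap t w with hc
    have hct : c t = w := by
      rw [hc, Equiv.Perm.mul_apply, Equiv.swap_apply_left, Equiv.swap_apply_of_ne_of_ne hzw.symm htw.symm]
    have hcz : c z = t := by
      rw [hc, Equiv.Perm.mul_apply, Equiv.swap_apply_of_ne_of_ne htz.symm hzw, Equiv.swap_apply_left]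
    have hc3 : c * c * c = 1 := by
      have h1 : c.IsThreeCycle := by
        rw [hc, Equiv.swap_comm z t]
        exact Equiv.Perm.isThreeCycle_swap_mul_swap_same htz htw hzw
      have h2 := pow_orderOf_eq_one c
      rw [h1.orderOf, pow_three, ← mul_assoc] at h2
      exact h2
    obtain ⟨g, hg, -⟩ := s.lift (Function.update 1 j c)
    have hg3 : g * g * g = 1 := by
      have h1 := sym_mul (sym_mul hg hg) hg
      have h2 : AActsSym s.e (1 : X) (1 : Equiv.Perm (Fin k)) (1 : Fin k → Equiv.Perm (Fin (2 ^ m + 1))) := by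
        intro v i x
        rw [one_smul]; rfl
      refine L.sym_eq s ?_ h2
      have e : (fun i => ((Function.update (1 : Fin k → Equiv.Perm (Fin (2 ^ m + 1))) j c)
          ((1 : Equiv.Perm (Fin k)) ((1 : Equiv.Perm (Fin k)) i)) *
          (Function.update (1 : Fin k → Equiv.Perm (Fin (2 ^ m + 1))) j c) ((1 : Equiv.Perm (Fin k)) i)) *
          (Function.update (1 : Fin k → Equiv.Perm (Fin (2 ^ m + 1))) j c) i) = 1 := by
        funext i'
        simp only [Equiv.Perm.one_apply]
        by_cases hi' : i' = j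
        · subst hi'
          rw [Function.update_self]
          exact hc3
        · rw [Function.update_of_ne hi']
          rfl
      rw [← e]
      exact h1
    have hodd : Odd (orderOf g) := by
      have h1 : g ^ 3 = 1 := by rw [pow_three, ← mul_assoc]; exact hg3
      exact Odd.of_dvd_nat (by decide) (orderOf_dvd_of_pow_eq_one h1)
    have hgb : g * b = b * g := by
      have h1 := h.conj hg
      have e1 : (Function.update (1 : Fin k → Equiv.Perm (Fin (2 ^ m + 1))) j c) i x = x := by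
        by_cases hij : i = j
        · subst hij
          obtain ⟨h1, h2, h3, h4⟩ := hj rfl
          rw [Function.update_self, hc, Equiv.Perm.mul_apply, Equiv.swap_apply_of_ne_of_ne htx.symm h3.symm,
            Equiv.swap_apply_of_ne_of_ne h1.symm htx.symm]
        · rw [Function.update_of_ne hij]; rfl
      have e2 : (Function.update (1 : Fin k → Equiv.Perm (Fin (2 ^ m + 1))) j c) i y = y := by
        by_cases hij : i = j
        · subst hij
          obtain ⟨h1, h2, h3, h4⟩ := hj rfl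
          rw [Function.update_self, hc, Equiv.Perm.mul_apply, Equiv.swap_apply_of_ne_of_ne hty.symm h4.symm,
            Equiv.swap_apply_of_ne_of_ne h2.symm hty.symm]
        · rw [Function.update_of_ne hij]; rfl
      rw [e1, e2, Equiv.Perm.one_apply] at h1
      have h2 := L.sym_eq s h1 h
      exact mul_inv_eq_iff_eq_mul.1 h2
    have hbp : b • p = p := by
      rw [h.fix_iff L, hp]
      by_cases hij : i = j
      · subst hij
        obtain ⟨h1, h2, -, -⟩ := hj rfl
        rw [Pi.single_eq_same, Pi.add_apply, Pi.add_apply, Pi.single_eq_of_ne htx.symm, Pi.single_eq_of_ne h1.symm,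
          Pi.single_eq_of_ne hty.symm, Pi.single_eq_of_ne h2.symm]
      · rw [Pi.single_eq_of_ne hij]; rfl
    -- `g • p * p = v`
    have hgp : g • p * p = v := by
      refine L.s_inj s ?_
      rw [s.mul, hv, hp]
      have e1 : s.e (g • p) = Pi.single j (Pi.single w 1 + Pi.single t 1) := by
        funext j' z''
        obtain ⟨z', rfl⟩ := (Function.update (1 : Fin k → Equiv.Perm (Fin (2 ^ m + 1))) j c j').surjective z''
        have h1 := hg p j' z'
        rw [Equiv.Perm.one_apply] at h1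
        rw [h1, hp]
        by_cases hjj : j' = j
        · subst hjj
          rw [Pi.single_eq_same, Pi.single_eq_same, Function.update_self, Pi.add_apply, Pi.add_apply]
          congr 1
          · by_cases h2 : z' = t
            · rw [h2, hct, Pi.single_eq_same, Pi.single_eq_same]
            · rw [Pi.single_eq_of_ne h2, Pi.single_eq_of_ne]
              rw [← hct]
              exact fun h3 => h2 (c.injective h3)
          · by_cases h2 : z' = z
            · rw [h2, hcz, Pi.single_eq_same, Pi.single_eq_same]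
            · rw [Pi.single_eq_of_ne h2, Pi.single_eq_of_ne]
              rw [← hcz]
              exact fun h3 => h2 (c.injective h3)
        · rw [Pi.single_eq_of_ne hjj, Pi.single_eq_of_ne hjj]; rfl
      rw [e1, ← Pi.single_add]
      congr 1
      funext r
      simp only [Pi.add_apply]
      have := CharTwo.add_self_eq_zero ((Pi.single t 1 : Fin (2 ^ m + 1) → ZMod 2) r)
      linear_combination this
    obtain ⟨q, rfl⟩ := L.surj p
    refine mem_FV.2 ⟨g • q * q, ?_, by rw [map_mul, L.eqv, hgp]⟩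
    -- `b • q = q c`
    have h1 : π (q⁻¹ * b • q) = 1 := by rw [map_mul, map_inv, L.eqv, hbp, inv_mul_cancel]
    have h2 : b • q = q * (q⁻¹ * b • q) := by rw [mul_inv_cancel_left]
    have h3 := L.ker _ h1 g hodd
    set r := q⁻¹ * b • q with hr
    have h4 : b • (g • q) = g • q * r := by
      rw [← mul_smul, ← hgb, mul_smul, h2, smul_mul', h3]
    rw [smul_mul', h4, h2, mul_assoc, L.comm r, mul_assoc q, L.sq, mul_one]
  -- the pair `{x, y}`
  have hpair : ∀ v, s.e v = Pi.single i (Pi.single x 1 + Pi.single y 1) → v ∈ FV π b := by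
    intro v hv
    obtain ⟨u, rfl⟩ := L.surj v
    have hv1 : s.e (π u) i x = 1 := by
      rw [hv, Pi.single_eq_same, Pi.add_apply, Pi.single_eq_same, Pi.single_eq_of_ne hxy, add_zero]
    refine mem_FV.2 ⟨u, L.full u (fun a ha => ?_) b hb, rfl⟩
    -- `π u = [w, b]`
    obtain ⟨t, htx, hty, -, -⟩ := exists_out hm x y x y
    obtain ⟨w, hw⟩ := exists_pair s i x t
    have e1 : b • w * w = π u := by
      refine L.s_inj s ?_
      rw [h.comm_coord hxy, hv, hw, Pi.single_eq_same, Pi.add_apply, Pi.add_apply, Pi.single_eq_same,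
        Pi.single_eq_of_ne htx.symm, Pi.single_eq_of_ne hxy.symm, Pi.single_eq_of_ne hty.symm]
      simp
    have e2 : a • π u = b • (a • w) * (a • w) := by
      rw [← e1, smul_mul', ← mul_smul, L.off.comm a ha b hb, mul_smul]
    have e3 : a • π u ≠ 1 := by
      intro h0
      have h1 : π u = 1 := by rw [← inv_smul_smul a (π u), h0, smul_one]
      rw [h1, s_one] at hv1
      exact absurd hv1 (by simp)
    rw [e2] at e3 ⊢
    refine L.s_inj s ?_
    rw [h.comm_coord hxy, hv]
    have h5 : s.e (a • w) i x + s.e (a • w) i y = 0 ∨ s.e (a • w) i x + s.e (a • w) i y = 1 := by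
      generalize s.e (a • w) i x + s.e (a • w) i y = r
      revert r
      decide
    rcases h5 with h5 | h5
    · exfalso
      apply e3
      refine L.s_inj s ?_
      rw [h.comm_coord hxy, h5, zero_smul, s_one]
    · rw [h5, one_smul]
  intro u hu
  exact fix_of_mem_FV hker (L.mem_of_pairs s hm hxy _ hpair hfar ((h.fix_iff L _).1 hu))

/-- a permutation moving two points to two given points -/
theorem exists_perm {n : Type*} [DecidableEq n] {x y x' y' : n} (h : x ≠ y) (h' : x' ≠ y') :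
    ∃ τ : Equiv.Perm n, τ x = x' ∧ τ y = y' := by
  refine ⟨Equiv.swap (Equiv.swap x x' y) y' * Equiv.swap x x', ?_, ?_⟩
  · rw [Equiv.Perm.mul_apply, Equiv.swap_apply_left]
    refine Equiv.swap_apply_of_ne_of_ne ?_ h'
    intro h0
    have h1 := congrArg (Equiv.swap x x') h0
    rw [Equiv.swap_apply_self, Equiv.swap_apply_right] at h1
    exact h h1
  · rw [Equiv.Perm.mul_apply, Equiv.swap_apply_left]

/-- all transpositions are full -/
theorem full_tr (L : Lift π T A) (s : AbsSym T V k m) (hm : 2 ≤ m) {b : X} {i : Fin k}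
    {x y : Fin (2 ^ m + 1)} (hxy : x ≠ y) (h : Tr s b i x y) : Full π b := by
  obtain ⟨a, ha, i₀, x₀, y₀, hxy₀, ha₀⟩ := L.exists_tr_mem s
  have h1 := L.full_of_mem s hm ha hxy₀ ha₀
  obtain ⟨t, -, σ, τ, ht, hσ⟩ := s.trans i₀ i
  have h2 := ha₀.conj ht
  rw [hσ] at h2
  obtain ⟨ρ, hρx, hρy⟩ := exists_perm (fun h0 => hxy₀ ((τ i₀).injective h0)) hxy
  obtain ⟨g, hg, -⟩ := s.lift (Function.update 1 i ρ)
  have h3 := h2.conj hg
  rw [Function.update_self, hρx, hρy, Equiv.Perm.one_apply] at h3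
  rw [L.sym_eq s h h3]
  exact Full.conj L (Full.conj L h1 t) g

/-- `d` is the canonical lift of the pair `{x, y}` of the `i`-th summand -/
def IsD (s : AbsSym T V k m) (π : U →* V) (i : Fin k) (x y : Fin (2 ^ m + 1)) (d : U) : Prop :=
  ∀ b u, Tr s b i x y → s.e (π u) i x ≠ s.e (π u) i y → b • u * u = d

theorem exists_moved (L : Lift π T A) (s : AbsSym T V k m) (hm : 2 ≤ m) (i : Fin k) {x y : Fin (2 ^ m + 1)}
    (hxy : x ≠ y) : ∃ u : U, s.e (π u) i x ≠ s.e (π u) i y := by
  obtain ⟨t, htx, hty, -, -⟩ := exists_out hm x y x y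
  obtain ⟨w, hw⟩ := exists_pair s i x t
  obtain ⟨u, rfl⟩ := L.surj w
  refine ⟨u, ?_⟩
  rw [hw, Pi.single_eq_same, Pi.add_apply, Pi.add_apply, Pi.single_eq_same,
    Pi.single_eq_of_ne htx.symm, Pi.single_eq_of_ne hxy.symm, Pi.single_eq_of_ne hty.symm]
  simp

theorem exists_isD (L : Lift π T A) (s : AbsSym T V k m) (hm : 2 ≤ m) (i : Fin k) {x y : Fin (2 ^ m + 1)}
    (hxy : x ≠ y) : ∃ d : U, IsD s π i x y d ∧ s.e (π d) = Pi.single i (Pi.single x 1 + Pi.single y 1) := by
  obtain ⟨u₀, hu₀⟩ := L.exists_moved s hm i hxy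
  obtain ⟨b₀, hb₀⟩ := exists_tr s i x y
  have hsum : ∀ a c : ZMod 2, a ≠ c → a + c = 1 := by decide
  refine ⟨b₀ • u₀ * u₀, fun b u hb hu => ?_, ?_⟩
  · rw [L.sym_eq s hb hb₀]
    have h1 := L.full_tr s hm hxy hb₀ (u₀ * u) (by
      rw [hb₀.fix_iff L, map_mul, s.mul, Pi.add_apply, Pi.add_apply, Pi.add_apply]
      have h2 := hsum _ _ hu₀
      have h3 := hsum _ _ hu
      have h4 := CharTwo.add_self_eq_zero (s.e (π u₀) i y)
      have h5 := CharTwo.add_self_eq_zero (s.e (π u) i y)
      linear_combination h2 + h3 + (-1 : ZMod 2) * h4 + (-1 : ZMod 2) * h5 + CharTwo.add_self_eq_zero (1 : ZMod 2))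
    rw [smul_mul'] at h1
    -- `b u₀ · b u = u₀ u`
    have h2 : b₀ • u = (b₀ • u₀)⁻¹ * (u₀ * u) := by rw [← h1, inv_mul_cancel_left]
    rw [h2, mul_assoc, mul_assoc, L.sq, mul_one]
    congr 1
    exact inv_eq_of_mul_eq_one_left (L.sq _)
  · rw [map_mul, L.eqv, hb₀.comm_coord hxy, hsum _ _ hu₀, one_smul]

theorem IsD.smul (L : Lift π T A) {s : AbsSym T V k m} {i : Fin k} {x y : Fin (2 ^ m + 1)} {d : U}
    (h : IsD s π i x y d) {g : X} {σ : Equiv.Perm (Fin k)} {τ : Fin k → Equiv.Perm (Fin (2 ^ m + 1))}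
    (hg : AActsSym s.e g σ τ) : IsD s π (σ i) (τ i x) (τ i y) (g • d) := by
  intro b u hb hu
  have h1 := h (g⁻¹ * b * g) (g⁻¹ • u) (by
    have h2 := hb.conj (sym_inv hg)
    have e1 : σ⁻¹ (σ i) = i := Equiv.symm_apply_apply σ i
    have e2 : ∀ z, (τ i)⁻¹ (τ i z) = z := fun z => Equiv.symm_apply_apply (τ i) z
    simp only [e1, e2, inv_inv] at h2
    exact h2) (by
    have h2 := hg (g⁻¹ • π u) i x
    have h3 := hg (g⁻¹ • π u) i y
    rw [smul_inv_smul] at h2 h3
    rw [L.eqv, ← h2, ← h3]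
    exact hu)
  rw [← h1, smul_mul', ← mul_smul, ← mul_smul, smul_inv_smul]
  congr 1
  rw [show g * (g⁻¹ * b * g) * g⁻¹ = b by group]

theorem sym (L : Lift π T A) (s : AbsSym T V k m) (hk : 0 < k) (hm : 2 ≤ m) :
    ∃ u, (∀ t ∈ T, t • u = u) ∧ π u ≠ 1 := by
  classical
  let _ : CommGroup U := { ‹Group U› with mul_comm := L.comm }
  have hd : ∀ i : Fin k, ∀ z : Fin (2 ^ m + 1), ∃ d : U, (z = 0 → d = 1) ∧ (z ≠ 0 → IsD s π i 0 z d ∧
      s.e (π d) = Pi.single i (Pi.single 0 1 + Pi.single z 1)) := by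
    intro i z
    by_cases hz : z = 0
    · exact ⟨1, fun _ => rfl, fun h => absurd hz h⟩
    · obtain ⟨d, hd⟩ := L.exists_isD s hm i (Ne.symm hz)
      exact ⟨d, fun h => absurd h hz, fun _ => hd⟩
  choose d hd0 hd1 using hd
  refine ⟨∏ p : Fin k × Fin (2 ^ m + 1), d p.1 p.2, fun t ht => ?_, ?_⟩
  · obtain ⟨σ, τ, hτ⟩ := s.perm t
    have hτ0 := s.fix0 t ht σ τ hτ
    have key : ∀ p : Fin k × Fin (2 ^ m + 1), t • d p.1 p.2 = d (σ p.1) (τ p.1 p.2) := by
      rintro ⟨i, z⟩
      by_cases hz : z = 0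
      · subst hz
        rw [hd0 i 0 rfl, hτ0, hd0 _ 0 rfl, smul_one]
      · have h1 := (hd1 i z hz).1.smul L hτ
        rw [hτ0] at h1
        have hz' : τ i z ≠ 0 := by
          intro h0
          apply hz
          apply (τ i).injective
          rw [h0, hτ0]
        obtain ⟨b, hb⟩ := exists_tr s (σ i) 0 (τ i z)
        obtain ⟨u, hu⟩ := L.exists_moved s hm (σ i) (Ne.symm hz')
        exact (h1 b u hb hu).symm.trans ((hd1 _ _ hz').1 b u hb hu)
    have e1 : t • ∏ p : Fin k × Fin (2 ^ m + 1), d p.1 p.2 = ∏ p : Fin k × Fin (2 ^ m + 1), t • d p.1 p.2 :=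
      map_prod (MulDistribMulAction.toMonoidHom U t) _ _
    rw [e1]
    simp only [key]
    exact (Equiv.prodShear σ τ).prod_comp fun p => d p.1 p.2
  · intro h0
    -- the coordinate of the product
    let ev : U →* Multiplicative (ZMod 2) :=
      { toFun := fun u => Multiplicative.ofAdd (s.e (π u) ⟨0, hk⟩ 1)
        map_one' := by rw [map_one, s_one]; rfl
        map_mul' := fun u w => by rw [map_mul, s.mul]; rfl }
    have h1 : ev (∏ p : Fin k × Fin (2 ^ m + 1), d p.1 p.2) = 1 := by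
      change Multiplicative.ofAdd (s.e (π _) ⟨0, hk⟩ 1) = 1
      rw [h0, s_one]; rfl
    have hne : (1 : Fin (2 ^ m + 1)) ≠ 0 := by
      have h5 := five_le hm
      intro h
      have := congrArg Fin.val h
      rw [Fin.val_one', Fin.val_zero] at this
      rw [Nat.mod_eq_of_lt (by omega)] at this
      omega
    rw [map_prod, Finset.prod_eq_single (⟨0, hk⟩, 1)] at h1
    · have h2 : s.e (π (d ⟨0, hk⟩ 1)) ⟨0, hk⟩ 1 = 0 := h1
      rw [(hd1 _ _ hne).2, Pi.single_eq_same, Pi.add_apply, Pi.single_eq_same, Pi.single_eq_of_ne hne] at h2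
      simp at h2
    · rintro ⟨i, z⟩ - hp
      change Multiplicative.ofAdd (s.e (π (d i z)) ⟨0, hk⟩ 1) = 1
      by_cases hz : z = 0
      · subst hz
        rw [hd0 i 0 rfl, map_one, s_one]; rfl
      · rw [(hd1 i z hz).2]
        by_cases hi : i = ⟨0, hk⟩
        · subst hi
          have hz1 : z ≠ 1 := fun h => hp (by rw [h])
          rw [Pi.single_eq_same, Pi.add_apply, Pi.single_eq_of_ne hne, Pi.single_eq_of_ne (Ne.symm hz1)]
          rfl
        · rw [Pi.single_eq_of_ne (Ne.symm hi)]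
          rfl
    · intro h
      exact absurd (Finset.mem_univ _) h

end sym

/-- **The end of THEOREM K0**: `T` fixes an element of `U` outside `ker π`. -/
theorem exists_fix (L : Lift π T A) (h : AConcl T V) : ∃ u, (∀ t ∈ T, t • u = u) ∧ π u ≠ 1 := by
  rcases h with ⟨F, _, _, _, k, hk, ⟨n⟩⟩ | ⟨k, m, hk, hm, ⟨s⟩⟩
  · exact L.nat n hk
  · exact L.sym s hk hm

end Lift

end Cfsg.Agent.Omega.NO3b.EndFix
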