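import Cfsg.Agent.Omega.NO3b.CTwo

/-!
# (GEN) (helper329 #12800)

`A` a 2-group normalising the 2-group `Q = O₂(P₂)`, `B` normalised by `Q` (e.g. `B = C_T(V^g)`),
`B ≤ N(Q)`, `E = O²(P₂) ≤ ⟨A, B⟩ Q`. Then `E ≤ ⟨A, B⟩`. Consequence: if `B` centralises `V' ≤ W`, then
`C_{V'}(A) ≤ C_W(E)`, so `|W : C_W(A)| ≥ |V' : C_{V'}(E)|`.
-/

set_option autoImplicit false

namespace Cfsg.Agent.Omega.NO3b.Gen

open Subgroup Cfsg.Agent.Omega.NO3b.Dual Cfsg.Agent.Omega.NO3b.CTwo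
open scoped commutatorElement

variable {G : Type*} [Group G]

/-- `⟨B^L⟩`. -/
def ncl (L B : Subgroup G) : Subgroup G := closure {x | ∃ l ∈ L, ∃ b ∈ B, x = l * b * l⁻¹}

theorem ncl_le {L B : Subgroup G} (h : B ≤ L) : ncl L B ≤ L := by
  rw [ncl, closure_le]
  rintro x ⟨l, hl, b, hb, rfl⟩
  exact L.mul_mem (L.mul_mem hl (h hb)) (L.inv_mem hl)

theorem le_ncl {L B : Subgroup G} : B ≤ ncl L B := fun b hb =>
  subset_closure ⟨1, L.one_mem, b, hb, by group⟩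

theorem norm_ncl {T L B : Subgroup G}
    (h : ∀ t ∈ T, ∀ l ∈ L, ∀ b ∈ B, ∃ l' ∈ L, ∃ b' ∈ B, t * (l * b * l⁻¹) * t⁻¹ = l' * b' * l'⁻¹) :
    T ≤ normalizer ((ncl L B : Subgroup G) : Set G) := by
  refine le_norm fun t ht x hx => ?_
  have h1 : ncl L B ≤ (ncl L B).comap (MulAut.conj t).toMonoidHom := by
    conv_lhs => rw [ncl]
    rw [closure_le]
    rintro y ⟨l, hl, b, hb, rfl⟩
    obtain ⟨l', hl', b', hb', e⟩ := h t ht l hl b hb
    show (MulAut.conj t).toMonoidHom (l * b * l⁻¹) ∈ ncl L B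
    have e2 : (MulAut.conj t).toMonoidHom (l * b * l⁻¹) = l' * b' * l'⁻¹ := by
      rw [← e]; rfl
    rw [e2]
    exact subset_closure ⟨l', hl', b', hb', rfl⟩
  exact h1 hx

theorem L_norm_ncl {L B : Subgroup G} : L ≤ normalizer ((ncl L B : Subgroup G) : Set G) :=
  norm_ncl fun t ht l hl b hb => ⟨t * l, L.mul_mem ht hl, b, hb, by group⟩

theorem pow_mem_coset {T N : Subgroup G} (hN : T ≤ normalizer (N : Set G)) {t l : G} (ht : t ∈ T)
    (hl : l ∈ N) (n : ℕ) : ∃ m ∈ N, (t * l) ^ n = t ^ n * m := by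
  induction n with
  | zero => exact ⟨1, N.one_mem, by simp⟩
  | succ n ih =>
    obtain ⟨m, hm, e⟩ := ih
    refine ⟨(t⁻¹ * m * t) * l, N.mul_mem (norm_mem' hN ht hm) hl, ?_⟩
    rw [pow_succ, e, pow_succ]
    group

/-- An element of odd order of `T N`, `T` a 2-group normalising `N`, lies in `N`. -/
theorem mem_of_odd {T N : Subgroup G} (hT : IsPGroup 2 T)
    (hN : T ≤ normalizer (N : Set G)) {x : G} (hx : x ∈ T ⊔ N) (ho : Odd (orderOf x)) : x ∈ N := by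
  obtain ⟨t, ht, l, hl, rfl⟩ := mem_sup_of_le_norm hN hx
  obtain ⟨k, hk⟩ := hT ⟨t, ht⟩
  have hk' : t ^ 2 ^ k = 1 := by
    have := congrArg Subtype.val hk
    simpa using this
  obtain ⟨m, hm, e⟩ := pow_mem_coset hN ht hl (2 ^ k)
  rw [hk', one_mul] at e
  have h1 : Nat.Coprime (2 ^ k) (orderOf (t * l)) := by
    apply Nat.Coprime.pow_left
    exact (Nat.coprime_two_left).mpr ho
  obtain ⟨j, hj⟩ := exists_pow_eq_self_of_coprime h1
  rw [← hj, e]
  exact N.pow_mem hm j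

/-- **(GEN)**. -/
theorem le_of_le [Finite G] {A B Q E : Subgroup G} (hA : IsPGroup 2 A) (hQ : IsPGroup 2 Q)
    (hAQ : A ≤ normalizer (Q : Set G)) (hBQ : B ≤ normalizer (Q : Set G))
    (hQB : Q ≤ normalizer (B : Set G)) (hE : E ≤ closure {x | x ∈ E ∧ Odd (orderOf x)})
    (h : E ≤ (A ⊔ B) ⊔ Q) : E ≤ ncl (A ⊔ B) B := by
  have := Fact.mk Nat.prime_two
  set L : Subgroup G := A ⊔ B with hL
  have hLQ : L ≤ normalizer (Q : Set G) := sup_le hAQ hBQ
  have hT : IsPGroup 2 (Q ⊔ A : Subgroup G) := hQ.to_sup_of_normal_left' hA hAQ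
  have hQn : Q ≤ normalizer ((ncl L B : Subgroup G) : Set G) := by
    refine norm_ncl fun q hq l hl b hb => ⟨l, hl, (l⁻¹ * q * l) * b * (l⁻¹ * q * l)⁻¹, ?_, by group⟩
    exact norm_mem hQB (norm_mem' hLQ hl hq) hb
  have hTn : Q ⊔ A ≤ normalizer ((ncl L B : Subgroup G) : Set G) :=
    sup_le hQn (le_sup_left.trans L_norm_ncl)
  have h1 : L ⊔ Q ≤ (Q ⊔ A) ⊔ ncl L B := by
    refine sup_le (sup_le (le_sup_right.trans le_sup_left) (le_ncl.trans le_sup_right))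
      (le_sup_left.trans le_sup_left)
  refine hE.trans ?_
  rw [closure_le]
  rintro x ⟨hx, ho⟩
  exact mem_of_odd hT hTn (h1 (h hx)) ho

theorem le_sup_of_le [Finite G] {A B Q E : Subgroup G} (hA : IsPGroup 2 A) (hQ : IsPGroup 2 Q)
    (hAQ : A ≤ normalizer (Q : Set G)) (hBQ : B ≤ normalizer (Q : Set G))
    (hQB : Q ≤ normalizer (B : Set G)) (hE : E ≤ closure {x | x ∈ E ∧ Odd (orderOf x)})
    (h : E ≤ (A ⊔ B) ⊔ Q) : E ≤ A ⊔ B :=
  (le_of_le hA hQ hAQ hBQ hQB hE h).trans (ncl_le le_sup_right)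

/-- **Consequence 2 of (GEN)**: `B` centralises `V' ≤ W`: `C_{V'}(A) ≤ C_W(E)` and
`|V' : C_{V'}(E)| ≤ |W : C_W(A)|`. -/
theorem cent_le {A B E V' W : Subgroup G} (h : E ≤ A ⊔ B) (hV : V' ≤ W)
    (hB : ∀ b ∈ B, ∀ v ∈ V', b * v = v * b) : V' ⊓ centralizer (A : Set G) ≤ Sit.rr E W := by
  intro v hv
  refine ⟨hV hv.1, ?_⟩
  have h1 : A ⊔ B ≤ centralizer ({v} : Set G) := by
    refine sup_le ?_ ?_
    · intro a ha
      rw [mem_centralizer_singleton_iff]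
      exact hv.2 a ha
    · intro b hb
      rw [mem_centralizer_singleton_iff]
      exact hB b hb v hv.1
  intro e he
  have h2 := h1 (h he)
  rwa [mem_centralizer_singleton_iff] at h2

theorem relIndex_le [Finite G] {A B E V' W : Subgroup G} (h : E ≤ A ⊔ B) (hV : V' ≤ W)
    (hB : ∀ b ∈ B, ∀ v ∈ V', b * v = v * b) :
    (Sit.rr E W).relIndex V' ≤ (centralizer (A : Set G)).relIndex W := by
  have h1 := cent_le h hV hB
  have hne : (V' ⊓ centralizer (A : Set G)).relIndex V' ≠ 0 := by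
    rw [Subgroup.relIndex]; exact Subgroup.index_ne_zero_of_finite
  have hne2 : (centralizer (A : Set G)).relIndex W ≠ 0 := by
    rw [Subgroup.relIndex]; exact Subgroup.index_ne_zero_of_finite
  calc (Sit.rr E W).relIndex V' ≤ (V' ⊓ centralizer (A : Set G)).relIndex V' :=
        Nat.le_of_dvd (Nat.pos_of_ne_zero hne) (relIndex_dvd_of_le_left V' h1)
    _ = (centralizer (A : Set G)).relIndex V' := by rw [inf_relIndex_left]
    _ ≤ (centralizer (A : Set G)).relIndex W := relIndex_le_of_le_right hV hne2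

end Cfsg.Agent.Omega.NO3b.Gen
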