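import Mathlib

/-!
# NO-3b: the counting inequality for `V` not FF

`lemma1` : if `E` is a subgroup such that on every member `V` of a family `𝓛` of subgroups every
subgroup `B` of `E` is either trivial on `V` or satisfies `c * |B : C_B(V)| ≤ |V : C_V(B)|`, then
the same holds for `E` on the join `W` of `𝓛`.  (Only orders are counted: nothing needs to be
abelian or normal.)  `lemma1_pow` is the version with exponents.

`formulaF` : the product formula for two subgroups `W`, `W'` (the subgroups of two points) with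
`C_W(W') ≤ E ≤ W` and `C_W'(W) ≤ E' ≤ W'`.
-/

namespace Cfsg.Agent.Omega.NO3b.Ineq

open Subgroup

variable {G : Type*} [Group G]

theorem rel_ne [Finite G] (A B : Subgroup G) : A.relIndex B ≠ 0 :=
  Subgroup.index_ne_zero_of_finite (H := A.subgroupOf B)

/-- the count `|A : C_A(B)|`. -/
noncomputable def cidx (A B : Subgroup G) : ℕ := (centralizer (B : Set G)).relIndex A

theorem cidx_def (A B : Subgroup G) : cidx A B = (centralizer (B : Set G)).relIndex A := rfl

theorem cidx_pos [Finite G] (A B : Subgroup G) : 0 < cidx A B :=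
  Nat.pos_of_ne_zero (rel_ne _ _)

theorem cidx_eq_one_iff {A B : Subgroup G} : cidx A B = 1 ↔ A ≤ centralizer (B : Set G) :=
  Subgroup.relIndex_eq_one

theorem cidx_inf (A B : Subgroup G) : (A ⊓ centralizer (B : Set G)).relIndex A = cidx A B := by
  rw [cidx, inf_comm, Subgroup.inf_relIndex_right]

/-- the chain rule: `|A : C_A(B)| = |A : E| |E : C_E(B)|` for `C_A(B) ≤ E ≤ A`. -/
theorem cidx_chain {A B E : Subgroup G} (hEA : E ≤ A)
    (hCE : A ⊓ centralizer (B : Set G) ≤ E) :
    cidx A B = E.relIndex A * cidx E B := by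
  have h1 : E ⊓ centralizer (B : Set G) = A ⊓ centralizer (B : Set G) :=
    le_antisymm (inf_le_inf_right _ hEA) (le_inf hCE inf_le_right)
  rw [← cidx_inf A B, ← cidx_inf E B, h1, mul_comm]
  exact (Subgroup.relIndex_mul_relIndex _ _ _ hCE hEA).symm

/-- the chain rule in the second variable:
`|A : C_A(B)| = |A : C_A(E)| |C_A(E) : C_A(B)|` for `E ≤ B`. -/
theorem cidx_chain_right (A : Subgroup G) {B E : Subgroup G} (hEB : E ≤ B) :
    cidx A B = cidx A E *
      (A ⊓ centralizer (B : Set G)).relIndex (A ⊓ centralizer (E : Set G)) := by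
  have h1 : A ⊓ centralizer (B : Set G) ≤ A ⊓ centralizer (E : Set G) :=
    inf_le_inf_left _ (Subgroup.centralizer_le (by exact_mod_cast hEB))
  rw [← cidx_inf A B, ← cidx_inf A E, mul_comm]
  exact (Subgroup.relIndex_mul_relIndex _ _ _ h1 inf_le_left).symm

/-- `|V : C_V(E)| ≤ |D : C_D(E)|` for `V ≤ D`. -/
theorem cidx_mono_left [Finite G] {V D : Subgroup G} (h : V ≤ D) (E : Subgroup G) :
    cidx V E ≤ cidx D E :=
  Subgroup.relIndex_le_of_le_right h (rel_ne _ _)

/-- the induction step of Lemma 1: with `E₁ = C_E(V)`, `V ≤ W`: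
`|E : C_E(W)| = |E : C_E(V)| |E₁ : C_{E₁}(W)|` and
`|W : C_W(E)| ≥ |W : C_W(E₁)| |V : C_V(E)|`. -/
theorem step_left {V W E : Subgroup G} (hVW : V ≤ W) :
    cidx E W = cidx E V * cidx (E ⊓ centralizer (V : Set G)) W := by
  have h1 := cidx_chain (A := E) (B := W) (E := E ⊓ centralizer (V : Set G)) inf_le_left
    (inf_le_inf_left _ (Subgroup.centralizer_le (by exact_mod_cast hVW)))
  rw [h1, cidx_inf]

theorem step_right [Finite G] {V W E : Subgroup G} (hVW : V ≤ W) :
    cidx W (E ⊓ centralizer (V : Set G)) * cidx V E ≤ cidx W E := by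
  set E₁ := E ⊓ centralizer (V : Set G) with hE₁
  have h1 := cidx_chain_right W (B := E) (E := E₁) inf_le_left
  rw [h1]
  refine Nat.mul_le_mul_left _ ?_
  have hVD : V ≤ W ⊓ centralizer (E₁ : Set G) :=
    le_inf hVW (Subgroup.le_centralizer_iff.mpr (by rw [hE₁]; exact inf_le_right))
  have h2 : cidx V E = (W ⊓ centralizer (E : Set G)).relIndex V := by
    rw [cidx, ← Subgroup.inf_relIndex_right (centralizer (E : Set G)) V,
      ← Subgroup.inf_relIndex_right (W ⊓ centralizer (E : Set G)) V]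
    congr 1
    ext x
    simp only [Subgroup.mem_inf]
    constructor
    · rintro ⟨h, h'⟩
      exact ⟨⟨hVW h', h⟩, h'⟩
    · rintro ⟨⟨_, h⟩, h'⟩
      exact ⟨h, h'⟩
  rw [h2]
  exact Subgroup.relIndex_le_of_le_right hVD (rel_ne _ _)

/-- `E ≤ C(sSup 𝓛)` if `E` centralises every member of `𝓛`. -/
theorem le_centralizer_sSup {𝓛 : Set (Subgroup G)} {E : Subgroup G}
    (h : ∀ V ∈ 𝓛, E ≤ centralizer (V : Set G)) : E ≤ centralizer ((sSup 𝓛 : Subgroup G) : Set G) := by
  rw [Subgroup.le_centralizer_iff]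
  exact sSup_le fun V hV => Subgroup.le_centralizer_iff.mp (h V hV)

/-- **Lemma 1.** -/
theorem lemma1 [Finite G] {𝓛 : Set (Subgroup G)} {E : Subgroup G} {c : ℕ} (hc : 1 ≤ c)
    (h : ∀ V ∈ 𝓛, ∀ B ≤ E, ¬ B ≤ centralizer (V : Set G) → c * cidx B V ≤ cidx V B) :
    E ≤ centralizer ((sSup 𝓛 : Subgroup G) : Set G) ∨
      c * cidx E (sSup 𝓛) ≤ cidx (sSup 𝓛) E := by
  induction hn : Nat.card E using Nat.strong_induction_on generalizing E with
  | _ n ih =>
    by_cases hE : ∀ V ∈ 𝓛, E ≤ centralizer (V : Set G)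
    · exact Or.inl (le_centralizer_sSup hE)
    · push Not at hE
      obtain ⟨V, hV, hEV⟩ := hE
      right
      have hVW : V ≤ sSup 𝓛 := le_sSup hV
      set E₁ := E ⊓ centralizer (V : Set G) with hE₁
      have hE₁E : E₁ ≤ E := inf_le_left
      have hlt : Nat.card E₁ < n := by
        rw [← hn]
        refine lt_of_le_of_ne (Subgroup.card_le_of_le hE₁E) ?_
        intro heq
        have : E₁ = E := Subgroup.eq_of_le_of_card_ge hE₁E heq.ge
        exact hEV (by rw [← this]; exact inf_le_right)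
      have h1 := ih _ hlt (E := E₁) (fun V' hV' B hB hBV => h V' hV' B (hB.trans hE₁E) hBV) rfl
      have h2 : cidx E₁ (sSup 𝓛) ≤ cidx (sSup 𝓛) E₁ := by
        rcases h1 with h1 | h1
        · rw [cidx_eq_one_iff.mpr h1]
          exact cidx_pos _ _
        · exact le_trans (Nat.le_mul_of_pos_left _ hc) h1
      calc c * cidx E (sSup 𝓛) = (c * cidx E V) * cidx E₁ (sSup 𝓛) := by
            rw [step_left hVW, mul_assoc]
        _ ≤ cidx V E * cidx (sSup 𝓛) E₁ :=
            Nat.mul_le_mul (h V hV E le_rfl hEV) h2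
        _ = cidx (sSup 𝓛) E₁ * cidx V E := mul_comm _ _
        _ ≤ cidx (sSup 𝓛) E := step_right hVW

/-- **Lemma 1**, version with exponents: if `|B : C_B(V)| ^ a ≤ |V : C_V(B)| ^ b` for all members
`V` of `𝓛` and all `B ≤ E`, then the same holds for `E` on `sSup 𝓛`. -/
theorem lemma1_pow [Finite G] {𝓛 : Set (Subgroup G)} {E : Subgroup G} {a b : ℕ}
    (h : ∀ V ∈ 𝓛, ∀ B ≤ E, cidx B V ^ a ≤ cidx V B ^ b) :
    cidx E (sSup 𝓛) ^ a ≤ cidx (sSup 𝓛) E ^ b := by
  induction hn : Nat.card E using Nat.strong_induction_on generalizing E with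
  | _ n ih =>
    by_cases hE : ∀ V ∈ 𝓛, E ≤ centralizer (V : Set G)
    · rw [cidx_eq_one_iff.mpr (le_centralizer_sSup hE), one_pow]
      exact Nat.one_le_pow _ _ (cidx_pos _ _)
    · push Not at hE
      obtain ⟨V, hV, hEV⟩ := hE
      have hVW : V ≤ sSup 𝓛 := le_sSup hV
      set E₁ := E ⊓ centralizer (V : Set G) with hE₁
      have hE₁E : E₁ ≤ E := inf_le_left
      have hlt : Nat.card E₁ < n := by
        rw [← hn]
        refine lt_of_le_of_ne (Subgroup.card_le_of_le hE₁E) ?_
        intro heq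
        have : E₁ = E := Subgroup.eq_of_le_of_card_ge hE₁E heq.ge
        exact hEV (by rw [← this]; exact inf_le_right)
      have h2 := ih _ hlt (E := E₁) (fun V' hV' B hB => h V' hV' B (hB.trans hE₁E)) rfl
      calc cidx E (sSup 𝓛) ^ a = cidx E V ^ a * cidx E₁ (sSup 𝓛) ^ a := by
            rw [step_left hVW, mul_pow]
        _ ≤ cidx V E ^ b * cidx (sSup 𝓛) E₁ ^ b := Nat.mul_le_mul (h V hV E le_rfl) h2
        _ = (cidx (sSup 𝓛) E₁ * cidx V E) ^ b := by rw [mul_pow, mul_comm]
        _ ≤ cidx (sSup 𝓛) E ^ b := Nat.pow_le_pow_left (step_right hVW) b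

/-- **Formula (F)**: for `C_W(W') ≤ E ≤ W` and `C_{W'}(W) ≤ E' ≤ W'`,
`|W : E| |W' : E'| |E : C_E(W')| |E' : C_{E'}(W)|
  = |W' : C_{W'}(E)| |C_{W'}(E) : C_{W'}(W)| |W : C_W(E')| |C_W(E') : C_W(W')|`. -/
theorem formulaF {W W' E E' : Subgroup G} (hE : E ≤ W) (hE' : E' ≤ W')
    (hC : W ⊓ centralizer (W' : Set G) ≤ E) (hC' : W' ⊓ centralizer (W : Set G) ≤ E') :
    (E.relIndex W * E'.relIndex W') * (cidx E W' * cidx E' W) =
      ((W' ⊓ centralizer (W : Set G)).relIndex (W' ⊓ centralizer (E : Set G)) *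
        (W ⊓ centralizer (W' : Set G)).relIndex (W ⊓ centralizer (E' : Set G))) *
      (cidx W' E * cidx W E') := by
  have h1 := cidx_chain hE hC
  have h2 := cidx_chain hE' hC'
  have h3 := cidx_chain_right W' hE
  have h4 := cidx_chain_right W hE'
  have h5 : (E.relIndex W * cidx E W') * (E'.relIndex W' * cidx E' W) =
      (cidx W E' * (W ⊓ centralizer (W' : Set G)).relIndex (W ⊓ centralizer (E' : Set G))) *
      (cidx W' E * (W' ⊓ centralizer (W : Set G)).relIndex (W' ⊓ centralizer (E : Set G))) := by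
    rw [← h1, ← h2, ← h3, ← h4]
  calc _ = (E.relIndex W * cidx E W') * (E'.relIndex W' * cidx E' W) := by ring
    _ = _ := h5
    _ = _ := by ring

/-- The trichotomy: with `X = |W : E|`, `Y = |C_{W'}(E) : C_{W'}(W)|` and `X'`, `Y'` the same with
the roles exchanged, either `Y < X` or `Y' < X'` or everything is exact: `X = Y`, `X' = Y'`,
`E` centralises `W'` and `E'` centralises `W`. -/
theorem trichotomy [Finite G] {W W' E E' : Subgroup G} (hE : E ≤ W) (hE' : E' ≤ W')
    (hC : W ⊓ centralizer (W' : Set G) ≤ E) (hC' : W' ⊓ centralizer (W : Set G) ≤ E')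
    (hI : E ≤ centralizer (W' : Set G) ∨ cidx E W' < cidx W' E)
    (hI' : E' ≤ centralizer (W : Set G) ∨ cidx E' W < cidx W E') :
    (W' ⊓ centralizer (W : Set G)).relIndex (W' ⊓ centralizer (E : Set G)) < E.relIndex W ∨
    (W ⊓ centralizer (W' : Set G)).relIndex (W ⊓ centralizer (E' : Set G)) < E'.relIndex W' ∨
    ((W' ⊓ centralizer (W : Set G)).relIndex (W' ⊓ centralizer (E : Set G)) = E.relIndex W ∧
      (W ⊓ centralizer (W' : Set G)).relIndex (W ⊓ centralizer (E' : Set G)) = E'.relIndex W' ∧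
      E ≤ centralizer (W' : Set G) ∧ E' ≤ centralizer (W : Set G)) := by
  have hF := formulaF hE hE' hC hC'
  have hle : cidx E W' ≤ cidx W' E := by
    rcases hI with h | h
    · rw [cidx_eq_one_iff.mpr h]; exact cidx_pos _ _
    · exact h.le
  have hle' : cidx E' W ≤ cidx W E' := by
    rcases hI' with h | h
    · rw [cidx_eq_one_iff.mpr h]; exact cidx_pos _ _
    · exact h.le
  have hX : 0 < E.relIndex W := Nat.pos_of_ne_zero (rel_ne _ _)
  have hX' : 0 < E'.relIndex W' := Nat.pos_of_ne_zero (rel_ne _ _)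
  set X := E.relIndex W
  set X' := E'.relIndex W'
  set Y := (W' ⊓ centralizer (W : Set G)).relIndex (W' ⊓ centralizer (E : Set G))
  set Y' := (W ⊓ centralizer (W' : Set G)).relIndex (W ⊓ centralizer (E' : Set G))
  by_cases h1 : Y < X
  · exact Or.inl h1
  by_cases h2 : Y' < X'
  · exact Or.inr (Or.inl h2)
  right; right
  rw [not_lt] at h1 h2
  have he : 0 < cidx E W' := cidx_pos _ _
  have he' : 0 < cidx E' W := cidx_pos _ _
  -- everything is an equality
  have hXX : X * X' ≤ Y * Y' := Nat.mul_le_mul h1 h2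
  have hKK : cidx E W' * cidx E' W ≤ cidx W' E * cidx W E' := Nat.mul_le_mul hle hle'
  have hKpos : 0 < cidx E W' * cidx E' W := Nat.mul_pos he he'
  have hXpos : 0 < X * X' := Nat.mul_pos hX hX'
  have hKeq : cidx E W' * cidx E' W = cidx W' E * cidx W E' := by
    refine le_antisymm hKK ?_
    by_contra hcon
    rw [not_le] at hcon
    have : (X * X') * (cidx E W' * cidx E' W) < (Y * Y') * (cidx W' E * cidx W E') :=
      lt_of_lt_of_le (Nat.mul_lt_mul_of_pos_left hcon hXpos) (Nat.mul_le_mul_right _ hXX)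
    exact absurd hF this.ne
  have hXeq : X * X' = Y * Y' := by
    rw [hKeq] at hF
    exact Nat.eq_of_mul_eq_mul_right (hKeq ▸ hKpos) hF
  have hY : Y = X := by
    refine le_antisymm ?_ h1
    by_contra hcon
    rw [not_le] at hcon
    have : X * X' < Y * Y' := Nat.mul_lt_mul_of_lt_of_le hcon h2 (lt_of_lt_of_le hX' h2)
    exact absurd hXeq this.ne
  have hY' : Y' = X' := by
    rw [hY] at hXeq
    exact (Nat.eq_of_mul_eq_mul_left hX hXeq).symm
  refine ⟨hY, hY', ?_, ?_⟩
  · rcases hI with h | h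
    · exact h
    · have : cidx E W' * cidx E' W < cidx W' E * cidx W E' :=
        Nat.mul_lt_mul_of_lt_of_le h hle' (cidx_pos _ _)
      exact absurd hKeq this.ne
  · rcases hI' with h | h
    · exact h
    · have : cidx E W' * cidx E' W < cidx W' E * cidx W E' :=
        Nat.mul_lt_mul_of_le_of_lt hle h (cidx_pos _ _)
      exact absurd hKeq this.ne

end Cfsg.Agent.Omega.NO3b.Ineq
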