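import Cfsg.Agent.Omega.NO3b.EZeroPair
import Cfsg.Agent.Omega.ML.Final

/-!
# LEMMA D (helper1 #17391 (1)-(4)), without any field

`C ≤ C(Z)` (`C = C_G(Z)`), `Z ≤ V`, `W = ⟨V^C⟩` abelian, `R` normal in `C`, `[W, R] ≤ Z`.

* `Dat C Z V W R` : this situation; `br r w = [r, w]` is bilinear and `C`-invariant on `R × W`;
* `WY W R Y = {w ∈ W | [w, R] ≤ Y}` is normalised by `C`; `WY ⊥ = C_W(R)`, `WY Z = W`;
* `St C V R` : the elements of `C` which centralise `R / C_R(V)`;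
* `Step V R Y' Y v` : `v ∈ V`, `[v, R] ≤ Y`, `[v, r] ∈ Y' → r ∈ C(V)` (all that is used of `V = N ⊗ Y`);
* `Step.stab` : the stabiliser in `C` of `v WY(Y')` is `St`, for every step;
* `Step.cent` : `a ∈ C` which centralises `⟨v^C⟩ WY(Y') / WY(Y')` centralises `W / C_W(R)`;
* `pow_le` : with (ML), `Q` a 2-group normalised by `St`, `A ≤ Q ≤ St`, `1 = Y₀ ≤ Y₁ ≤ .. ≤ Y_n = Z` with steps:
  `|A : C_A(W / C_W(R))|^n |C_W(R) : C_{C_W(R)}(A)| ≤ |W : C_W(A)|`.
-/

set_option autoImplicit false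

namespace Cfsg.Agent.Omega.NO3b.LemD

open Subgroup Cfsg Cfsg.Agent.ZN.ChoiceBase
open Cfsg.Agent.Omega.NO3b.EZero (cl le_cl cj_le_cl cl_le le_normalizer_cl)

universe u

variable {G : Type u} [Group G]

/-- the commutator -/
def br (r w : G) : G := r * w * r⁻¹ * w⁻¹

theorem br_conj_eq (g r w : G) : br (g * r * g⁻¹) (g * w * g⁻¹) = g * br r w * g⁻¹ := by unfold br; group

/-- The situation of LEMMA D. -/
structure Dat (C Z V W R : Subgroup G) : Prop where
  cz : C ≤ centralizer (Z : Set G)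
  ZV : Z ≤ V
  gen : W = cl V C
  comm : W ≤ centralizer (W : Set G)
  RC : R ≤ C
  nR : C ≤ normalizer (R : Set G)
  wr : ∀ w ∈ W, ∀ r ∈ R, br r w ∈ Z

namespace Dat

variable {C Z V W R : Subgroup G} (h : Dat C Z V W R)
include h

theorem VW : V ≤ W := by rw [h.gen]; exact le_cl V C

theorem nW : C ≤ normalizer (W : Set G) := by rw [h.gen]; exact le_normalizer_cl V C

theorem conj_W {c w : G} (hc : c ∈ C) (hw : w ∈ W) : c * w * c⁻¹ ∈ W := (mem_normalizer_iff.1 (h.nW hc) w).1 hw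

theorem conj_R {c r : G} (hc : c ∈ C) (hr : r ∈ R) : c * r * c⁻¹ ∈ R := (mem_normalizer_iff.1 (h.nR hc) r).1 hr

theorem conj_R' {c r : G} (hc : c ∈ C) (hr : r ∈ R) : c⁻¹ * r * c ∈ R := by
  have h1 := h.conj_R (inv_mem hc) hr
  rwa [inv_inv] at h1

theorem comm_WW {a b : G} (ha : a ∈ W) (hb : b ∈ W) : a * b = b * a :=
  (mem_centralizer_iff.1 (h.comm ha) b hb).symm

theorem comm_CZ {c z : G} (hc : c ∈ C) (hz : z ∈ Z) : c * z = z * c :=
  (mem_centralizer_iff.1 (h.cz hc) z hz).symm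

theorem br_conj {c r w : G} (hc : c ∈ C) (hr : r ∈ R) (hw : w ∈ W) :
    br (c * r * c⁻¹) (c * w * c⁻¹) = br r w := by
  rw [br_conj_eq, h.comm_CZ hc (h.wr w hw r hr), mul_inv_cancel_right]

theorem br_conj' {c r w : G} (hc : c ∈ C) (hr : r ∈ R) (hw : w ∈ W) :
    br r (c * w * c⁻¹) = br (c⁻¹ * r * c) w := by
  have h1 := h.br_conj hc (h.conj_R' hc hr) hw
  have e : c * (c⁻¹ * r * c) * c⁻¹ = r := by group
  rwa [e] at h1

/-- `[r, w w'] = [r, w] [r, w']` -/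
theorem br_mul_right {r w w' : G} (hr : r ∈ R) (hw : w ∈ W) (hw' : w' ∈ W) :
    br r (w * w') = br r w * br r w' := by
  have h1 : br r w' ∈ W := h.VW (h.ZV (h.wr w' hw' r hr))
  have e : br r (w * w') = (r * w * r⁻¹) * br r w' * w⁻¹ := by unfold br; group
  rw [e, mul_assoc, h.comm_WW h1 (inv_mem hw), ← mul_assoc]
  rfl

/-- `[r r', w] = [r, w] [r', w]` -/
theorem br_mul_left {r r' w : G} (hr : r ∈ R) (hr' : r' ∈ R) (hw : w ∈ W) :
    br (r * r') w = br r w * br r' w := by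
  have h0 := h.wr w hw r' hr'
  have e : br (r * r') w = (r * br r' w * r⁻¹) * br r w := by unfold br; group
  rw [e, h.comm_CZ (h.RC hr) h0, mul_inv_cancel_right,
    h.comm_WW (h.VW (h.ZV h0)) (h.VW (h.ZV (h.wr w hw r hr)))]

theorem br_inv_right {r w : G} (hr : r ∈ R) (hw : w ∈ W) : br r w⁻¹ = (br r w)⁻¹ := by
  have h1 := h.br_mul_right hr hw (inv_mem hw)
  rw [mul_inv_cancel] at h1
  have e : br r (1 : G) = 1 := by unfold br; group
  rw [e] at h1
  exact eq_inv_of_mul_eq_one_right h1.symm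

theorem br_inv_left {r w : G} (hr : r ∈ R) (hw : w ∈ W) : br r⁻¹ w = (br r w)⁻¹ := by
  have h1 := h.br_mul_left hr (inv_mem hr) hw
  rw [mul_inv_cancel] at h1
  have e : br (1 : G) w = 1 := by unfold br; group
  rw [e] at h1
  exact eq_inv_of_mul_eq_one_right h1.symm

omit h in
/-- `{w ∈ W | [w, R] ≤ Y}` -/
def WY (h : Dat C Z V W R) (Y : Subgroup G) : Subgroup G where
  carrier := {w | w ∈ W ∧ ∀ r ∈ R, br r w ∈ Y}
  one_mem' := ⟨one_mem _, fun r _ => by
    have e : br r (1 : G) = 1 := by unfold br; group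
    rw [e]; exact one_mem _⟩
  mul_mem' := by
    rintro a b ⟨ha, ha'⟩ ⟨hb, hb'⟩
    exact ⟨mul_mem ha hb, fun r hr => by
      rw [h.br_mul_right hr ha hb]
      exact mul_mem (ha' r hr) (hb' r hr)⟩
  inv_mem' := by
    rintro a ⟨ha, ha'⟩
    exact ⟨inv_mem ha, fun r hr => by
      rw [h.br_inv_right hr ha]
      exact inv_mem (ha' r hr)⟩

omit h in
theorem mem_WY (h : Dat C Z V W R) {Y : Subgroup G} {w : G} : w ∈ h.WY Y ↔ w ∈ W ∧ ∀ r ∈ R, br r w ∈ Y :=
  Iff.rfl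

theorem WY_le (Y : Subgroup G) : h.WY Y ≤ W := fun _ hw => hw.1

theorem WY_mono {Y Y' : Subgroup G} (hY : Y ≤ Y') : h.WY Y ≤ h.WY Y' := fun _ hw => ⟨hw.1, fun r hr => hY (hw.2 r hr)⟩

theorem WY_Z : h.WY Z = W := le_antisymm (h.WY_le Z) fun w hw => ⟨hw, fun r hr => h.wr w hw r hr⟩

theorem WY_bot : h.WY ⊥ = W ⊓ centralizer (R : Set G) := by
  ext w
  rw [mem_WY, mem_inf, mem_centralizer_iff]
  refine and_congr_right fun _ => forall₂_congr fun r _ => ?_
  rw [mem_bot, br, mul_inv_eq_one, mul_inv_eq_iff_eq_mul]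

/-- `C` normalises `WY Y` -/
theorem nWY (Y : Subgroup G) : C ≤ normalizer (h.WY Y : Set G) := by
  have key : ∀ c ∈ C, ∀ w ∈ h.WY Y, c * w * c⁻¹ ∈ h.WY Y := fun c hc w hw =>
    ⟨h.conj_W hc hw.1, fun r hr => by
      rw [h.br_conj' hc hr hw.1]
      exact hw.2 _ (h.conj_R' hc hr)⟩
  intro c hc
  rw [mem_normalizer_iff]
  refine fun w => ⟨key c hc w, fun hw => ?_⟩
  have h1 := key c⁻¹ (inv_mem hc) _ hw
  have e : c⁻¹ * (c * w * c⁻¹) * c⁻¹⁻¹ = w := by group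
  rwa [e] at h1

/-- `Z ≤ WY Y` -/
theorem Z_le (Y : Subgroup G) : Z ≤ h.WY Y := fun z hz => ⟨h.VW (h.ZV hz), fun r hr => by
  have e : br r z = 1 := by rw [br, h.comm_CZ (h.RC hr) hz, mul_inv_cancel_right, mul_inv_cancel]
  rw [e]; exact one_mem _⟩

omit h in
/-- the elements of `C` which centralise `R / C_R(V)` -/
def St (h : Dat C Z V W R) : Subgroup G where
  carrier := {g | g ∈ C ∧ ∀ r ∈ R, g⁻¹ * r * g * r⁻¹ ∈ centralizer (V : Set G)}
  one_mem' := ⟨one_mem _, fun r _ => by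
    have e : (1 : G)⁻¹ * r * 1 * r⁻¹ = 1 := by group
    rw [e]; exact one_mem _⟩
  mul_mem' := by
    rintro a b ⟨ha, ha'⟩ ⟨hb, hb'⟩
    refine ⟨mul_mem ha hb, fun r hr => ?_⟩
    have h1 := hb' _ (h.conj_R' ha hr)
    have e : (a * b)⁻¹ * r * (a * b) * r⁻¹ =
        (b⁻¹ * (a⁻¹ * r * a) * b * (a⁻¹ * r * a)⁻¹) * (a⁻¹ * r * a * r⁻¹) := by group
    rw [e]
    exact mul_mem h1 (ha' r hr)
  inv_mem' := by
    rintro a ⟨ha, ha'⟩
    refine ⟨inv_mem ha, fun r hr => ?_⟩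
    have h1 := ha' _ (h.conj_R ha hr)
    have e : a⁻¹⁻¹ * r * a⁻¹ * r⁻¹ = (a⁻¹ * (a * r * a⁻¹) * a * (a * r * a⁻¹)⁻¹)⁻¹ := by group
    rw [e]
    exact inv_mem h1

theorem St_le : h.St ≤ C := fun _ hg => hg.1

omit h in
theorem mem_St (h : Dat C Z V W R) {g : G} :
    g ∈ h.St ↔ g ∈ C ∧ ∀ r ∈ R, g⁻¹ * r * g * r⁻¹ ∈ centralizer (V : Set G) := Iff.rfl

/-- `[r, [g, v]] = [g⁻¹ r g r⁻¹, v]` -/
theorem br_br {g r v : G} (hg : g ∈ C) (hr : r ∈ R) (hv : v ∈ W) :
    br r (br g v) = br (g⁻¹ * r * g * r⁻¹) v := by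
  have h1 := h.conj_R' hg hr
  rw [h.br_mul_left h1 (inv_mem hr) hv, h.br_inv_left hr hv, ← h.br_inv_right hr hv, ← h.br_conj' hg hr hv,
    ← h.br_mul_right hr (h.conj_W hg hv) (inv_mem hv)]
  rfl

theorem br_mem_W {g v : G} (hg : g ∈ C) (hv : v ∈ W) : br g v ∈ W := mul_mem (h.conj_W hg hv) (inv_mem hv)

end Dat

/-- One step: `v ∈ V`, `[v, R] ≤ Y`, `[v, r] ∈ Y'` only for `r ∈ C(V)`. -/
structure Step (V R Y' Y : Subgroup G) (v : G) : Prop where
  le : Y' ≤ Y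
  mem : v ∈ V
  br_mem : ∀ r ∈ R, br r v ∈ Y
  tp : ∀ r ∈ R, br r v ∈ Y' → r ∈ centralizer (V : Set G)

namespace Step

variable {C Z V W R Y' Y : Subgroup G} {v : G} (s : Step V R Y' Y v) (h : Dat C Z V W R)
include s h

theorem mem_W : v ∈ W := h.VW s.mem

theorem mem_WY : v ∈ h.WY Y := ⟨s.mem_W h, s.br_mem⟩

/-- **The stabiliser of `v WY(Y')` in `C` is `St`.** -/
theorem stab {g : G} (hg : g ∈ C) : br g v ∈ h.WY Y' ↔ g ∈ h.St := by
  rw [h.mem_WY, h.mem_St]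
  constructor
  · rintro ⟨_, h1⟩
    refine ⟨hg, fun r hr => ?_⟩
    have h2 := h1 r hr
    rw [h.br_br hg hr (s.mem_W h)] at h2
    exact s.tp _ (mul_mem (h.conj_R' hg hr) (inv_mem hr)) h2
  · rintro ⟨_, h1⟩
    refine ⟨h.br_mem_W hg (s.mem_W h), fun r hr => ?_⟩
    rw [h.br_br hg hr (s.mem_W h), br, ← mem_centralizer_iff.1 (h1 r hr) v s.mem, mul_inv_cancel_right,
      mul_inv_cancel]
    exact one_mem _

omit s in
/-- `g ∈ St` centralises `V W₀ / W₀` -/
theorem of_St {g v' : G} (hg : g ∈ h.St) (hv' : v' ∈ V) : br g v' ∈ h.WY ⊥ := by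
  refine ⟨h.br_mem_W hg.1 (h.VW hv'), fun r hr => ?_⟩
  rw [h.br_br hg.1 hr (h.VW hv'), br, ← mem_centralizer_iff.1 (hg.2 r hr) v' hv', mul_inv_cancel_right,
    mul_inv_cancel]
  exact one_mem _

/-- `a ∈ C` which centralises `⟨v^C⟩ WY(Y') / WY(Y')` centralises `W / W₀`. -/
theorem cent {a : G} (ha : a ∈ C) (hc' : ∀ c ∈ C, br a (c * v * c⁻¹) ∈ h.WY Y') :
    ∀ w ∈ W, br a w ∈ h.WY ⊥ := by
  let K : Subgroup G :=
    { carrier := {w | w ∈ W ∧ br a w ∈ h.WY ⊥}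
      one_mem' := ⟨one_mem _, by
        have e : br a (1 : G) = 1 := by unfold br; group
        rw [e]; exact one_mem _⟩
      mul_mem' := by
        rintro x y ⟨hx, hx'⟩ ⟨hy, hy'⟩
        refine ⟨mul_mem hx hy, ?_⟩
        have e : br a (x * y) = (a * x * a⁻¹) * br a y * x⁻¹ := by unfold br; group
        rw [e, mul_assoc, h.comm_WW (h.WY_le _ hy') (inv_mem hx), ← mul_assoc]
        exact mul_mem hx' hy'
      inv_mem' := by
        rintro x ⟨hx, hx'⟩
        refine ⟨inv_mem hx, ?_⟩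
        have e1 : br a x⁻¹ = (a * x⁻¹ * a⁻¹) * x := by unfold br; group
        have e2 : (br a x)⁻¹ = x * (a * x⁻¹ * a⁻¹) := by unfold br; group
        have e : br a x⁻¹ = (br a x)⁻¹ := by rw [e1, e2, h.comm_WW (h.conj_W ha (inv_mem hx)) hx]
        rw [e]
        exact inv_mem hx' }
  have key : W ≤ K := by
    refine h.gen.le.trans (cl_le fun c hc w hw => ?_)
    have hv' := mem_cj.1 hw
    set v' := c⁻¹ * w * c with hv'def
    have hw' : w = c * v' * c⁻¹ := by rw [hv'def]; group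
    have hcW : w ∈ W := by rw [hw']; exact h.conj_W hc (h.VW hv')
    refine ⟨hcW, ?_⟩
    -- `a^c ∈ St`
    have h1 : c⁻¹ * a * c ∈ h.St := by
      have hac : c⁻¹ * a * c ∈ C := mul_mem (mul_mem (inv_mem hc) ha) hc
      rw [← s.stab h hac]
      have h2 := hc' c hc
      have h3 := (mem_normalizer_iff.1 (h.nWY Y' (inv_mem hc)) _).1 h2
      have e : c⁻¹ * br a (c * v * c⁻¹) * c⁻¹⁻¹ = br (c⁻¹ * a * c) v := by unfold br; group
      rwa [e] at h3
    have h2 := of_St h h1 hv'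
    have h3 := (mem_normalizer_iff.1 (h.nWY ⊥ hc) _).1 h2
    have e : c * br (c⁻¹ * a * c) v' * c⁻¹ = br a w := by rw [hw']; unfold br; group
    rwa [e] at h3
  exact fun w hw => (key hw).2

end Step

/-! ### the count -/

theorem rel_sup {K L : Subgroup G} (h : L ≤ normalizer (K : Set G)) : K.relIndex (K ⊔ L) = K.relIndex L := by
  have hKn : (K.subgroupOf (K ⊔ L)).Normal :=
    normal_subgroupOf_of_le_normalizer (sup_le le_normalizer h)
  have h1 := relIndex_sup_left (L.subgroupOf (K ⊔ L)) (K.subgroupOf (K ⊔ L))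
  rw [← Subgroup.subgroupOf_sup le_sup_left le_sup_right, Subgroup.subgroupOf_self,
    Subgroup.relIndex_subgroupOf le_sup_right, relIndex_top_right] at h1
  exact h1

namespace Dat

variable {C Z V W R : Subgroup G} (h : Dat C Z V W R)

/-- `[a, x y] = [a, x] [a, y]` for `a ∈ C`, `x, y ∈ W` -/
theorem br_mul' (h : Dat C Z V W R) {a x y : G} (ha : a ∈ C) (hx : x ∈ W) (hy : y ∈ W) :
    br a (x * y) = br a x * br a y := by
  have e : br a (x * y) = (a * x * a⁻¹) * br a y * x⁻¹ := by unfold br; group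
  rw [e, mul_assoc, h.comm_WW (h.br_mem_W ha hy) (inv_mem hx), ← mul_assoc]
  rfl

theorem br_inv' (h : Dat C Z V W R) {a x : G} (ha : a ∈ C) (hx : x ∈ W) : br a x⁻¹ = (br a x)⁻¹ := by
  have e1 : br a x⁻¹ = (a * x⁻¹ * a⁻¹) * x := by unfold br; group
  have e2 : (br a x)⁻¹ = x * (a * x⁻¹ * a⁻¹) := by unfold br; group
  rw [e1, e2, h.comm_WW (h.conj_W ha (inv_mem hx)) hx]

/-- `{x ∈ W | [x, A] ≤ D}` -/
def CQ (h : Dat C Z V W R) {A : Subgroup G} (hA : A ≤ C) (D : Subgroup G) : Subgroup G where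
  carrier := {x | x ∈ W ∧ ∀ a ∈ A, br a x ∈ D}
  one_mem' := ⟨one_mem _, fun a _ => by
    have e : br a (1 : G) = 1 := by unfold br; group
    rw [e]; exact one_mem _⟩
  mul_mem' := by
    rintro x y ⟨hx, hx'⟩ ⟨hy, hy'⟩
    exact ⟨mul_mem hx hy, fun a ha => by
      rw [h.br_mul' (hA ha) hx hy]
      exact mul_mem (hx' a ha) (hy' a ha)⟩
  inv_mem' := by
    rintro x ⟨hx, hx'⟩
    exact ⟨inv_mem hx, fun a ha => by
      rw [h.br_inv' (hA ha) hx]
      exact inv_mem (hx' a ha)⟩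

/-- `C_C(W / C_W(R))` -/
def CW0 (h : Dat C Z V W R) : Subgroup G where
  carrier := {a | a ∈ C ∧ ∀ w ∈ W, br a w ∈ h.WY ⊥}
  one_mem' := ⟨one_mem _, fun w _ => by
    have e : br (1 : G) w = 1 := by unfold br; group
    rw [e]; exact one_mem _⟩
  mul_mem' := by
    rintro a b ⟨ha, ha'⟩ ⟨hb, hb'⟩
    refine ⟨mul_mem ha hb, fun w hw => ?_⟩
    have e : br (a * b) w = (a * br b w * a⁻¹) * br a w := by unfold br; group
    rw [e]
    exact mul_mem ((mem_normalizer_iff.1 (h.nWY ⊥ ha) _).1 (hb' w hw)) (ha' w hw)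
  inv_mem' := by
    rintro a ⟨ha, ha'⟩
    refine ⟨inv_mem ha, fun w hw => ?_⟩
    have e : br a⁻¹ w = a⁻¹ * (br a w)⁻¹ * a⁻¹⁻¹ := by unfold br; group
    rw [e]
    exact (mem_normalizer_iff.1 (h.nWY ⊥ (inv_mem ha)) _).1 (inv_mem (ha' w hw))

theorem mem_CW0 (h : Dat C Z V W R) {a : G} : a ∈ h.CW0 ↔ a ∈ C ∧ ∀ w ∈ W, br a w ∈ h.WY ⊥ := Iff.rfl

include h

/-- `|D : C_D(A)| ≥ |D' : C_{D'}(A)| |D : C_D(A) D'|` -/
theorem rel_mul [Finite G] {K D' D : Subgroup G} (hD : D' ≤ D) (hDW : D ≤ W) :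
    K.relIndex D' * ((K ⊓ D) ⊔ D').relIndex D = K.relIndex D := by
  have hn : D' ≤ normalizer ((K ⊓ D : Subgroup G) : Set G) :=
    ((hD.trans hDW).trans (h.comm.trans (centralizer_le (inf_le_right.trans hDW)))).trans
      (centralizer_le_normalizer _)
  have h1 : (K ⊓ D).relIndex D' = K.relIndex D' := by
    rw [← inf_relIndex_right, inf_assoc, inf_eq_right.2 hD, inf_relIndex_right]
  have h2 : (K ⊓ D).relIndex ((K ⊓ D) ⊔ D') = (K ⊓ D).relIndex D' := rel_sup hn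
  have h3 := relIndex_mul_relIndex (K ⊓ D) ((K ⊓ D) ⊔ D') D le_sup_left (sup_le inf_le_right hD)
  rw [h2, h1, inf_relIndex_right] at h3
  exact h3

end Dat

/-- The group side of (ML): `T` a Sylow 2-subgroup of `C` in `St`, `Q` a 2-group normalised by `St`, `A ≤ Q ≤ St`,
`A` acts on `W / C_W(R)` as a group of exponent 2. -/
structure Grp {C Z V W R : Subgroup G} (h : Dat C Z V W R) (T Q A : Subgroup G) : Prop where
  sq : ∀ w ∈ W, w * w = 1
  T_le : T ≤ h.St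
  T_two : IsPGroup 2 T
  T_odd : ¬ 2 ∣ T.relIndex C
  Q_le : Q ≤ h.St
  Q_two : IsPGroup 2 Q
  Q_norm : h.St ≤ normalizer (Q : Set G)
  A_le : A ≤ Q
  A_sq : ∀ a ∈ A, ∀ w ∈ W, br (a * a) w ∈ h.WY ⊥

/-- **one step**: `|A : C_A(W / W₀)| |WY(Y') : C(A)| ≤ |WY(Y) : C(A)|` -/
theorem Step.ml [Finite G] (hML : ML.Final.MLK.{u, u}) {C Z V W R T Q A Y' Y : Subgroup G} {v : G}
    (hK : IsKGroup C) {h : Dat C Z V W R} (k : Grp h T Q A) (s : Step V R Y' Y v) :
    h.CW0.relIndex A * (centralizer (A : Set G)).relIndex (h.WY Y') ≤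
      (centralizer (A : Set G)).relIndex (h.WY Y) := by
  have hAC : A ≤ C := (k.A_le.trans k.Q_le).trans h.St_le
  set D' := h.WY Y' with hD'
  set D := h.WY Y with hD
  have hDD : D' ≤ D := h.WY_mono s.le
  have hDW : D ≤ W := h.WY_le Y
  have h0D : h.WY ⊥ ≤ D' := h.WY_mono bot_le
  -- `⟨v^C⟩ D'`
  set Wv := cl (zpowers v) C ⊔ D' with hWv
  have hvv : ∀ c ∈ C, c * v * c⁻¹ ∈ Wv := fun c hc =>
    le_sup_left (a := cl (zpowers v) C) (cj_le_cl hc (mem_cj.2 (by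
      have e : c⁻¹ * (c * v * c⁻¹) * c = v := by group
      rw [e]; exact mem_zpowers v)))
  have hWvD : Wv ≤ D := by
    refine sup_le (cl_le fun c hc w hw => ?_) hDD
    obtain ⟨n, hn⟩ := mem_zpowers_iff.1 (mem_cj.1 hw)
    have e : w = c * v ^ n * c⁻¹ := by rw [hn]; group
    rw [e]
    exact (mem_normalizer_iff.1 (h.nWY Y hc) _).1 (zpow_mem (s.mem_WY h) n)
  have hWvW : Wv ≤ W := hWvD.trans hDW
  have hnWv : C ≤ normalizer (Wv : Set G) := by
    intro c hc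
    have e : cj c (cl (zpowers v) C ⊔ D') = cj c (cl (zpowers v) C) ⊔ cj c D' := Subgroup.map_sup _ _ _
    rw [mem_normalizer_iff_cj, hWv, e, mem_normalizer_iff_cj.1 (le_normalizer_cl _ _ hc),
      mem_normalizer_iff_cj.1 (h.nWY Y' hc)]
  have hvW : v ∈ Wv := by
    have h1 := hvv 1 (one_mem _)
    rwa [one_mul, inv_one, mul_one] at h1
  have gd : ML.Final.GDat C Wv D' T Q A v :=
    { nW := hnWv
      nY := h.nWY Y'
      YW := le_sup_right
      WY := (hWvW.trans (h.comm.trans (centralizer_le (h.WY_le Y')))).trans (centralizer_le_normalizer _)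
      sq := fun x hx => by rw [k.sq x (hWvW hx)]; exact one_mem _
      mem := hvW
      gen := fun U hvU hYU hCU => sup_le (cl_le fun c hc w hw => by
        obtain ⟨n, hn⟩ := mem_zpowers_iff.1 (mem_cj.1 hw)
        have e : w = c * v ^ n * c⁻¹ := by rw [hn]; group
        rw [e]
        exact (mem_normalizer_iff.1 (hCU hc) _).1 (zpow_mem hvU n)) hYU
      TC := k.T_le.trans h.St_le
      two := k.T_two
      odd := k.T_odd
      fixT := fun t ht => (s.stab h (h.St_le (k.T_le ht))).2 (k.T_le ht)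
      QC := k.Q_le.trans h.St_le
      Q2 := k.Q_two
      fixQ := fun q hq => (s.stab h (h.St_le (k.Q_le hq))).2 (k.Q_le hq)
      nrmQ := fun g hg hgv q hq => (mem_normalizer_iff.1 (k.Q_norm ((s.stab h hg).1 hgv)) q).1 hq
      AQ := k.A_le
      Asq := fun a ha x hx => by
        have h1 := h0D (k.A_sq a ha x (hWvW hx))
        have e : a * (a * x * a⁻¹) * a⁻¹ * x⁻¹ = br (a * a) x := by unfold br; group
        rw [e]; exact h1 }
  have key := hML.grp hK gd (KA := A ⊓ h.CW0) (CW := Wv ⊓ h.CQ hAC D') (by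
    intro a
    rw [mem_inf]
    refine and_congr_right fun ha => ⟨fun h1 x hx => h0D (h1.2 x (hWvW hx)), fun h1 => ?_⟩
    exact ⟨hAC ha, s.cent h (hAC ha) fun c hc => h1 _ (hvv c hc)⟩) (by
    intro x
    rw [mem_inf]
    refine and_congr_right fun hx => ⟨fun h1 => h1.2, fun h1 => ⟨hWvW hx, h1⟩⟩)
  rw [inf_relIndex_left] at key
  have h1 : (Wv ⊓ h.CQ hAC D').relIndex Wv ≤ ((centralizer (A : Set G) ⊓ D) ⊔ D').relIndex D := by
    refine le_trans ?_ (relIndex_le_of_le_right hWvD index_ne_zero_of_finite)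
    rw [inf_relIndex_left, ← inf_relIndex_right ((centralizer (A : Set G) ⊓ D) ⊔ D') Wv,
      ← inf_relIndex_right (h.CQ hAC D') Wv]
    refine relIndex_le_of_le_left (le_inf ?_ inf_le_right) index_ne_zero_of_finite
    refine inf_le_left.trans (sup_le ?_ ?_)
    · rintro x ⟨hx, hxD⟩
      refine ⟨hDW hxD, fun a ha => ?_⟩
      rw [br, mem_centralizer_iff.1 hx a ha, mul_inv_cancel_right, mul_inv_cancel]
      exact one_mem _
    · intro x hx
      refine ⟨h.WY_le _ hx, fun a ha => ?_⟩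
      exact mul_mem ((mem_normalizer_iff.1 (h.nWY Y' (hAC ha)) _).1 hx) (inv_mem hx)
  calc h.CW0.relIndex A * (centralizer (A : Set G)).relIndex D'
      ≤ ((centralizer (A : Set G) ⊓ D) ⊔ D').relIndex D * (centralizer (A : Set G)).relIndex D' :=
        Nat.mul_le_mul_right _ (key.trans h1)
    _ = (centralizer (A : Set G)).relIndex D' * ((centralizer (A : Set G) ⊓ D) ⊔ D').relIndex D := mul_comm _ _
    _ = _ := h.rel_mul hDD hDW

/-- **the count**, `n` steps -/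
theorem pow_le [Finite G] (hML : ML.Final.MLK.{u, u}) {C Z V W R T Q A : Subgroup G} (hK : IsKGroup C)
    {h : Dat C Z V W R} (k : Grp h T Q A) (Y : ℕ → Subgroup G) (v : ℕ → G) (n : ℕ)
    (hs : ∀ i < n, Step V R (Y i) (Y (i + 1)) (v i)) :
    h.CW0.relIndex A ^ n * (centralizer (A : Set G)).relIndex (h.WY (Y 0)) ≤
      (centralizer (A : Set G)).relIndex (h.WY (Y n)) := by
  induction n with
  | zero => rw [pow_zero, one_mul]
  | succ n ih =>
    have h1 := ih fun i hi => hs i (by omega)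
    have h2 := Step.ml hML hK k (hs n (by omega))
    calc h.CW0.relIndex A ^ (n + 1) * (centralizer (A : Set G)).relIndex (h.WY (Y 0))
        = h.CW0.relIndex A * (h.CW0.relIndex A ^ n * (centralizer (A : Set G)).relIndex (h.WY (Y 0))) := by ring
      _ ≤ h.CW0.relIndex A * (centralizer (A : Set G)).relIndex (h.WY (Y n)) := Nat.mul_le_mul_left _ h1
      _ ≤ _ := h2

/-- **LEMMA D, the count**: `|A : C_A(W / W₀)|^n |W₀ : C_{W₀}(A)| ≤ |W : C_W(A)|`, `W₀ = C_W(R)`. -/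
theorem pow_le' [Finite G] (hML : ML.Final.MLK.{u, u}) {C Z V W R T Q A : Subgroup G} (hK : IsKGroup C)
    {h : Dat C Z V W R} (k : Grp h T Q A) (Y : ℕ → Subgroup G) (v : ℕ → G) (n : ℕ) (h0 : Y 0 = ⊥) (hn : Y n = Z)
    (hs : ∀ i < n, Step V R (Y i) (Y (i + 1)) (v i)) :
    h.CW0.relIndex A ^ n * (centralizer (A : Set G)).relIndex (W ⊓ centralizer (R : Set G)) ≤
      (centralizer (A : Set G)).relIndex W := by
  have h1 := pow_le hML hK k Y v n hs
  rwa [h0, hn, h.WY_Z, h.WY_bot] at h1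

/-- **LEMMA D, the count**, with a family `𝓨` of subgroups of `Z` (the `F_q`-subspaces), `|Z| = q^n`. -/
theorem card_le [Finite G] (hML : ML.Final.MLK.{u, u}) {C Z V W R T Q A : Subgroup G} (hK : IsKGroup C)
    {h : Dat C Z V W R} (k : Grp h T Q A) (𝓨 : Subgroup G → Prop) {q n : ℕ} (h0 : 𝓨 ⊥)
    (hs : ∀ Y', 𝓨 Y' → Y' ≤ Z → Y' ≠ Z → ∃ v Y, 𝓨 Y ∧ Y ≤ Z ∧ Y'.relIndex Y = q ∧ Step V R Y' Y v)
    (hq : 2 ≤ q) (hZ : Nat.card Z = q ^ n) :
    h.CW0.relIndex A ^ n * (centralizer (A : Set G)).relIndex (W ⊓ centralizer (R : Set G)) ≤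
      (centralizer (A : Set G)).relIndex W := by
  have key : ∀ n : ℕ, ∀ Y' : Subgroup G, 𝓨 Y' → Y' ≤ Z → Y'.relIndex Z = q ^ n →
      h.CW0.relIndex A ^ n * (centralizer (A : Set G)).relIndex (h.WY Y') ≤
        (centralizer (A : Set G)).relIndex (h.WY Z) := by
    intro n
    induction n with
    | zero =>
      intro Y' _ hY'Z hc
      rw [pow_zero] at hc
      rw [pow_zero, one_mul, le_antisymm hY'Z (relIndex_eq_one.1 hc)]
    | succ n ih =>
      intro Y' hY' hY'Z hc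
      have hne : Y' ≠ Z := by
        rintro rfl
        rw [relIndex_self] at hc
        have h2 : q ^ (n + 1) ≠ 1 := (Nat.one_lt_pow (by omega) (by omega)).ne'
        exact h2 hc.symm
      obtain ⟨v, Y, hY, hYZ, hqY, s⟩ := hs Y' hY' hY'Z hne
      have h1 := relIndex_mul_relIndex Y' Y Z s.le hYZ
      rw [hqY, hc, pow_succ, mul_comm] at h1
      have h2 : Y.relIndex Z = q ^ n := Nat.eq_of_mul_eq_mul_right (by omega : 0 < q) h1
      have h3 := ih Y hY hYZ h2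
      have h4 := Step.ml hML hK k s
      calc h.CW0.relIndex A ^ (n + 1) * (centralizer (A : Set G)).relIndex (h.WY Y')
          = h.CW0.relIndex A ^ n * (h.CW0.relIndex A * (centralizer (A : Set G)).relIndex (h.WY Y')) := by ring
        _ ≤ h.CW0.relIndex A ^ n * (centralizer (A : Set G)).relIndex (h.WY Y) := Nat.mul_le_mul_left _ h4
        _ ≤ _ := h3
  have h1 := key n ⊥ h0 bot_le (by rw [relIndex_bot_left, hZ])
  rwa [h.WY_Z, h.WY_bot] at h1

/-- **LEMMA D, `q = 2`**: `R` induces on `V` a group of order 2, generated by `r₀`, `C_V(r₀) ≤ Z = [V, r₀]`,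
`|Z| = 2^n`. -/
theorem card_le_two [Finite G] (hML : ML.Final.MLK.{u, u}) {C Z V W R T Q A : Subgroup G} (hK : IsKGroup C)
    {h : Dat C Z V W R} (k : Grp h T Q A) {n : ℕ} {r₀ : G} (hr₀ : r₀ ∈ R)
    (hR : ∀ r ∈ R, r ∈ centralizer (V : Set G) ∨ r * r₀⁻¹ ∈ centralizer (V : Set G))
    (hsurj : ∀ z ∈ Z, ∃ v ∈ V, br r₀ v = z) (hZ : Nat.card Z = 2 ^ n) :
    h.CW0.relIndex A ^ n * (centralizer (A : Set G)).relIndex (W ⊓ centralizer (R : Set G)) ≤
      (centralizer (A : Set G)).relIndex W := by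
  refine card_le hML hK k (fun _ => True) trivial (fun Y' _ hY'Z hne => ?_) le_rfl hZ
  obtain ⟨y, hy, hyY⟩ := SetLike.exists_of_lt (lt_of_le_of_ne hY'Z hne)
  obtain ⟨v, hv, hvy⟩ := hsurj y hy
  have hyW : y ∈ W := h.VW (h.ZV hy)
  have hn : zpowers y ≤ normalizer (Y' : Set G) := by
    refine le_trans ?_ ((h.comm.trans (centralizer_le (hY'Z.trans (h.ZV.trans h.VW)))).trans
      (centralizer_le_normalizer _))
    rwa [zpowers_le]
  have hbr : ∀ r ∈ R, br r v = 1 ∨ br r v = y := by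
    intro r hr
    rcases hR r hr with h1 | h1
    · left
      rw [br, ← mem_centralizer_iff.1 h1 v hv, mul_inv_cancel_right, mul_inv_cancel]
    · right
      have h2 := h.br_mul_left (mul_mem hr (inv_mem hr₀)) hr₀ (h.VW hv)
      rw [inv_mul_cancel_right, hvy] at h2
      rw [h2]
      have h3 : br (r * r₀⁻¹) v = 1 := by
        rw [br, ← mem_centralizer_iff.1 h1 v hv, mul_inv_cancel_right, mul_inv_cancel]
      rw [h3, one_mul]
  refine ⟨v, Y' ⊔ zpowers y, trivial, sup_le hY'Z (by rwa [zpowers_le]), ?_, ?_⟩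
  · rw [rel_sup hn, relIndex, index_eq_two_iff]
    refine ⟨⟨y, mem_zpowers y⟩, fun b => ?_⟩
    have hy2 : y * y = 1 := k.sq y hyW
    rw [mem_subgroupOf, mem_subgroupOf]
    change Xor ((b : G) * y ∈ Y') ((b : G) ∈ Y')
    obtain ⟨m, hm⟩ := mem_zpowers_iff.1 b.2
    rcases Int.even_or_odd m with h1 | h1
    · obtain ⟨l, hl⟩ := h1
      have h2 : (b : G) = 1 := by
        rw [← hm, hl, ← two_mul, zpow_mul, zpow_ofNat, pow_two, hy2, one_zpow]
      rw [h2, one_mul]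
      exact Or.inr ⟨one_mem _, hyY⟩
    · obtain ⟨l, hl⟩ := h1
      have h2 : (b : G) = y := by
        rw [← hm, hl, zpow_add, zpow_mul, zpow_ofNat, pow_two, hy2, one_zpow, one_mul, zpow_one]
      rw [h2, hy2]
      exact Or.inl ⟨one_mem _, hyY⟩
  · refine ⟨le_sup_left, hv, fun r hr => ?_, fun r hr hrY => ?_⟩
    · rcases hbr r hr with h1 | h1
      · rw [h1]; exact one_mem _
      · rw [h1]; exact le_sup_right (a := Y') (mem_zpowers y)
    · rcases hR r hr with h1 | h1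
      · exact h1
      · exfalso
        apply hyY
        have h2 := h.br_mul_left (mul_mem hr (inv_mem hr₀)) hr₀ (h.VW hv)
        rw [inv_mul_cancel_right, hvy] at h2
        have h3 : br (r * r₀⁻¹) v = 1 := by
          rw [br, ← mem_centralizer_iff.1 h1 v hv, mul_inv_cancel_right, mul_inv_cancel]
        rw [h3, one_mul] at h2
        rwa [h2] at hrY

end Cfsg.Agent.Omega.NO3b.LemD
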