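import Cfsg.Agent.ZN.ChoiceBase
import Mathlib.GroupTheory.NoncommPiCoprod
import Mathlib.GroupTheory.PGroup

/-!
# The amalgam of local exits (helper768, #17387 (R2); helper960 #17555, helper282 #17732 (R2w'); helper167 #17628 (R2*))

`cj g H = g H g⁻¹`.  A *family* `Fam M W V H U` (`ι` any index set): `W ≤ M ≤ H i`, `M` normalises `W` and `V`,
`W` centralises `V`, `U i` an abelian 2-group, normal in `H i`, and every 2-subgroup of `H i` which centralises
`U i` lies in `W` (`walk`).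

* `Fam.crit` : if no 2-group `≠ 1` is normalised by all `H i`, then for some `i`, `j`, `g`:
  `U i ≤ W^g`, `(U j)^g ≤ W`, `[U i, (U j)^g] ≠ 1`;
* `Fam.close` : the end: no such triple has `1 ≠ t ∈ V ∩ V^g` with `U i, U j ≤ W_t = ⟨V^{C_G(t)}⟩` (abelian);
* `Fam.rtwo_star` : **(R2*)**: `[U i, W] ≤ V` and for every `1 ≠ t ∈ V` either `C_G(t)` normalises `V` or all
  `U i ≤ W_t`;
* `Blocks`, `Blocks.card_le`, `Blocks.eq` : the count with blocks `U i = ⊕ B j`;
* `Fam.rtwo_w` : **(R2w')**.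
-/

set_option autoImplicit false

namespace Cfsg.Agent.Omega.NO3b.LocEndW

open Subgroup Cfsg.Agent.ZN.ChoiceBase
open scoped commutatorElement

universe u v w

variable {G : Type u} [Group G]

/-! ### `W_t` -/

/-- `W_t = ⟨V^{C_G(t)}⟩`. -/
def wt (V : Subgroup G) (t : G) : Subgroup G := ⨆ c : ↥(centralizer ({t} : Set G)), cj (c : G) V

theorem le_wt (V : Subgroup G) (t : G) : V ≤ wt V t := by
  have h : cj ((1 : ↥(centralizer ({t} : Set G))) : G) V ≤ wt V t :=
    le_iSup (fun c : ↥(centralizer ({t} : Set G)) => cj (c : G) V) 1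
  rwa [OneMemClass.coe_one, cj_one] at h

theorem cj_iSup {κ : Sort v} (g : G) (B : κ → Subgroup G) : cj g (⨆ b, B b) = ⨆ b, cj g (B b) :=
  Subgroup.map_iSup _ _

theorem cj_wt {V : Subgroup G} {t c : G} (hc : c ∈ centralizer ({t} : Set G)) : cj c (wt V t) = wt V t := by
  have key : ∀ d ∈ centralizer ({t} : Set G), cj d (wt V t) ≤ wt V t := by
    intro d hd
    rw [wt, cj_iSup]
    refine iSup_le fun x => ?_
    rw [cj_cj]
    exact le_iSup (fun c : ↥(centralizer ({t} : Set G)) => cj (c : G) V) ⟨d * x, mul_mem hd x.2⟩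
  refine le_antisymm (key c hc) ?_
  have h := key c⁻¹ (inv_mem hc)
  have h2 := cj_mono c h
  rwa [cj_cj_inv] at h2

theorem wt_comm {V : Subgroup G} {t : G}
    (ti : ∀ c ∈ centralizer ({t} : Set G), V ≤ centralizer ((cj c V : Subgroup G) : Set G)) :
    wt V t ≤ centralizer (wt V t : Set G) := by
  have h1 : ∀ c ∈ centralizer ({t} : Set G), ∀ d ∈ centralizer ({t} : Set G),
      cj c V ≤ centralizer ((cj d V : Subgroup G) : Set G) := by
    intro c hc d hd
    have h2 := cj_mono c (ti (c⁻¹ * d) (mul_mem (inv_mem hc) hd))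
    rwa [cj_centralizer, cj_cj, mul_inv_cancel_left] at h2
  refine iSup_le fun c => ?_
  intro x hx
  have h2 : wt V t ≤ centralizer ({x} : Set G) := by
    refine iSup_le fun d => ?_
    intro y hy
    have h3 := mem_centralizer_iff.1 (h1 c c.2 d d.2 hx) y hy
    exact mem_centralizer_iff.2 fun z hz => by rw [Set.mem_singleton_iff.1 hz]; exact h3.symm
  exact mem_centralizer_iff.2 fun y hy => (mem_centralizer_iff.1 (h2 hy) x rfl).symm

theorem exists_ne_one {D : Subgroup G} (hD : D ≠ ⊥) : ∃ t ∈ D, t ≠ 1 := by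
  by_contra hc
  push Not at hc
  exact hD ((Subgroup.eq_bot_iff_forall D).2 hc)

/-! ### Families -/

/-- A family of local exits. -/
structure Fam {ι : Type v} (M W V : Subgroup G) (H U : ι → Subgroup G) : Prop where
  MH : ∀ i, M ≤ H i
  WM : W ≤ M
  MV : M ≤ normalizer (V : Set G)
  MW : M ≤ normalizer (W : Set G)
  WV : W ≤ centralizer (V : Set G)
  HU : ∀ i, H i ≤ normalizer (U i : Set G)
  UH : ∀ i, U i ≤ H i
  two : ∀ i, IsPGroup 2 (U i)
  comm : ∀ i, U i ≤ centralizer (U i : Set G)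
  walk : ∀ i (A : Subgroup G), IsPGroup 2 A → A ≤ H i → A ≤ centralizer (U i : Set G) → A ≤ W

namespace Fam

variable {ι : Type v} {M W V : Subgroup G} {H U : ι → Subgroup G} (h : Fam M W V H U)
include h

theorem U_le_W (i : ι) : U i ≤ W := h.walk i _ (h.two i) (h.UH i) (h.comm i)

/-- The walk. -/
theorem fwd (i : ι) (l : List G) (hl : ∀ x ∈ l, ∃ j, x ∈ H j)
    (hc : ∀ l' : List G, (∀ x ∈ l', ∃ j, x ∈ H j) → l'.length < l.length → ∀ j,
      U i ≤ centralizer ((cj l'.prod (U j) : Subgroup G) : Set G)) :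
    U i ≤ cj l.prod W := by
  induction l using List.reverseRecOn with
  | nil => rw [List.prod_nil, cj_one]; exact h.U_le_W i
  | append_singleton l x ih =>
    have hl1 : ∀ y ∈ l, ∃ j, y ∈ H j := fun y hy => hl y (List.mem_append_left _ hy)
    have hlen : (l ++ [x]).length = l.length + 1 := by simp
    have h1 := ih hl1 fun l' h' h'' => hc l' h' (by omega)
    obtain ⟨j, hj⟩ := hl x (by simp)
    have h2 := hc l hl1 (by omega) j
    rw [List.prod_append, List.prod_singleton]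
    set y := l.prod with hy
    have hW : W ≤ H j := h.WM.trans (h.MH j)
    have e1 : cj (y * x)⁻¹ (U i) ≤ H j := by
      have h3 := cj_mono (y * x)⁻¹ (h1.trans (cj_mono y hW))
      rw [cj_cj (y * x)⁻¹ y] at h3
      have e : (y * x)⁻¹ * y = x⁻¹ := by group
      rw [e, cj_eq_of_mem_normalizer (Subgroup.le_normalizer (inv_mem hj))] at h3
      exact h3
    have e2 : cj (y * x)⁻¹ (U i) ≤ centralizer (U j : Set G) := by
      have h3 := cj_mono (y * x)⁻¹ h2
      rw [cj_centralizer, cj_cj] at h3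
      have e : (y * x)⁻¹ * y = x⁻¹ := by group
      rw [e, cj_eq_of_mem_normalizer (h.HU j (inv_mem hj))] at h3
      exact h3
    have h4 := h.walk j _ (IsPGroup.map (h.two i) _) e1 e2
    have h5 := cj_mono (y * x) h4
    rwa [cj_cj_inv] at h5

/-- **The critical pair.** -/
theorem crit (hU : ∃ i, U i ≠ ⊥)
    (hL : ∀ R : Subgroup G, IsPGroup 2 R → R ≠ ⊥ → (∀ i, H i ≤ normalizer (R : Set G)) → False) :
    ∃ (i j : ι) (g : G), U i ≤ cj g W ∧ cj g (U j) ≤ W ∧
      ¬ U i ≤ centralizer ((cj g (U j) : Subgroup G) : Set G) := by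
  classical
  -- a pair which does not commute
  have hex : ∃ n : ℕ, ∃ l : List G, l.length = n ∧ (∀ x ∈ l, ∃ j, x ∈ H j) ∧ ∃ i j,
      ¬ U i ≤ centralizer ((cj l.prod (U j) : Subgroup G) : Set G) := by
    by_contra hcon
    push Not at hcon
    let L : Subgroup G := ⨆ i, H i
    have hword : ∀ g ∈ L, ∃ l : List G, (∀ x ∈ l, ∃ j, x ∈ H j) ∧ l.prod = g := by
      intro g hg
      refine Subgroup.iSup_induction H (C := fun g => ∃ l : List G, (∀ x ∈ l, ∃ j, x ∈ H j) ∧ l.prod = g) hg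
        ?_ ?_ ?_
      · intro i x hx
        exact ⟨[x], by simpa using ⟨i, hx⟩, by simp⟩
      · exact ⟨[], by simp, by simp⟩
      · rintro x y ⟨l, hl, rfl⟩ ⟨l', hl', rfl⟩
        refine ⟨l ++ l', ?_, by simp⟩
        intro z hz
        rcases List.mem_append.1 hz with h1 | h1
        · exact hl z h1
        · exact hl' z h1
    have hcomm : ∀ g ∈ L, ∀ i j, U i ≤ centralizer ((cj g (U j) : Subgroup G) : Set G) := by
      intro g hg i j
      obtain ⟨l, hl, rfl⟩ := hword g hg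
      exact hcon _ l rfl hl i j
    let R : Subgroup G := ⨆ p : L × ι, cj (p.1 : G) (U p.2)
    have hRc : ∀ p q : L × ι, cj (p.1 : G) (U p.2) ≤
        centralizer ((cj (q.1 : G) (U q.2) : Subgroup G) : Set G) := by
      intro p q
      have h1 := cj_mono (p.1 : G) (hcomm ((p.1 : G)⁻¹ * q.1) (mul_mem (inv_mem p.1.2) q.1.2) p.2 q.2)
      rwa [cj_centralizer, cj_cj, mul_inv_cancel_left] at h1
    have hR2 : IsPGroup 2 R := by
      have hall : ∀ x ∈ R, ∃ k : ℕ, x ^ 2 ^ k = 1 ∧ x ∈ R := by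
        intro x hx
        refine Subgroup.iSup_induction (fun p : L × ι => cj (p.1 : G) (U p.2))
          (C := fun x => ∃ k : ℕ, x ^ 2 ^ k = 1 ∧ x ∈ R) hx ?_ ?_ ?_
        · intro p x hx
          obtain ⟨k, hk⟩ := (IsPGroup.map (h.two p.2) (MulAut.conj (p.1 : G)).toMonoidHom) ⟨x, hx⟩
          have hk' := congrArg Subtype.val hk
          rw [SubmonoidClass.coe_pow] at hk'
          exact ⟨k, hk', mem_iSup_of_mem p hx⟩
        · exact ⟨0, by simp, one_mem _⟩
        · rintro x y ⟨k, hk, hx'⟩ ⟨m, hm, hy'⟩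
          refine ⟨k + m, ?_, mul_mem hx' hy'⟩
          have hRR : R ≤ centralizer (R : Set G) := by
            refine iSup_le fun p => ?_
            intro a ha
            have h2 : R ≤ centralizer ({a} : Set G) := by
              refine iSup_le fun q => ?_
              intro b hb
              exact mem_centralizer_iff.2 fun z hz => by
                rw [Set.mem_singleton_iff.1 hz]; exact (mem_centralizer_iff.1 (hRc p q ha) b hb).symm
            exact mem_centralizer_iff.2 fun b hb => (mem_centralizer_iff.1 (h2 hb) a rfl).symm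
          have hxy : Commute x y := (mem_centralizer_iff.1 (hRR hx') y hy').symm
          rw [hxy.mul_pow, pow_add, pow_mul, hk, one_pow, mul_comm (2 ^ k), pow_mul, hm, one_pow, mul_one]
      intro x
      obtain ⟨k, hk, -⟩ := hall x x.2
      exact ⟨k, Subtype.ext (by simpa using hk)⟩
    obtain ⟨i₀, hi₀⟩ := hU
    have hne : R ≠ ⊥ := by
      intro h0
      refine hi₀ (eq_bot_iff.2 ?_)
      rw [← h0]
      have h1 := le_iSup (fun p : L × ι => cj (p.1 : G) (U p.2)) (1, i₀)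
      simpa only [OneMemClass.coe_one, cj_one] using h1
    refine hL R hR2 hne fun i x hx => ?_
    rw [mem_normalizer_iff_cj]
    have key : ∀ y ∈ L, cj y R ≤ R := by
      intro y hy
      rw [cj_iSup]
      refine iSup_le fun p => ?_
      rw [cj_cj]
      exact le_iSup (fun p : L × ι => cj (p.1 : G) (U p.2)) (⟨y, hy⟩ * p.1, p.2)
    have hxL : x ∈ L := mem_iSup_of_mem i hx
    refine le_antisymm (key x hxL) ?_
    have h2 := cj_mono x (key x⁻¹ (inv_mem hxL))
    rwa [cj_cj_inv] at h2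
  obtain ⟨l, hlen, hl, i, j, hij⟩ := Nat.find_spec hex
  have hmin : ∀ l' : List G, (∀ x ∈ l', ∃ j, x ∈ H j) → l'.length < l.length → ∀ i j,
      U i ≤ centralizer ((cj l'.prod (U j) : Subgroup G) : Set G) := by
    intro l' h' h'' i j
    by_contra hne
    exact Nat.find_min hex (m := l'.length) (by omega) ⟨l', rfl, h', i, j, hne⟩
  refine ⟨i, j, l.prod, h.fwd i l hl fun l' h' h'' k => hmin l' h' h'' i k, ?_, hij⟩
  -- backwards
  have hr : ∀ x ∈ (l.map fun x => x⁻¹).reverse, ∃ j, x ∈ H j := by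
    intro x hx
    rw [List.mem_reverse, List.mem_map] at hx
    obtain ⟨y, hy, rfl⟩ := hx
    obtain ⟨k, hk⟩ := hl y hy
    exact ⟨k, inv_mem hk⟩
  have hb := h.fwd j (l.map fun x => x⁻¹).reverse hr fun l' h' h'' k =>
    hmin l' h' (by simpa using h'') j k
  rw [← List.prod_inv_reverse] at hb
  have h3 := cj_mono l.prod hb
  rwa [cj_cj_inv] at h3

/-- **The end.** -/
theorem close (ti : ∀ t ∈ V, t ≠ 1 → ∀ c ∈ centralizer ({t} : Set G),
      V ≤ centralizer ((cj c V : Subgroup G) : Set G))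
    (line : ∀ t ∈ V, t ≠ 1 → ∀ g : G, t ∈ cj g V → ∃ c ∈ centralizer ({t} : Set G), c⁻¹ * g ∈ M)
    {i j : ι} {g : G} (hne : ¬ U i ≤ centralizer ((cj g (U j) : Subgroup G) : Set G)) {t : G} (ht : t ∈ V)
    (ht' : t ∈ cj g V) (ht1 : t ≠ 1) (hi : U i ≤ wt V t) (hj : U j ≤ wt V t) : False := by
  obtain ⟨c, hc, hm⟩ := line t ht ht1 g ht'
  have e : g = c * (c⁻¹ * g) := by group
  have h1 : cj g (U j) ≤ wt V t := by
    rw [e, ← cj_cj, cj_eq_of_mem_normalizer (h.HU j (h.MH j hm)), ← cj_wt hc]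
    exact cj_mono c hj
  have h2 := wt_comm (ti t ht ht1)
  exact hne fun x hx => mem_centralizer_iff.2 fun y hy => mem_centralizer_iff.1 (h2 (hi hx)) y (h1 hy)

/-- **(R2*)** (helper167, #17628 (2)). `WZ = ⟨V^{C_G(Z)}⟩`. -/
theorem rtwo_star (hU : ∃ i, U i ≠ ⊥)
    (hL : ∀ R : Subgroup G, IsPGroup 2 R → R ≠ ⊥ → (∀ i, H i ≤ normalizer (R : Set G)) → False)
    (ti : ∀ t ∈ V, t ≠ 1 → ∀ c ∈ centralizer ({t} : Set G),
      V ≤ centralizer ((cj c V : Subgroup G) : Set G))
    (line : ∀ t ∈ V, t ≠ 1 → ∀ g : G, t ∈ cj g V → ∃ c ∈ centralizer ({t} : Set G), c⁻¹ * g ∈ M)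
    (hB : ∀ i, ⁅U i, W⁆ ≤ V) {WZ : Subgroup G} (hZ : ∀ i, U i ≤ WZ) (hZc : WZ ≤ centralizer (WZ : Set G))
    (hZn : centralizer (V : Set G) ≤ normalizer (WZ : Set G))
    (hlam : ∀ c ∈ normalizer (V : Set G), ∃ c' ∈ centralizer (V : Set G), c'⁻¹ * c ∈ M)
    (hA : ∀ t ∈ V, t ≠ 1 → centralizer ({t} : Set G) ≤ normalizer (V : Set G) ∨ ∀ i, U i ≤ wt V t) :
    False := by
  obtain ⟨i, j, g, h1, h2, hne⟩ := h.crit hU hL
  set D := ⁅U i, cj g (U j)⁆ with hD
  have hDV : D ≤ V := (commutator_mono le_rfl h2).trans (hB i)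
  have hDV' : D ≤ cj g V := by
    have h3 : D ≤ ⁅cj g (U j), cj g W⁆ := by
      rw [hD, commutator_comm]
      exact commutator_mono le_rfl h1
    refine h3.trans ?_
    rw [cj, cj, ← Subgroup.map_commutator]
    exact cj_mono g (hB j)
  have hDne : D ≠ ⊥ := fun h0 => hne (commutator_eq_bot_iff_le_centralizer.1 h0)
  obtain ⟨t, ht, ht1⟩ := exists_ne_one hDne
  rcases hA t (hDV ht) ht1 with h3 | h3
  · obtain ⟨c, hc, hm⟩ := line t (hDV ht) ht1 g (hDV' ht)
    obtain ⟨c', hc', hm'⟩ := hlam c (h3 hc)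
    have hm2 : c'⁻¹ * g ∈ M := by
      have e : c'⁻¹ * g = (c'⁻¹ * c) * (c⁻¹ * g) := by group
      rw [e]
      exact mul_mem hm' hm
    have e : g = c' * (c'⁻¹ * g) := by group
    have h4 : cj g (U j) ≤ WZ := by
      rw [e, ← cj_cj, cj_eq_of_mem_normalizer (h.HU j (h.MH j hm2)), ← cj_eq_of_mem_normalizer (hZn hc')]
      exact cj_mono c' (hZ j)
    exact hne fun x hx => mem_centralizer_iff.2 fun y hy => mem_centralizer_iff.1 (hZc (hZ i hx)) y (h4 hy)
  · exact h.close ti line hne (hDV ht) (hDV' ht) ht1 (h3 i) (h3 j)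

end Fam

/-- `line` from weak closure. -/
theorem line_of_wc [Finite G] {S : Sylow 2 G} {M W V : Subgroup G} (hWS : W ≤ (S : Subgroup G))
    (hwc : ∀ g : G, cj g W ≤ (S : Subgroup G) → cj g W = W) (hM : normalizer (W : Set G) ≤ M)
    (WV : W ≤ centralizer (V : Set G)) : ∀ t ∈ V, t ≠ 1 → ∀ g : G, t ∈ cj g V →
      ∃ c ∈ centralizer ({t} : Set G), c⁻¹ * g ∈ M := by
  intro t ht _ g hg
  have : Fact (Nat.Prime 2) := ⟨Nat.prime_two⟩
  have hW2 : IsPGroup 2 W := S.isPGroup'.to_le hWS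
  set C := centralizer ({t} : Set G) with hC
  have h1 : W ≤ C := WV.trans (centralizer_le (Set.singleton_subset_iff.2 ht))
  have h2 : cj g W ≤ C := by
    have h3 := cj_mono g WV
    rw [cj_centralizer] at h3
    exact h3.trans (centralizer_le (Set.singleton_subset_iff.2 hg))
  have p1 : IsPGroup 2 (W.subgroupOf C) := hW2.comap_of_injective _ (subtype_injective C)
  have p2 : IsPGroup 2 ((cj g W).subgroupOf C) :=
    (IsPGroup.map hW2 (MulAut.conj g).toMonoidHom).comap_of_injective _ (subtype_injective C)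
  obtain ⟨Q, hQ⟩ := p1.exists_le_sylow
  obtain ⟨R, hR⟩ := p2.exists_le_sylow
  obtain ⟨c, hc⟩ := MulAction.exists_smul_eq C R Q
  -- `Q` in a Sylow subgroup of `G`
  have p3 : IsPGroup 2 ((Q : Subgroup C).map C.subtype) := IsPGroup.map Q.isPGroup' _
  obtain ⟨T, hT⟩ := p3.exists_le_sylow
  obtain ⟨k, hk⟩ := MulAction.exists_smul_eq G T S
  have e1 : W ≤ (T : Subgroup G) := fun x hx => hT ⟨⟨x, h1 hx⟩, hQ (mem_subgroupOf.2 hx), rfl⟩
  have e2 : cj (c : G) (cj g W) ≤ (T : Subgroup G) := by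
    intro x hx
    rw [mem_cj] at hx
    have hx' : (⟨(c : G)⁻¹ * x * c, h2 hx⟩ : C) ∈ (R : Subgroup C) := hR (mem_subgroupOf.2 hx)
    have h3 : c * ⟨(c : G)⁻¹ * x * c, h2 hx⟩ * c⁻¹ ∈ (Q : Subgroup C) := by
      rw [← hc]
      exact ⟨_, hx', rfl⟩
    refine hT ⟨_, h3, ?_⟩
    change (c : G) * ((c : G)⁻¹ * x * c) * (c : G)⁻¹ = x
    group
  have e3 : ∀ X : Subgroup G, X ≤ (T : Subgroup G) → cj k X ≤ (S : Subgroup G) := by
    intro X hX
    rw [← hk]
    exact cj_mono k hX
  have k1 : k ∈ normalizer (W : Set G) := mem_normalizer_iff_cj.2 (hwc k (e3 _ e1))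
  have k2 : k * (c * g) ∈ normalizer (W : Set G) := by
    refine mem_normalizer_iff_cj.2 (hwc _ ?_)
    have h3 := e3 _ e2
    rwa [cj_cj, cj_cj, mul_assoc] at h3
  refine ⟨(c : G)⁻¹, inv_mem c.2, ?_⟩
  have h3 := mul_mem (inv_mem k1) k2
  rw [inv_mul_cancel_left] at h3
  rw [inv_inv]
  exact hM h3

/-! ### Blocks -/

theorem relIndex_cj (g : G) (H K : Subgroup G) : (cj g H).relIndex (cj g K) = H.relIndex K :=
  relIndex_map_map_of_injective H K (MulAut.conj g).injective

/-- A 2-group normalising a 2-group `Y ≠ 1` fixes an element `≠ 1` of `Y`. -/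
theorem exists_fix [Finite G] {T Y : Subgroup G} (hT : IsPGroup 2 T) (hY : IsPGroup 2 Y) (hne : Y ≠ ⊥)
    (hn : T ≤ normalizer (Y : Set G)) : ∃ y ∈ Y, y ≠ 1 ∧ y ∈ centralizer (T : Set G) := by
  have : Fact (Nat.Prime 2) := ⟨Nat.prime_two⟩
  let a : MulAction T Y :=
    { smul := fun t y => ⟨t * y * (t : G)⁻¹, (mem_normalizer_iff.1 (hn t.2) y).1 y.2⟩
      one_smul := fun y => Subtype.ext (by change ((1 : T) : G) * y * ((1 : T) : G)⁻¹ = y; simp)
      mul_smul := fun s t y => Subtype.ext (by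
        change ((s * t : T) : G) * y * ((s * t : T) : G)⁻¹ = s * (t * y * (t : G)⁻¹) * (s : G)⁻¹
        rw [Subgroup.coe_mul]; group) }
  have hd : 2 ∣ Nat.card Y := by
    obtain ⟨n, hn⟩ := IsPGroup.iff_card.1 hY
    rcases Nat.eq_zero_or_pos n with h0 | h0
    · exact absurd (Subgroup.card_eq_one.1 (by rw [hn, h0, pow_zero])) hne
    · rw [hn]; exact dvd_pow_self 2 h0.ne'
  have h1 : (1 : Y) ∈ MulAction.fixedPoints T Y := by
    rw [MulAction.mem_fixedPoints]
    intro t
    exact Subtype.ext (by change (t : G) * ((1 : Y) : G) * (t : G)⁻¹ = ((1 : Y) : G); simp)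
  obtain ⟨b, hb, hb1⟩ := hT.exists_fixed_point_of_prime_dvd_card_of_fixed_point Y hd h1
  refine ⟨b, b.2, fun h0 => hb1 (Subtype.ext h0.symm), mem_centralizer_iff.2 fun t ht => ?_⟩
  have h2 : t * (b : G) * t⁻¹ = b := congrArg Subtype.val ((MulAction.mem_fixedPoints.1 hb) ⟨t, ht⟩)
  calc t * (b : G) = t * b * t⁻¹ * t := by group
    _ = b * t := by rw [h2]

/-- Equal relative indices: `W = A (W ∩ C)`. -/
theorem exists_mul_of_relIndex [Finite G] {A W C : Subgroup G} (hA : A ≤ W)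
    (he : C.relIndex W ≤ C.relIndex A) : ∀ w ∈ W, ∃ a ∈ A, a⁻¹ * w ∈ C := by
  intro w hw
  have h1 : Nat.card (W ⧸ C.subgroupOf W) ≤ Nat.card (A ⧸ C.subgroupOf A) := he
  have h2 := (quotientSubgroupOfEmbeddingOfLE C hA).injective.bijective_of_nat_card_le h1
  obtain ⟨x, hx⟩ := h2.2 (QuotientGroup.mk ⟨w, hw⟩)
  obtain ⟨a, rfl⟩ := QuotientGroup.mk_surjective x
  rw [quotientSubgroupOfEmbeddingOfLE_apply_mk, QuotientGroup.eq] at hx
  exact ⟨a, a.2, mem_subgroupOf.1 hx⟩

/-- The blocks of `U`: `U = ⊕ B j`. -/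
structure Blocks {κ : Type w} (W V U : Subgroup G) (B : κ → Subgroup G) : Prop where
  le : ∀ j, B j ≤ U
  sup : U ≤ ⨆ j, B j
  ind : iSupIndep B
  Wn : ∀ j, W ≤ normalizer (B j : Set G)
  cen : ∀ a ∈ W, ∀ j, (∃ u ∈ B j, u * a ≠ a * u) → ∀ x ∈ B j, x * a = a * x → x ∈ V
  cnt : ∀ j, (centralizer (B j : Set G)).relIndex W ≤ V.relIndex (B j)

namespace Blocks

variable {κ : Type w} [Fintype κ] {W V U : Subgroup G} {B : κ → Subgroup G} (h : Blocks W V U B)
include h

open scoped Classical in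
/-- The blocks moved by `A`. -/
noncomputable def mv (_ : Blocks W V U B) (A : Subgroup G) : Finset κ :=
  Finset.univ.filter fun j => ¬ A ≤ centralizer (B j : Set G)

theorem mem_mv {A : Subgroup G} {j : κ} : j ∈ h.mv A ↔ ¬ A ≤ centralizer (B j : Set G) := by
  classical
  unfold mv
  rw [Finset.mem_filter]
  simp

theorem exists_mv {A : Subgroup G} (hne : ¬ A ≤ centralizer (U : Set G)) : ∃ j, j ∈ h.mv A := by
  by_contra hc
  push Not at hc
  refine hne fun a ha => mem_centralizer_iff.2 fun u hu => ?_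
  have h1 : (⨆ j, B j) ≤ centralizer ({a} : Set G) := iSup_le fun j b hb =>
    mem_centralizer_iff.2 fun y hy => by
      have h2 := not_not.1 (fun h3 => hc j (h.mem_mv.2 h3))
      rw [Set.mem_singleton_iff.1 hy]
      exact (mem_centralizer_iff.1 (h2 ha) b hb).symm
  exact (mem_centralizer_iff.1 (h1 (h.sup hu)) a rfl).symm

theorem upper [Finite G] (A : Subgroup G) :
    (centralizer (U : Set G)).relIndex A ≤ ∏ j ∈ h.mv A, (centralizer (B j : Set G)).relIndex A := by
  classical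
  have e : (⨅ j, centralizer (B j : Set G)) ≤ centralizer (U : Set G) := by
    intro x hx
    refine mem_centralizer_iff.2 fun u hu => ?_
    have h1 : (⨆ j, B j) ≤ centralizer ({x} : Set G) := iSup_le fun j b hb =>
      mem_centralizer_iff.2 fun y hy => by
        rw [Set.mem_singleton_iff.1 hy]
        exact (mem_centralizer_iff.1 ((mem_iInf.1 hx) j) b hb).symm
    exact (mem_centralizer_iff.1 (h1 (h.sup hu)) x rfl).symm
  calc (centralizer (U : Set G)).relIndex A ≤ (⨅ j, centralizer (B j : Set G)).relIndex A :=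
        relIndex_le_of_le_left e FiniteIndex.index_ne_zero
    _ ≤ ∏ j, (centralizer (B j : Set G)).relIndex A := relIndex_iInf_le _
    _ = ∏ j ∈ h.mv A, (centralizer (B j : Set G)).relIndex A := by
        refine (Finset.prod_subset (Finset.subset_univ _) fun j _ hj => ?_).symm
        rw [h.mem_mv, not_not] at hj
        exact relIndex_eq_one.2 hj

theorem lower [Finite G] (hU : U ≤ centralizer (U : Set G)) {A : Subgroup G} (hA : A ≤ W) :
    ∏ j ∈ h.mv A, V.relIndex (B j) ≤ (centralizer (A : Set G)).relIndex U := by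
  classical
  have hcomm : Pairwise fun i j : κ => ∀ (x : B i) (y : B j), Commute ((B i).subtype x) ((B j).subtype y) :=
    fun i j _ x y => (mem_centralizer_iff.1 (hU (h.le i x.2)) y (h.le j y.2)).symm
  set f : (∀ j, B j) →* G := MonoidHom.noncommPiCoprod (fun i => (B i).subtype) hcomm with hf
  have hinj : Function.Injective f := by
    have hi : iSupIndep fun j => ((B j).subtype).range := by simpa only [range_subtype] using h.ind
    exact MonoidHom.injective_noncommPiCoprod_of_iSupIndep _ hi fun i => Subtype.coe_injective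
  have hran : f.range = U := by
    rw [hf, MonoidHom.noncommPiCoprod_range]
    simp only [range_subtype]
    exact le_antisymm (iSup_le h.le) h.sup
  -- `f` and conjugation
  have hconj : ∀ a ∈ W, ∀ x : ∀ j, B j, a * f x * a⁻¹ = f x → ∀ j, a * ((x j : B j) : G) * a⁻¹ = x j := by
    intro a ha x hx j
    have hn : ∀ i, a * ((x i : B i) : G) * a⁻¹ ∈ B i := fun i => (mem_normalizer_iff.1 (h.Wn i ha) _).1 (x i).2
    let x' : ∀ j, B j := fun i => ⟨a * ((x i : B i) : G) * a⁻¹, hn i⟩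
    have e : f x' = a * f x * a⁻¹ := by
      have h1 : (MulAut.conj a) (f x) = f x' := by
        rw [hf, MonoidHom.noncommPiCoprod_apply, MonoidHom.noncommPiCoprod_apply, Finset.map_noncommProd]
        exact Finset.noncommProd_congr rfl (fun i _ => rfl) _
      rw [← h1, MulAut.conj_apply]
    have h2 : x' = x := hinj (e.trans hx)
    exact congrArg (fun y : ∀ j, B j => ((y j : B j) : G)) h2
  -- the moved blocks
  let K : Subgroup (∀ j, B j) :=
    { carrier := {x | ∀ j ∈ h.mv A, ((x j : B j) : G) ∈ V}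
      one_mem' := fun j _ => V.one_mem
      mul_mem' := fun {x y} hx hy j hj => V.mul_mem (hx j hj) (hy j hj)
      inv_mem' := fun {x} hx j hj => V.inv_mem (hx j hj) }
  have hK : ∏ j ∈ h.mv A, V.relIndex (B j) ≤ K.index := by
    let q : ((∀ j, B j) ⧸ K) → ∀ j : h.mv A, (B (j : κ) ⧸ V.subgroupOf (B (j : κ))) :=
      fun x j => QuotientGroup.mk (x.out (j : κ))
    have hq : Function.Surjective q := by
      intro y
      let x : ∀ j, B j := fun j => if hj : j ∈ h.mv A then (y ⟨j, hj⟩).out else 1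
      refine ⟨QuotientGroup.mk x, funext fun j => ?_⟩
      obtain ⟨k, hk⟩ := QuotientGroup.mk_out_eq_mul K x
      change QuotientGroup.mk ((QuotientGroup.mk x : (∀ j, B j) ⧸ K).out (j : κ)) = y j
      rw [hk]
      have e1 : x (j : κ) = (y j).out := by
        change (if hj : (j : κ) ∈ h.mv A then (y ⟨(j : κ), hj⟩).out else 1) = (y j).out
        rw [dif_pos j.2]
      rw [Pi.mul_apply, e1]
      have h1 : (QuotientGroup.mk ((y j).out * (k : ∀ j, B j) (j : κ)) : B (j : κ) ⧸ V.subgroupOf (B (j : κ))) =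
          QuotientGroup.mk ((y j).out) := by
        rw [QuotientGroup.mk_mul_of_mem]
        exact mem_subgroupOf.2 (k.2 (j : κ) j.2)
      rw [h1, QuotientGroup.out_eq']
    have h1 := Nat.card_le_card_of_surjective q hq
    rw [Nat.card_pi] at h1
    calc ∏ j ∈ h.mv A, V.relIndex (B j) = ∏ j : h.mv A, V.relIndex (B (j : κ)) :=
          (Finset.prod_coe_sort _ _).symm
      _ ≤ K.index := h1
  have hC : (centralizer (A : Set G)).comap f ≤ K := by
    intro x hx j hj
    rw [h.mem_mv] at hj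
    obtain ⟨a, ha, hna⟩ := SetLike.not_le_iff_exists.1 hj
    have h1 : ∃ u ∈ B j, u * a ≠ a * u := by
      by_contra hc
      push Not at hc
      exact hna (mem_centralizer_iff.2 fun u hu => hc u hu)
    have h2 : a * f x * a⁻¹ = f x := by
      rw [mem_centralizer_iff.1 (mem_comap.1 hx) a ha, mul_inv_cancel_right]
    have h3 := hconj a (hA ha) x h2 j
    refine h.cen a (hA ha) j h1 _ (x j).2 ?_
    calc ((x j : B j) : G) * a = a * ((x j : B j) : G) * a⁻¹ * a := by rw [h3]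
      _ = a * ((x j : B j) : G) := by group
  calc ∏ j ∈ h.mv A, V.relIndex (B j) ≤ K.index := hK
    _ ≤ ((centralizer (A : Set G)).comap f).index := index_antitone hC
    _ = (centralizer (A : Set G)).relIndex U := by rw [index_comap, hran]

/-- The count. -/
theorem card_le [Finite G] (hU : U ≤ centralizer (U : Set G)) {A : Subgroup G} (hA : A ≤ W) :
    (centralizer (U : Set G)).relIndex A ≤ (centralizer (A : Set G)).relIndex U :=
  calc (centralizer (U : Set G)).relIndex A ≤ ∏ j ∈ h.mv A, (centralizer (B j : Set G)).relIndex A := h.upper A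
    _ ≤ ∏ j ∈ h.mv A, (centralizer (B j : Set G)).relIndex W := Finset.prod_le_prod (fun _ _ => Nat.zero_le _)
        fun _ _ => relIndex_le_of_le_right hA FiniteIndex.index_ne_zero
    _ ≤ ∏ j ∈ h.mv A, V.relIndex (B j) := Finset.prod_le_prod (fun _ _ => Nat.zero_le _) fun j _ => h.cnt j
    _ ≤ _ := h.lower hU hA

/-- Equality in the count. -/
theorem eq [Finite G] (hU : U ≤ centralizer (U : Set G)) {A : Subgroup G} (hA : A ≤ W)
    (he : (centralizer (A : Set G)).relIndex U ≤ (centralizer (U : Set G)).relIndex A) {j : κ}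
    (hj : j ∈ h.mv A) : ∀ w ∈ W, ∃ a ∈ A, a⁻¹ * w ∈ centralizer (B j : Set G) := by
  refine exists_mul_of_relIndex hA ?_
  by_contra hlt
  rw [not_le] at hlt
  have h1 : ∏ j ∈ h.mv A, (centralizer (B j : Set G)).relIndex A <
      ∏ j ∈ h.mv A, (centralizer (B j : Set G)).relIndex W :=
    Finset.prod_lt_prod (fun i _ => Nat.pos_of_ne_zero FiniteIndex.index_ne_zero)
      (fun i _ => relIndex_le_of_le_right hA FiniteIndex.index_ne_zero) ⟨j, hj, hlt⟩
  have h2 : ∏ j ∈ h.mv A, (centralizer (B j : Set G)).relIndex W ≤ ∏ j ∈ h.mv A, V.relIndex (B j) :=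
    Finset.prod_le_prod (fun _ _ => Nat.zero_le _) fun j _ => h.cnt j
  exact absurd (h.upper A) (not_le.2 (h1.trans_le (h2.trans ((h.lower hU hA).trans he))))

omit [Fintype κ] in
/-- `[U, A] ≤ V`. -/
theorem comm_le (hU : U ≤ centralizer (U : Set G)) {A : Subgroup G} (hA : A ≤ W)
    (hAn : A ≤ normalizer (U : Set G)) (hq : ∀ u ∈ U, ∀ a ∈ A, ∀ b ∈ A, ⁅u, a⁆ * b = b * ⁅u, a⁆) :
    ⁅U, A⁆ ≤ V := by
  rw [commutator_le]
  intro u hu a ha
  -- the subgroup of all `u` with `[u, a] ∈ V`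
  let E : Subgroup G :=
    { carrier := {u | u ∈ U ∧ ⁅u, a⁆ ∈ V}
      one_mem' := ⟨U.one_mem, by rw [commutatorElement_one_left]; exact V.one_mem⟩
      mul_mem' := by
        rintro x y ⟨hx, hx'⟩ ⟨hy, hy'⟩
        refine ⟨U.mul_mem hx hy, ?_⟩
        have hy2 : ⁅y, a⁆ ∈ U := by
          rw [commutatorElement_def, mul_assoc, mul_assoc]
          have := (mem_normalizer_iff.1 (hAn ha) y⁻¹).1 (U.inv_mem hy)
          rw [mul_assoc] at this
          exact U.mul_mem hy this
        have e : ⁅x * y, a⁆ = ⁅y, a⁆ * ⁅x, a⁆ := by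
          have h1 : x * ⁅y, a⁆ = ⁅y, a⁆ * x := (mem_centralizer_iff.1 (hU hx) _ hy2).symm
          calc ⁅x * y, a⁆ = x * ⁅y, a⁆ * x⁻¹ * ⁅x, a⁆ := by simp only [commutatorElement_def]; group
            _ = ⁅y, a⁆ * ⁅x, a⁆ := by rw [h1, mul_inv_cancel_right]
        rw [e]
        exact V.mul_mem hy' hx'
      inv_mem' := by
        rintro x ⟨hx, hx'⟩
        refine ⟨U.inv_mem hx, ?_⟩
        have hx2 : ⁅x, a⁆ ∈ U := by
          rw [commutatorElement_def, mul_assoc, mul_assoc]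
          have := (mem_normalizer_iff.1 (hAn ha) x⁻¹).1 (U.inv_mem hx)
          rw [mul_assoc] at this
          exact U.mul_mem hx this
        have e : ⁅x⁻¹, a⁆ = ⁅x, a⁆⁻¹ := by
          have h1 : x * ⁅x, a⁆⁻¹ = ⁅x, a⁆⁻¹ * x :=
            (mem_centralizer_iff.1 (hU hx) _ (U.inv_mem hx2)).symm
          calc ⁅x⁻¹, a⁆ = x⁻¹ * (⁅x, a⁆⁻¹ * x) := by simp only [commutatorElement_def]; group
            _ = ⁅x, a⁆⁻¹ := by rw [← h1, inv_mul_cancel_left]
        rw [e]
        exact V.inv_mem hx' }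
  have h1 : (⨆ j, B j) ≤ E := by
    refine iSup_le fun j b hb => ⟨h.le j hb, ?_⟩
    by_cases hba : b * a = a * b
    · have : ⁅b, a⁆ = 1 := commutatorElement_eq_one_iff_mul_comm.2 hba
      rw [this]
      exact V.one_mem
    · refine h.cen a (hA ha) j ⟨b, hb, hba⟩ _ ?_ (hq b (h.le j hb) a ha a ha)
      rw [commutatorElement_def, mul_assoc, mul_assoc]
      have := (mem_normalizer_iff.1 (h.Wn j (hA ha)) b⁻¹).1 ((B j).inv_mem hb)
      rw [mul_assoc] at this
      exact (B j).mul_mem hb this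
  exact (h1 (h.sup hu)).2

end Blocks

/-- **(R2w')** (#17732, helper282). -/
theorem Fam.rtwo_w [Finite G] {ι : Type v} {M W V : Subgroup G} {H U : ι → Subgroup G} (h : Fam M W V H U)
    (hU : ∃ i, U i ≠ ⊥)
    (hL : ∀ R : Subgroup G, IsPGroup 2 R → R ≠ ⊥ → (∀ i, H i ≤ normalizer (R : Set G)) → False)
    (ti : ∀ t ∈ V, t ≠ 1 → ∀ c ∈ centralizer ({t} : Set G),
      V ≤ centralizer ((cj c V : Subgroup G) : Set G))
    (line : ∀ t ∈ V, t ≠ 1 → ∀ g : G, t ∈ cj g V → ∃ c ∈ centralizer ({t} : Set G), c⁻¹ * g ∈ M)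
    {κ : ι → Type w} [∀ i, Fintype (κ i)] (B : ∀ i, κ i → Subgroup G) (hB : ∀ i, Blocks W V (U i) (B i))
    {S : Subgroup G} (hS : IsPGroup 2 S) (hSM : S ≤ M)
    (hA : ∀ i j, ∀ t ∈ B i j, t ∈ V → t ≠ 1 →
      t ∈ centralizer ((S ⊓ normalizer (B i j : Set G) : Subgroup G) : Set G) → ∀ i', U i' ≤ wt V t) :
    False := by
  obtain ⟨i, j, g, h1, h2, hne⟩ := h.crit hU hL
  set A := cj g (U j) with hAdef
  set A' := cj g⁻¹ (U i) with hA'def
  have hA'W : A' ≤ W := by
    have := cj_mono g⁻¹ h1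
    rwa [cj_inv_cj] at this
  have hWH : ∀ k, W ≤ H k := fun k => h.WM.trans (h.MH k)
  -- `U i` and `A` normalise each other
  have hn1 : A ≤ normalizer (U i : Set G) := h2.trans ((hWH i).trans (h.HU i))
  have hn2' : A' ≤ normalizer (U j : Set G) := hA'W.trans ((hWH j).trans (h.HU j))
  have hn2 : U i ≤ normalizer (A : Set G) := by
    have h3 := cj_mono g hn2'
    rwa [hA'def, cj_cj_inv, cj_normalizer] at h3
  have hAc : A ≤ centralizer (A : Set G) := by
    have := cj_mono g (h.comm j)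
    rwa [cj_centralizer] at this
  have hA'c : A' ≤ centralizer (A' : Set G) := by
    have := cj_mono g⁻¹ (h.comm i)
    rwa [cj_centralizer] at this
  -- commutators
  have hcA : ∀ u ∈ U i, ∀ a ∈ A, ⁅u, a⁆ ∈ A := fun u hu a ha => by
    rw [commutatorElement_def]
    exact mul_mem ((mem_normalizer_iff.1 (hn2 hu) a).1 ha) (inv_mem ha)
  have hcA' : ∀ u ∈ U j, ∀ a ∈ A', ⁅u, a⁆ ∈ A' := fun u hu a ha => by
    have hn3 : U j ≤ normalizer (A' : Set G) := by
      have h3 := cj_mono g⁻¹ hn1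
      rwa [hAdef, cj_inv_cj, cj_normalizer] at h3
    rw [commutatorElement_def]
    exact mul_mem ((mem_normalizer_iff.1 (hn3 hu) a).1 ha) (inv_mem ha)
  have hDV : ⁅U i, A⁆ ≤ V := (hB i).comm_le (h.comm i) h2 hn1 fun u hu a ha b hb =>
    (mem_centralizer_iff.1 (hAc (hcA u hu a ha)) b hb).symm
  have hDV' : ⁅U i, A⁆ ≤ cj g V := by
    have h3 : ⁅U j, A'⁆ ≤ V := (hB j).comm_le (h.comm j) hA'W hn2' fun u hu a ha b hb =>
      (mem_centralizer_iff.1 (hA'c (hcA' u hu a ha)) b hb).symm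
    have h4 := cj_mono g h3
    rw [cj, Subgroup.map_commutator] at h4
    have e : Subgroup.map (MulAut.conj g).toMonoidHom A' = U i := by
      have := cj_cj_inv g (U i)
      exact this
    rw [e, commutator_comm] at h4
    exact h4
  -- the count
  have c2 : (centralizer (A : Set G)).relIndex (U i) ≤ (centralizer (U i : Set G)).relIndex A := by
    have h3 := (hB j).card_le (h.comm j) hA'W
    rw [← relIndex_cj g (centralizer (U j : Set G)) A', ← relIndex_cj g (centralizer (A' : Set G)) (U j),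
      cj_centralizer, cj_centralizer, hA'def, cj_cj_inv] at h3
    exact h3
  have hne' : ¬ A ≤ centralizer (U i : Set G) := fun h3 => hne fun u hu =>
    mem_centralizer_iff.2 fun a ha => (mem_centralizer_iff.1 (h3 ha) u hu).symm
  obtain ⟨k, hk⟩ := (hB i).exists_mv hne'
  have hex := (hB i).eq (h.comm i) h2 c2 hk
  -- `[B, W] = [B, A]`
  have hBW : ⁅B i k, W⁆ ≤ ⁅B i k, A⁆ := by
    rw [commutator_le]
    intro b hb w hw
    obtain ⟨a, ha, hc⟩ := hex w hw
    have e : ⁅b, w⁆ = ⁅b, a⁆ := by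
      have h3 := mem_centralizer_iff.1 hc b hb
      have e1 : w = a * (a⁻¹ * w) := by group
      have e2 : (a⁻¹ * w) * b⁻¹ * (a⁻¹ * w)⁻¹ = b⁻¹ := by
        have h4 := mem_centralizer_iff.1 hc b⁻¹ (inv_mem hb)
        rw [← h4, mul_inv_cancel_right]
      calc ⁅b, w⁆ = b * a * ((a⁻¹ * w) * b⁻¹ * (a⁻¹ * w)⁻¹) * a⁻¹ := by
            rw [commutatorElement_def]; group
        _ = ⁅b, a⁆ := by rw [e2, commutatorElement_def]
    rw [e]
    exact commutator_mem_commutator hb ha
  have hBWU : ⁅B i k, W⁆ ≤ B i k := by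
    rw [commutator_le]
    intro b hb w hw
    rw [commutatorElement_def, mul_assoc, mul_assoc]
    have := (mem_normalizer_iff.1 ((hB i).Wn k hw) b⁻¹).1 ((B i k).inv_mem hb)
    rw [mul_assoc] at this
    exact mul_mem hb this
  have hne2 : ⁅B i k, W⁆ ≠ ⊥ := by
    intro h0
    rw [(hB i).mem_mv] at hk
    refine hk fun a ha => mem_centralizer_iff.2 fun b hb => ?_
    have h3 : ⁅b, a⁆ ∈ ⁅B i k, W⁆ := commutator_mem_commutator hb (h2 ha)
    rw [h0, mem_bot] at h3
    exact commutatorElement_eq_one_iff_mul_comm.1 h3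
  have hn4 : S ⊓ normalizer (B i k : Set G) ≤ normalizer ((⁅B i k, W⁆ : Subgroup G) : Set G) := by
    intro s hs
    rw [mem_normalizer_iff_cj, cj, Subgroup.map_commutator]
    have e1 := cj_eq_of_mem_normalizer (mem_inf.1 hs).2
    have e2 := cj_eq_of_mem_normalizer (h.MW (hSM (mem_inf.1 hs).1))
    rw [cj] at e1 e2
    rw [e1, e2]
  obtain ⟨t, ht, ht1, htc⟩ := exists_fix (hS.to_le inf_le_left)
    ((h.two i).to_le (hBWU.trans ((hB i).le k))) hne2 hn4
  have htD : t ∈ ⁅U i, A⁆ := commutator_mono ((hB i).le k) le_rfl (hBW ht)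
  have hw := hA i k t (hBWU ht) (hDV htD) ht1 htc
  exact h.close ti line hne (hDV htD) (hDV' htD) ht1 (hw i) (hw j)

end Cfsg.Agent.Omega.NO3b.LocEndW
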