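import Cfsg.Agent.Omega.NO3b.Ineq

/-!
# NO-3S, `V` not FF: one-sided pairs (helper729, #12782)

`V` is an abelian subgroup, `V₀ ≤ V` normalises every member of the family `𝓛` of lines, `M` is the
join of `𝓛`, `M` is abelian; `a = |V : V₀|`.

* `exists_line` : if `V` is not an FF-module for `M` and `a ≤ |M : C_M(V)|`, then `V₀` moves some
  line; `mu_le` : for `v ∈ V₀`, `|L : C_L(v)| ≤ |L : C_L(V)|`.  So `MU ≤ LAM`: `false_of_lt`.
* `Data.card_comm`, `Data.cidx_eq` : the inequalities (2), `U ≤ M`, `C₀ ≤ U`,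
  `a |[V₀, U]| ≤ |[V, U]|` and `|V : C_V(U)| = a |V₀ : C_{V₀}(U)|`.
* `Data.false_of_nums` : the numerical contradiction which kills `N + N*` for `L₃(q).2` and
  `O₄⁻(q)`, `q ≥ 4` (`false_lthree`, `false_ominus`).
-/

set_option autoImplicit false

namespace Cfsg.Agent.Omega.NO3b.OneSided

open Subgroup Cfsg.Agent.Omega.NO3b.Ineq

variable {G : Type*} [Group G]

/-- `|U : C_U(v)| ≤ |R|` if all the commutators `[v, u]`, `u ∈ U`, are in `R`. -/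
theorem cidx_zpowers_le [Finite G] {U R : Subgroup G} {v : G}
    (h : ∀ u ∈ U, v * u * v⁻¹ * u⁻¹ ∈ R) : cidx U (zpowers v) ≤ Nat.card R := by
  classical
  rw [cidx, Subgroup.relIndex, Subgroup.index]
  have hf : ∀ x y : U, v * (x : G) * v⁻¹ * (x : G)⁻¹ = v * (y : G) * v⁻¹ * (y : G)⁻¹ →
      x⁻¹ * y ∈ (centralizer ((zpowers v : Subgroup G) : Set G)).subgroupOf U := by
    intro x y hxy
    rw [Subgroup.mem_subgroupOf, Subgroup.mem_centralizer_iff]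
    intro w hw
    obtain ⟨k, rfl⟩ := Subgroup.mem_zpowers_iff.mp hw
    have h1 : v * ((x⁻¹ * y : U) : G) = ((x⁻¹ * y : U) : G) * v := by
      have h2 : (x : G) * v * (x : G)⁻¹ = (y : G) * v * (y : G)⁻¹ := by
        have h3 := congrArg (fun z => z⁻¹) hxy
        simp only [mul_inv_rev, inv_inv] at h3
        have h4 := congrArg (fun z => z * v) h3
        simp only [mul_assoc, inv_mul_cancel, mul_one] at h4
        simpa only [mul_assoc] using h4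
      have h5 : (x : G)⁻¹ * ((x : G) * v * (x : G)⁻¹) * y = (x : G)⁻¹ * ((y : G) * v * (y : G)⁻¹) * y := by
        rw [h2]
      push_cast
      calc v * ((x : G)⁻¹ * y) = (x : G)⁻¹ * ((x : G) * v * (x : G)⁻¹) * y := by group
        _ = (x : G)⁻¹ * ((y : G) * v * (y : G)⁻¹) * y := h5
        _ = (x : G)⁻¹ * y * v := by group
    exact ((Commute.zpow_left (h1 : Commute v _) k) : _)
  let f : U ⧸ (centralizer ((zpowers v : Subgroup G) : Set G)).subgroupOf U → R :=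
    fun c => ⟨v * (c.out : U) * v⁻¹ * ((c.out : U) : G)⁻¹, h _ (c.out : U).2⟩
  refine Nat.card_le_card_of_injective f ?_
  intro c d hcd
  have h1 := hf c.out d.out (congrArg Subtype.val hcd)
  rw [← c.out_eq', ← d.out_eq']
  exact QuotientGroup.eq.mpr h1

/-- (1), second half. -/
theorem mu_le [Finite G] {V L : Subgroup G} {v : G} (hv : v ∈ V) :
    cidx L (zpowers v) ≤ cidx L V := by
  rw [← cidx_inf L V, ← cidx_inf L (zpowers v)]
  exact Subgroup.relIndex_le_of_le_left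
    (inf_le_inf_left _ (Subgroup.centralizer_le (by
      exact_mod_cast (Subgroup.zpowers_le.mpr hv : zpowers v ≤ V)))) (rel_ne _ _)

/-- (1), first half: `V₀` moves some line. -/
theorem exists_line [Finite G] {V V₀ : Subgroup G} {𝓛 : Set (Subgroup G)} (hV₀ : V₀ ≤ V)
    (hff : cidx (sSup 𝓛) V < cidx V (sSup 𝓛)) (ha : V₀.relIndex V ≤ cidx (sSup 𝓛) V) :
    ∃ L ∈ 𝓛, ¬ V₀ ≤ centralizer (L : Set G) := by
  by_contra hcon
  push Not at hcon
  have h1 : V₀ ≤ centralizer ((sSup 𝓛 : Subgroup G) : Set G) := le_centralizer_sSup hcon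
  have h2 : cidx V (sSup 𝓛) ≤ V₀.relIndex V := by
    rw [← cidx_inf V]
    exact Subgroup.relIndex_le_of_le_left (le_inf hV₀ h1) (rel_ne _ _)
  omega

/-- **(1)**: `MU ≤ LAM`. -/
theorem false_of_lt [Finite G] {V V₀ : Subgroup G} {𝓛 : Set (Subgroup G)} {mu lam : ℕ}
    (hV₀ : V₀ ≤ V) (hff : cidx (sSup 𝓛) V < cidx V (sSup 𝓛))
    (ha : V₀.relIndex V ≤ cidx (sSup 𝓛) V)
    (hA : ∀ L ∈ 𝓛, ∀ v ∈ V₀, ¬ zpowers v ≤ centralizer (L : Set G) → mu ≤ cidx L (zpowers v))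
    (hB : ∀ L ∈ 𝓛, cidx L V ≤ lam) (hlt : lam < mu) : False := by
  obtain ⟨L, hL, hLV⟩ := exists_line hV₀ hff ha
  rw [SetLike.not_le_iff_exists] at hLV
  obtain ⟨v, hv, hvL⟩ := hLV
  have h1 := hA L hL v hv (fun h => hvL (h (mem_zpowers v)))
  have h2 := mu_le (L := L) (hV₀ hv)
  have h3 := hB L hL
  omega

/-- The setting of (2): `U ≤ M = ⟨𝓛⟩`, `C₀ ≤ U` (`U/C₀ = X` irreducible), `[V₀, U] ≤ C₀`,
`C_V(U) ≤ V₀`; `ov`: `V/V₀` is no over-offender on `X`, `ov'`: the same for the dual of `X`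
(`|[X, V]| ≥ |V/V₀|`). -/
structure Data (V V₀ U C₀ : Subgroup G) (𝓛 : Set (Subgroup G)) : Prop where
  V₀_le : V₀ ≤ V
  U_le : U ≤ sSup 𝓛
  comm : ⁅V₀, U⁆ ≤ C₀
  fix : V ⊓ centralizer (U : Set G) ≤ V₀
  ov : V₀.relIndex V ≤ cidx U V
  ov' : V₀.relIndex V ≤ C₀.relIndex ⁅V, U⁆

/-- `ov` from the module `U/C₀`: `F` is the preimage of `C_{U/C₀}(V)`. -/
theorem ov_of_fix [Finite G] {V U F : Subgroup G} {a : ℕ}
    (hF : U ⊓ centralizer (V : Set G) ≤ F) (ha : a ≤ F.relIndex U) : a ≤ cidx U V := by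
  refine ha.trans ?_
  rw [← cidx_inf U V]
  exact Subgroup.relIndex_le_of_le_left hF (rel_ne _ _)

namespace Data

variable {V V₀ U C₀ : Subgroup G} {𝓛 : Set (Subgroup G)}

/-- (2): `|V : C_V(U)| = |V : V₀| |V₀ : C_{V₀}(U)|`. -/
theorem cidx_eq (h : Data V V₀ U C₀ 𝓛) : cidx V U = V₀.relIndex V * cidx V₀ U :=
  cidx_chain h.V₀_le h.fix

/-- (2): `|V : V₀| |[V₀, U]| ≤ |[V, U]|`. -/
theorem card_comm [Finite G] (h : Data V V₀ U C₀ 𝓛) :
    V₀.relIndex V * Nat.card (⁅V₀, U⁆ : Subgroup G) ≤ Nat.card (⁅V, U⁆ : Subgroup G) := by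
  have h1 : (C₀ ⊓ ⁅V, U⁆).relIndex ⁅V, U⁆ * Nat.card (C₀ ⊓ ⁅V, U⁆ : Subgroup G) =
      Nat.card (⁅V, U⁆ : Subgroup G) := by
    rw [mul_comm, ← Subgroup.relIndex_bot_left, ← Subgroup.relIndex_bot_left]
    exact Subgroup.relIndex_mul_relIndex _ _ _ bot_le inf_le_right
  rw [Subgroup.inf_relIndex_right] at h1
  have h2 : ⁅V₀, U⁆ ≤ C₀ ⊓ ⁅V, U⁆ :=
    le_inf h.comm (Subgroup.commutator_mono h.V₀_le le_rfl)
  have h3 : Nat.card (⁅V₀, U⁆ : Subgroup G) ≤ Nat.card (C₀ ⊓ ⁅V, U⁆ : Subgroup G) :=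
    Subgroup.card_le_of_le h2
  rw [← h1]
  exact Nat.mul_le_mul h.ov' h3

/-- `|U : C_U(V)| ≤ |M : C_M(V)|`. -/
theorem cidx_U_le [Finite G] (h : Data V V₀ U C₀ 𝓛) : cidx U V ≤ cidx (sSup 𝓛) V :=
  cidx_mono_left h.U_le V

end Data

/-- if `|U : C_U(V)| = |M : C_M(V)|`, `U ≤ M`, then `M = U C_M(V)`. -/
theorem exists_of_eq [Finite G] {M V U : Subgroup G} (hU : U ≤ M) (heq : cidx M V ≤ cidx U V)
    {m : G} (hm : m ∈ M) : ∃ u ∈ U, u⁻¹ * m ∈ centralizer (V : Set G) := by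
  classical
  have hinj := (Subgroup.quotientSubgroupOfEmbeddingOfLE (centralizer (V : Set G)) hU).injective
  have hbij := (Nat.bijective_iff_injective_and_card
    (Subgroup.quotientSubgroupOfEmbeddingOfLE (centralizer (V : Set G)) hU)).mpr
    ⟨hinj, le_antisymm (Nat.card_le_card_of_injective _ hinj) heq⟩
  obtain ⟨x, hx⟩ := hbij.2 (QuotientGroup.mk (⟨m, hm⟩ : M))
  obtain ⟨u, rfl⟩ := QuotientGroup.mk_surjective x
  refine ⟨u, u.2, ?_⟩
  rw [Subgroup.quotientSubgroupOfEmbeddingOfLE_apply_mk, QuotientGroup.eq] at hx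
  exact hx

/-- if `|U : C_U(V)| = |M : C_M(V)|` then `|M : C_M(v)| ≤ |U : C_U(v)|` for `v ∈ V`. -/
theorem cidx_le_of_eq [Finite G] {M V U : Subgroup G} (hU : U ≤ M)
    (heq : cidx M V ≤ cidx U V) {v : G} (hv : v ∈ V) :
    cidx M (zpowers v) ≤ cidx U (zpowers v) := by
  classical
  set C := centralizer ((zpowers v : Subgroup G) : Set G) with hC
  have hle : centralizer (V : Set G) ≤ C := Subgroup.centralizer_le (by
    exact_mod_cast (Subgroup.zpowers_le.mpr hv : zpowers v ≤ V))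
  have hsurj : Function.Surjective (Subgroup.quotientSubgroupOfEmbeddingOfLE C hU) := by
    intro x
    obtain ⟨m, rfl⟩ := QuotientGroup.mk_surjective x
    obtain ⟨u, hu, hum⟩ := exists_of_eq hU heq m.2
    refine ⟨QuotientGroup.mk ⟨u, hu⟩, ?_⟩
    rw [Subgroup.quotientSubgroupOfEmbeddingOfLE_apply_mk, QuotientGroup.eq]
    exact hle hum
  exact Nat.card_le_card_of_surjective _ hsurj

/-- **(3), (5)**: the numerical contradiction.  `M = sSup 𝓛`;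
`hA` : an element of `V₀` which is not trivial on the line `L` has `|L : C_L(v)| ≥ mu`;
`hB` : `|D| ≤ lam`, `D = M/C_M(V)`; `hC` : `|V : C_V(L)| ≥ c` if `|L : C_L(V)| ≥ mu`;
`hD` : if `|L : C_L(V₀)| ≤ lam` then `V₀` induces on `L` a group of order at most `f`;
`hE` : `|[V, U]| ≤ s`. -/
theorem Data.false_of_nums [Finite G] {V V₀ U C₀ : Subgroup G} {𝓛 : Set (Subgroup G)}
    {mu lam c f s : ℕ} (h : Data V V₀ U C₀ 𝓛) (hff : cidx (sSup 𝓛) V < cidx V (sSup 𝓛))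
    (hA : ∀ L ∈ 𝓛, ∀ v ∈ V₀, ¬ zpowers v ≤ centralizer (L : Set G) → mu ≤ cidx L (zpowers v))
    (hB : cidx (sSup 𝓛) V ≤ lam)
    (hC : ∀ L ∈ 𝓛, mu ≤ cidx L V → c ≤ cidx V L)
    (hD : ∀ L ∈ 𝓛, cidx L V₀ ≤ lam → cidx V₀ L ≤ f)
    (hE : Nat.card (⁅V, U⁆ : Subgroup G) ≤ s)
    (h1 : lam * f ≤ c) (h2 : s < lam * mu) : False := by
  have hUM := h.cidx_U_le
  obtain ⟨L, hL, hLV⟩ := exists_line h.V₀_le hff (h.ov.trans hUM)
  rw [SetLike.not_le_iff_exists] at hLV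
  obtain ⟨v, hv, hvL⟩ := hLV
  have hmu := hA L hL v hv (fun hh => hvL (hh (mem_zpowers v)))
  have hLM : L ≤ sSup 𝓛 := le_sSup hL
  have k1 : cidx L (zpowers v) ≤ cidx L V := mu_le (h.V₀_le hv)
  have k2 : cidx L V ≤ cidx (sSup 𝓛) V := cidx_mono_left hLM V
  have k3 := hC L hL (hmu.trans k1)
  have k4 : cidx V L ≤ V₀.relIndex V * cidx V₀ L := by
    rw [← cidx_inf V₀ L, ← cidx_inf V L, mul_comm,
      Subgroup.relIndex_mul_relIndex _ _ _ inf_le_left h.V₀_le]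
    exact Subgroup.relIndex_le_of_le_left (inf_le_inf_right _ h.V₀_le) (rel_ne _ _)
  have k5 : cidx L V₀ ≤ cidx L V := by
    rw [← cidx_inf L V, ← cidx_inf L V₀]
    exact Subgroup.relIndex_le_of_le_left
      (inf_le_inf_left _ (Subgroup.centralizer_le (by exact_mod_cast h.V₀_le))) (rel_ne _ _)
  have k6 := hD L hL (k5.trans (k2.trans hB))
  have k7 : 0 < cidx V₀ L := cidx_pos _ _
  have hf : 0 < f := lt_of_lt_of_le k7 k6
  have k8 : lam * f ≤ V₀.relIndex V * f :=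
    h1.trans (k3.trans (k4.trans (Nat.mul_le_mul_left _ k6)))
  have k9 : lam ≤ V₀.relIndex V := Nat.le_of_mul_le_mul_right k8 hf
  have k10 : cidx (sSup 𝓛) V ≤ cidx U V := hB.trans (k9.trans h.ov)
  have k11 := cidx_le_of_eq h.U_le k10 (h.V₀_le hv)
  have k12 : cidx L (zpowers v) ≤ cidx (sSup 𝓛) (zpowers v) := cidx_mono_left hLM _
  have k13 : cidx U (zpowers v) ≤ Nat.card (⁅V₀, U⁆ : Subgroup G) :=
    cidx_zpowers_le fun u hu => Subgroup.commutator_mem_commutator hv hu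
  have k14 := h.card_comm
  have k15 : lam * mu ≤ s := by
    calc lam * mu ≤ V₀.relIndex V * Nat.card (⁅V₀, U⁆ : Subgroup G) :=
          Nat.mul_le_mul k9 (hmu.trans (k12.trans (k11.trans k13)))
      _ ≤ Nat.card (⁅V, U⁆ : Subgroup G) := k14
      _ ≤ s := hE
  omega

/-- (3): `N + N*` for `L₃(q).2`. -/
theorem Data.false_lthree [Finite G] {V V₀ U C₀ : Subgroup G} {𝓛 : Set (Subgroup G)}
    {q : ℕ} (hq : 2 ≤ q) (h : Data V V₀ U C₀ 𝓛) (hff : cidx (sSup 𝓛) V < cidx V (sSup 𝓛))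
    (hA : ∀ L ∈ 𝓛, ∀ v ∈ V₀, ¬ zpowers v ≤ centralizer (L : Set G) → q ^ 2 ≤ cidx L (zpowers v))
    (hB : cidx (sSup 𝓛) V ≤ q ^ 2)
    (hC : ∀ L ∈ 𝓛, q ^ 2 ≤ cidx L V → q ^ 3 ≤ cidx V L)
    (hD : ∀ L ∈ 𝓛, cidx L V₀ ≤ q ^ 2 → cidx V₀ L ≤ q)
    (hE : Nat.card (⁅V, U⁆ : Subgroup G) ≤ q ^ 3) : False := by
  refine h.false_of_nums hff hA hB hC hD hE (by rw [← pow_succ]) ?_
  rw [← pow_add]
  exact Nat.pow_lt_pow_right (by omega) (by norm_num)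

/-- (5): `O₄⁻(q)`, `q ≥ 4`, with orthogonal transvections (and `O₄⁺(q).2`). -/
theorem Data.false_ominus [Finite G] {V V₀ U C₀ : Subgroup G} {𝓛 : Set (Subgroup G)}
    {q : ℕ} (hq : 4 ≤ q) (h : Data V V₀ U C₀ 𝓛) (hff : cidx (sSup 𝓛) V < cidx V (sSup 𝓛))
    (hA : ∀ L ∈ 𝓛, ∀ v ∈ V₀, ¬ zpowers v ≤ centralizer (L : Set G) → q ≤ cidx L (zpowers v))
    (hB : cidx (sSup 𝓛) V ≤ 2 * q)
    (hC : ∀ L ∈ 𝓛, q ≤ cidx L V → q ^ 2 ≤ cidx V L)
    (hD : ∀ L ∈ 𝓛, cidx L V₀ ≤ 2 * q → cidx V₀ L ≤ 2)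
    (hE : Nat.card (⁅V, U⁆ : Subgroup G) ≤ q ^ 2) : False := by
  refine h.false_of_nums hff hA hB hC hD hE (by nlinarith) (by nlinarith)

end Cfsg.Agent.Omega.NO3b.OneSided
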