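import Cfsg.Agent.Omega.NO3b.EZeroBase
import Cfsg.Agent.Omega.NO3b.Dual
import Cfsg.Agent.Omega.NO3S.TwoOne.Four
import Cfsg.Agent.Omega.NO3S.NotFF.Basic
import Cfsg.Agent.LargeExtra.Red.SiegelE
import Cfsg.Agent.Involutions.BaerSuzuki
import Cfsg.Agent.Omega.NOne.LemmaT
import Cfsg.Agent.PLocal.OffenderStep

/-!
# THEOREM TI (helper58, #15611): lines which are not FF and meet nontrivially commute

* `mem_o2_of_conj` : Baer–Suzuki for involutions of a subgroup `X`;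
* `le_o2` : the core. `V` elementary abelian, not FF, `V ≤ X`, `X` of characteristic 2, `O₂(X) ≤ N(V)`,
  `D ≤ V` centralised by `X`, some `c ∈ V - D` centralised by `O₂(X)`, conjugates of `V` under `X` which do not
  commute meet in `D` only. Then `V ≤ O₂(X)`.
* `Lin V` : the hypotheses of THEOREM TI; `Lin.empty` : `V ≤ O₂(C_G(D))` for `1 ≠ D ≤ V`; `Lin.ti` : THEOREM TI;
  `Lin.le_o2`, `Lin.comm_of_le_o2` : COROLLARY (★); `Lin.of_syl` : `Lin V` from Sylow control.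
-/

set_option autoImplicit false

namespace Cfsg.Agent.Omega.NO3b.TI

open Subgroup Cfsg Cfsg.Agent.ZN Cfsg.Agent.ZN.ChoiceBase Cfsg.Agent.ZN.ChoiceSit
open Cfsg.Agent.Omega.NO3b.EZero
open Cfsg.Agent.MinSimple.EmptyTI (zc_cj)
open Cfsg.Agent.Omega.NO3S.NotFF (le_normalizer_of_forall conj_mem comm_mem_left)
open scoped commutatorElement

universe u

variable {G : Type u} [Group G]

/-- Baer–Suzuki for an involution of a subgroup. -/
theorem mem_o2_of_conj [Finite G] {X : Subgroup G} {v : G} (hv : v ∈ X) (hv2 : v * v = 1)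
    (h : ∀ g ∈ X, (v * (g * v * g⁻¹)) ^ 4 = 1) : v ∈ o2 X := by
  have hf : Fact (Nat.Prime 2) := ⟨Nat.prime_two⟩
  have key : (⟨v, hv⟩ : X) ∈ pCore 2 X := by
    refine Involutions.BaerSuzuki.mem_pCore_of_conj_pairs _ fun g => ?_
    refine LargeExtra.Red.SiegelE.isPGroup_pair (Subtype.ext hv2) (Subtype.ext ?_) (Subtype.ext ?_)
    · change (g : G) * v * (g : G)⁻¹ * ((g : G) * v * (g : G)⁻¹) = 1
      calc (g : G) * v * (g : G)⁻¹ * ((g : G) * v * (g : G)⁻¹) = g * (v * v) * (g : G)⁻¹ := by group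
        _ = 1 := by rw [hv2]; group
    · exact h g g.2
  exact mem_map_of_mem X.subtype key

/-- If `v ∈ V - O₂(X)` then `V^g`, `V^{gv}` do not commute for some `g ∈ X`. -/
theorem exists_not_comm [Finite G] {V X : Subgroup G} (hsq : ∀ v ∈ V, v ^ 2 = 1) (hVX : V ≤ X) {v : G}
    (hv : v ∈ V) (hvO : v ∉ o2 X) :
    ∃ g ∈ X, ¬ V ≤ centralizer ((cj (g⁻¹ * v * g) V : Subgroup G) : Set G) := by
  by_contra hcon
  push Not at hcon
  have hv2 : v * v = 1 := by rw [← pow_two]; exact hsq v hv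
  have hvi : v⁻¹ = v := inv_eq_of_mul_eq_one_left hv2
  refine hvO (mem_o2_of_conj (hVX hv) hv2 fun g hg => ?_)
  have h1 := hcon g hg
  -- `v` and `t v t⁻¹` commute, `t = g⁻¹ v g`
  have h2 := mem_centralizer_iff.1 (h1 hv) ((g⁻¹ * v * g) * v * (g⁻¹ * v * g)⁻¹) (mem_cj_self hv)
  set w := g * v * g⁻¹ with hw
  have hw2 : w * w = 1 := by
    calc w * w = g * (v * v) * g⁻¹ := by rw [hw]; group
      _ = 1 := by rw [hv2]; group
  have hc : v * w * v⁻¹ * w = w * (v * w * v⁻¹) := by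
    have e1 : g * ((g⁻¹ * v * g) * v * (g⁻¹ * v * g)⁻¹) * g⁻¹ = v * w * v⁻¹ := by rw [hw]; group
    have h3 := congrArg (fun x => g * x * g⁻¹) h2
    calc v * w * v⁻¹ * w = g * ((g⁻¹ * v * g) * v * (g⁻¹ * v * g)⁻¹ * v) * g⁻¹ := by rw [← e1, hw]; group
      _ = g * (v * ((g⁻¹ * v * g) * v * (g⁻¹ * v * g)⁻¹)) * g⁻¹ := h3
      _ = w * (v * w * v⁻¹) := by rw [← e1, hw]; group
  rw [hvi] at hc
  have e : (v * w) ^ 4 = (v * w * v * w) * (v * w * v * w) := by
    rw [show (4 : ℕ) = 2 * 2 from rfl, pow_mul, pow_two, pow_two]; group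
  rw [e]
  nth_rewrite 1 [hc]
  calc w * (v * w * v) * (v * w * v * w) = w * v * w * (v * v) * w * v * w := by group
    _ = w * v * (w * w) * v * w := by rw [hv2]; group
    _ = w * (v * v) * w := by rw [hw2]; group
    _ = 1 := by rw [hv2, mul_one, hw2]

/-- The heart of the matter: for `v ∈ V - O₂(X)` the commutator `[U, v]` is not contained in a subgroup `M` of
index 2 of `V ∩ U` which contains `D`. -/
theorem exists_comm_not_mem [Finite G] {V D X U M : Subgroup G} (hsq : ∀ v ∈ V, v ^ 2 = 1) (hVX : V ≤ X)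
    (hXU : X ≤ normalizer (U : Set G)) (hUc : U ≤ centralizer (U : Set G))
    (hXD : X ≤ centralizer (D : Set G)) (hDM : D ≤ M) (hMK : M ≤ V ⊓ U) (hM : M.relIndex (V ⊓ U) = 2)
    (hmax : ∀ g ∈ X, ¬ V ≤ centralizer ((cj g V : Subgroup G) : Set G) → V ⊓ cj g V ≤ D) {v : G} (hv : v ∈ V)
    (hvO : v ∉ o2 X) : ∃ u ∈ U, ⁅u, v⁆ ∉ M := by
  by_contra hcon
  push Not at hcon
  obtain ⟨g, hg, hgn⟩ := exists_not_comm hsq hVX hv hvO
  set t := g⁻¹ * v * g with ht
  have hgi := inv_mem hg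
  have htX : t ∈ X := mul_mem (mul_mem hgi (hVX hv)) hg
  have htV : t ∈ cj g⁻¹ V := by
    have := mem_cj_self (g := g⁻¹) hv
    rwa [inv_inv] at this
  have hinf := hmax t htX hgn
  have hD' : ∀ x ∈ X, ∀ d ∈ D, x * d * x⁻¹ = d := fun x hx d hd => by
    rw [← mem_centralizer_iff.1 (hXD hx) d hd, mul_inv_cancel_right]
  -- the homomorphism `a ↦ [a, t]`
  have hUt : ∀ a ∈ U, ⁅a, t⁆ ∈ U := fun a ha => comm_mem_left hXU htX ha
  let φ : ↥(V ⊓ U) →* G :=
    { toFun := fun a => ⁅(a : G), t⁆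
      map_one' := by rw [Subgroup.coe_one, commutatorElement_one_left]
      map_mul' := by
        intro a b
        have h1 : ⁅(a : G), t⁆ * ⁅(b : G), t⁆ = ⁅(b : G), t⁆ * ⁅(a : G), t⁆ :=
          (mem_centralizer_iff.1 (hUc (hUt _ b.2.2)) _ (hUt _ a.2.2))
        have h2 : (a : G) * ⁅(b : G), t⁆ = ⁅(b : G), t⁆ * a :=
          (mem_centralizer_iff.1 (hUc (hUt _ b.2.2)) _ a.2.2)
        rw [h1, Subgroup.coe_mul]
        calc ⁅(a : G) * b, t⁆ = (a * ⁅(b : G), t⁆ * (a : G)⁻¹) * ⁅(a : G), t⁆ := by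
              simp only [commutatorElement_def]; group
          _ = ⁅(b : G), t⁆ * ⁅(a : G), t⁆ := by rw [h2, mul_inv_cancel_right] }
  have hφ : ∀ a : ↥(V ⊓ U), φ a = ⁅(a : G), t⁆ := fun _ => rfl
  -- `[a, t] ∈ D` implies `a ∈ D`
  have hDV : D ≤ V := hDM.trans (hMK.trans inf_le_left)
  have hin : ∀ a : ↥(V ⊓ U), φ a ∈ D → (a : G) ∈ D := by
    intro a ha
    have haV : (a : G)⁻¹ ∈ V := V.inv_mem a.2.1
    have h1 : t * (a : G)⁻¹ * t⁻¹ ∈ V ⊓ cj t V := by
      refine ⟨?_, mem_cj_self haV⟩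
      have e : t * (a : G)⁻¹ * t⁻¹ = (a : G)⁻¹ * ⁅(a : G), t⁆ := by
        rw [commutatorElement_def]; group
      rw [e]
      exact mul_mem haV (hDV ha)
    have h2 := hinf h1
    have h3 := hD' _ (inv_mem htX) _ h2
    have e : t⁻¹ * (t * (a : G)⁻¹ * t⁻¹) * t⁻¹⁻¹ = (a : G)⁻¹ := by group
    rw [e] at h3
    rw [← h3] at h2
    exact inv_mem_iff.1 h2
  -- the range of `φ` lies in `M^{g⁻¹}`
  have hrM : φ.range ≤ cj g⁻¹ M := by
    rintro _ ⟨a, rfl⟩
    have h1 : ⁅g * (a : G) * g⁻¹, v⁆ ∈ M := hcon _ (conj_mem hXU hg a.2.2)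
    rw [mem_cj, inv_inv]
    have e : g * φ a * g⁻¹ = ⁅g * (a : G) * g⁻¹, v⁆ := by
      rw [hφ, ht, commutatorElement_def, commutatorElement_def]; group
    rwa [e]
  have hDM' : D ≤ cj g⁻¹ M := by
    intro d hd
    rw [mem_cj, inv_inv, hD' g hg d hd]
    exact hDM hd
  have hdis : φ.range ⊓ D ≤ ⊥ := by
    rintro x ⟨⟨a, rfl⟩, hx⟩
    have h1 := hin a hx
    rw [mem_bot, hφ, commutatorElement_eq_one_iff_mul_comm]
    exact mem_centralizer_iff.1 (hXD htX) _ h1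
  have hker : Nat.card φ.ker ≤ Nat.card D := by
    refine Nat.card_le_card_of_injective (fun a : φ.ker => (⟨(a : ↥(V ⊓ U)), hin a (by
      rw [show φ (a : ↥(V ⊓ U)) = 1 from a.2]; exact one_mem _)⟩ : D)) ?_
    intro a b hab
    have h1 : ((a : ↥(V ⊓ U)) : G) = ((b : ↥(V ⊓ U)) : G) := congrArg (fun x : D => (x : G)) hab
    exact Subtype.ext (Subtype.ext h1)
  have hprod : Nat.card φ.range * Nat.card D ≤ Nat.card ↥(cj g⁻¹ M) := by
    rw [← Nat.card_prod]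
    refine Nat.card_le_card_of_injective (fun p : φ.range × D =>
      (⟨(p.1 : G) * p.2, mul_mem (hrM p.1.2) (hDM' p.2.2)⟩ : ↥(cj g⁻¹ M))) ?_
    rintro ⟨a, b⟩ ⟨c, d⟩ hab
    have h1 : (a : G) * b = c * d := congrArg Subtype.val hab
    have h2 : (c : G)⁻¹ * a = d * (b : G)⁻¹ := by
      rw [inv_mul_eq_iff_eq_mul, ← mul_assoc, ← h1, mul_inv_cancel_right]
    have h3 : (c : G)⁻¹ * a ∈ φ.range ⊓ D := by
      refine ⟨φ.range.mul_mem (φ.range.inv_mem c.2) a.2, ?_⟩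
      rw [h2]
      exact D.mul_mem d.2 (D.inv_mem b.2)
    have h4 := mem_bot.1 (hdis h3)
    have h5 : (a : G) = c := (inv_mul_eq_one.1 h4).symm
    have h6 : (d : G) = b := by rw [h2, mul_inv_eq_one] at h4; exact h4
    exact Prod.ext (Subtype.ext h5) (Subtype.ext h6.symm)
  have hK : Nat.card ↥(V ⊓ U) = Nat.card φ.ker * Nat.card φ.range := by
    rw [← φ.ker.card_mul_index, Subgroup.index_ker]
  have hM2 : Nat.card ↥(V ⊓ U) = 2 * Nat.card M := by
    rw [← Omega.NO3S.TwoOne.relIndex_mul_card hMK, hM]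
  rw [card_cj] at hprod
  have hpos : 0 < Nat.card M := Nat.card_pos
  have h7 : Nat.card φ.ker * Nat.card φ.range ≤ Nat.card M :=
    (Nat.mul_le_mul_right _ hker).trans ((mul_comm _ _).le.trans hprod)
  omega

/-- **The core.** -/
theorem le_o2 [Finite G] {V D X : Subgroup G} (hsq : ∀ v ∈ V, v ^ 2 = 1) (hcm : V ≤ centralizer (V : Set G))
    (nff : NotFF V) (hVX : V ≤ X) (hchar : X ⊓ centralizer (o2 X : Set G) ≤ o2 X)
    (hO : o2 X ≤ normalizer (V : Set G)) (hD : D ≤ V) (hXD : X ≤ centralizer (D : Set G))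
    (hc : ∃ c ∈ V, c ∉ D ∧ c ∈ centralizer (o2 X : Set G))
    (hmax : ∀ g ∈ X, ¬ V ≤ centralizer ((cj g V : Subgroup G) : Set G) → V ⊓ cj g V ≤ D) : V ≤ o2 X := by
  have hf : Fact (Nat.Prime 2) := ⟨Nat.prime_two⟩
  by_contra hVO
  obtain ⟨v₁, hv₁, hv₁O⟩ := SetLike.not_le_iff_exists.1 hVO
  set U := zc (o2 X) with hU
  have hUO : U ≤ o2 X := ChoiceSit.zc_le _
  have hUx : U ≤ X := hUO.trans (ChoiceSit.o2_le X)
  have hUc : U ≤ centralizer (U : Set G) := fun u hu => mem_centralizer_iff.2 fun w hw =>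
    (ChoiceBase.mem_zc.1 hu).2.2 w (hUO hw)
  have hUsq : ∀ u ∈ U, u ^ 2 = 1 := fun u hu => (ChoiceBase.mem_zc.1 hu).2.1
  have hXU : X ≤ normalizer (U : Set G) := by
    refine le_normalizer_of_forall fun x hx u hu => ?_
    obtain ⟨h1, h2, h3⟩ := ChoiceBase.mem_zc.1 hu
    have hn := ChoiceSit.le_normalizer_o2 X
    refine ChoiceBase.mem_zc.2 ⟨conj_mem hn hx h1, ?_, fun y hy => ?_⟩
    · have e : (x * u * x⁻¹) ^ 2 = x * u ^ 2 * x⁻¹ := by rw [pow_two, pow_two]; group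
      rw [e, h2]; group
    · have h4 : x⁻¹ * y * x ∈ o2 X := by
        have := conj_mem hn (inv_mem hx) hy
        rwa [inv_inv] at this
      have h5 := h3 _ h4
      calc y * (x * u * x⁻¹) = x * (x⁻¹ * y * x * u) * x⁻¹ := by group
        _ = x * (u * (x⁻¹ * y * x)) * x⁻¹ := by rw [h5]
        _ = x * u * x⁻¹ * y := by group
  have hUV1 : U ≤ normalizer (V : Set G) := hUO.trans hO
  have hmem : ∀ c ∈ V, c ∈ centralizer (o2 X : Set G) → c ∈ U := fun c hcV hcO =>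
    ChoiceBase.mem_zc.2 ⟨hchar ⟨hVX hcV, hcO⟩, hsq c hcV, fun y hy => mem_centralizer_iff.1 hcO y hy⟩
  have hDU : D ≤ U := fun d hd => hmem d (hD hd) (centralizer_le (ChoiceSit.o2_le X) (cent_symm hXD hd))
  obtain ⟨c, hcV, hcD, hcO⟩ := hc
  have hcU := hmem c hcV hcO
  have hDK : D < V ⊓ U := by
    refine lt_of_le_of_ne (le_inf hD hDU) fun h0 => hcD ?_
    rw [h0]
    exact ⟨hcV, hcU⟩
  have hVp : IsPGroup 2 V := fun x => ⟨1, Subtype.ext (by simpa using hsq x x.2)⟩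
  obtain ⟨M, hDM, hMK, hM⟩ := Dual.exists_two (hVp.to_le inf_le_left) hDK
  have hcom : ∀ v ∈ V, v ∉ o2 X → ∃ u ∈ U, ⁅u, v⁆ ∉ M := fun v hv hvO =>
    exists_comm_not_mem hsq hVX hXU hUc hXD hDM hMK hM hmax hv hvO
  -- `V ∩ C(U) = V ∩ O₂(X)`
  have hVU : V ⊓ centralizer (U : Set G) = V ⊓ o2 X := by
    apply le_antisymm
    · refine le_inf inf_le_left fun v hv => ?_
      by_contra hvO
      obtain ⟨u, hu, huM⟩ := hcom v hv.1 hvO
      refine huM ?_
      rw [(commutatorElement_eq_one_iff_mul_comm).2 (mem_centralizer_iff.1 hv.2 u hu)]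
      exact one_mem _
    · exact inf_le_inf_left _ fun v hv => mem_centralizer_iff.2 fun u hu => ((ChoiceBase.mem_zc.1 hu).2.2 v hv).symm
  have hne : ¬ U ≤ centralizer (V : Set G) := fun h0 => hVO ((le_inf le_rfl (cent_symm h0)).trans
    (hVU.le.trans inf_le_right))
  have hlt := nff U (fun x => ⟨1, Subtype.ext (by simpa using hUsq x x.2)⟩)
    hUV1 (fun u hu => by rw [hUsq u hu]; exact one_mem _) (fun a ha b hb => by
      rw [mem_centralizer_iff.1 (hUc hb) a ha, mul_inv_cancel_right, mul_inv_cancel]; exact one_mem _) hne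
  -- the pairing
  have hK : ∀ u ∈ U, ∀ v ∈ V, ⁅u, v⁆ ∈ V ⊓ U := fun u hu v hv =>
    ⟨NO3S.NotFF.comm_mem_right hUV1 hu hv, comm_mem_left hXU (hVX hv) hu⟩
  have hmulM : ∀ x ∈ V ⊓ U, ∀ y ∈ V ⊓ U, (x * y ∈ M ↔ (x ∈ M ↔ y ∈ M)) := by
    intro x hx y hy
    have h1 := Subgroup.mul_mem_iff_of_index_two (H := M.subgroupOf (V ⊓ U)) hM (a := ⟨x, hx⟩) (b := ⟨y, hy⟩)
    simpa [mem_subgroupOf] using h1
  classical
  let s : V → U → ℤˣ := fun v u => if ⁅(u : G), (v : G)⁆ ∈ M then 1 else -1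
  have hs : ∀ v u, s v u = 1 ↔ ⁅(u : G), (v : G)⁆ ∈ M := by
    intro v u
    by_cases h0 : ⁅(u : G), (v : G)⁆ ∈ M
    · simp [s, h0]
    · simp [s, h0]
  have hsm : ∀ x ∈ V ⊓ U, ∀ y ∈ V ⊓ U, (if x * y ∈ M then (1 : ℤˣ) else -1) =
      (if x ∈ M then 1 else -1) * (if y ∈ M then 1 else -1) := by
    intro x hx y hy
    have h1 := hmulM x hx y hy
    by_cases hx' : x ∈ M <;> by_cases hy' : y ∈ M <;> simp [h1, hx', hy']
  have hl : ∀ a a' b, s (a * a') b = s a b * s a' b := by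
    intro a a' b
    have e : ⁅(b : G), ((a * a' : V) : G)⁆ = ⁅(b : G), (a : G)⁆ * ⁅(b : G), (a' : G)⁆ := by
      have h1 := mem_centralizer_iff.1 (hcm (hK b b.2 a' a'.2).1) a a.2
      rw [Subgroup.coe_mul]
      calc ⁅(b : G), (a : G) * a'⁆ = ⁅(b : G), (a : G)⁆ * (a * ⁅(b : G), (a' : G)⁆ * (a : G)⁻¹) := by
            simp only [commutatorElement_def]; group
        _ = _ := by rw [h1, mul_inv_cancel_right]
    change (if ⁅(b : G), ((a * a' : V) : G)⁆ ∈ M then (1 : ℤˣ) else -1) = _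
    rw [e]
    exact hsm _ (hK b b.2 a a.2) _ (hK b b.2 a' a'.2)
  have hr : ∀ a b b', s a (b * b') = s a b * s a b' := by
    intro a b b'
    have e : ⁅((b * b' : U) : G), (a : G)⁆ = ⁅(b : G), (a : G)⁆ * ⁅(b' : G), (a : G)⁆ := by
      have h1 := mem_centralizer_iff.1 (hUc (hK b' b'.2 a a.2).2) b b.2
      have h2 := mem_centralizer_iff.1 (hUc (hK b' b'.2 a a.2).2) _ (hK b b.2 a a.2).2
      rw [Subgroup.coe_mul]
      calc ⁅(b : G) * b', (a : G)⁆ = (b * ⁅(b' : G), (a : G)⁆ * (b : G)⁻¹) * ⁅(b : G), (a : G)⁆ := by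
            simp only [commutatorElement_def]; group
        _ = _ := by rw [h1, mul_inv_cancel_right, h2]
    change (if ⁅((b * b' : U) : G), (a : G)⁆ ∈ M then (1 : ℤˣ) else -1) = _
    rw [e]
    exact hsm _ (hK b b.2 a a.2) _ (hK b' b'.2 a a.2)
  have hpair := NO3S.TwoOne.pairing_units s hl hr
  have hL : Nat.card {a : V // ∀ b, s a b = 1} ≤ Nat.card ↥(V ⊓ o2 X) := by
    refine Nat.card_le_card_of_injective (fun a => (⟨(a.1 : G), a.1.2, ?_⟩ : ↥(V ⊓ o2 X))) ?_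
    · by_contra h0
      obtain ⟨u, hu, huM⟩ := hcom a.1 a.1.2 h0
      exact huM ((hs _ ⟨u, hu⟩).1 (a.2 ⟨u, hu⟩))
    · intro a b hab
      have h1 : (a.1 : G) = b.1 := congrArg (fun x : ↥(V ⊓ o2 X) => (x : G)) hab
      exact Subtype.ext (Subtype.ext h1)
  have hR : Nat.card ↥(U ⊓ centralizer (V : Set G)) ≤ Nat.card {b : U // ∀ a, s a b = 1} := by
    refine Nat.card_le_card_of_injective (fun a => (⟨⟨(a : G), a.2.1⟩, fun v => ?_⟩ :
      {b : U // ∀ a, s a b = 1})) ?_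
    · rw [hs]
      rw [(commutatorElement_eq_one_iff_mul_comm).2 (mem_centralizer_iff.1 a.2.2 v v.2).symm]
      exact one_mem _
    · intro a b hab
      have h1 : (a : G) = b := congrArg (fun x : {b : U // ∀ a, s a b = 1} => ((x : U) : G)) hab
      exact Subtype.ext h1
  have hcU : (centralizer (V : Set G)).relIndex U * Nat.card ↥(U ⊓ centralizer (V : Set G)) = Nat.card U := by
    rw [← Subgroup.inf_relIndex_right, inf_comm]
    exact NO3S.TwoOne.relIndex_mul_card inf_le_left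
  have hcV : (centralizer (U : Set G)).relIndex V * Nat.card ↥(V ⊓ o2 X) = Nat.card V := by
    rw [← hVU, ← Subgroup.inf_relIndex_right, inf_comm]
    exact NO3S.TwoOne.relIndex_mul_card inf_le_left
  set a := Nat.card ↥(U ⊓ centralizer (V : Set G)) with ha
  set b := Nat.card ↥(V ⊓ o2 X) with hb
  have ha0 : 0 < a := Nat.card_pos
  have hb0 : 0 < b := Nat.card_pos
  have h1 : Nat.card V * a ≤ b * Nat.card U :=
    (Nat.mul_le_mul_left _ hR).trans (hpair.symm.le.trans (Nat.mul_le_mul_right _ hL))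
  rw [← hcU, ← hcV] at h1
  have h2 : (centralizer (U : Set G)).relIndex V * (a * b) ≤ (centralizer (V : Set G)).relIndex U * (a * b) := by
    calc _ = (centralizer (U : Set G)).relIndex V * b * a := by ring
      _ ≤ b * ((centralizer (V : Set G)).relIndex U * a) := h1
      _ = _ := by ring
  exact absurd (Nat.le_of_mul_le_mul_right h2 (Nat.mul_pos ha0 hb0)) (not_le.2 hlt)

/-! ### Systems of lines -/

/-- The hypotheses of THEOREM TI. -/
structure Lin (V : Subgroup G) : Prop where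
  sq : ∀ v ∈ V, v ^ 2 = 1
  comm : V ≤ centralizer (V : Set G)
  nff : NotFF V
  /-- `C_G(D)` has characteristic 2 -/
  char2 : ∀ D : Subgroup G, D ≤ V → D ≠ ⊥ →
    centralizer (D : Set G) ⊓ centralizer ((o2 (centralizer (D : Set G)) : Subgroup G) : Set G) ≤
      o2 (centralizer (D : Set G))
  o2n : ∀ D : Subgroup G, D ≤ V → D ≠ ⊥ → o2 (centralizer (D : Set G)) ≤ normalizer (V : Set G)
  /-- a point of `V` fixed by `O₂(C_G(D))` lies in `D`, or not -/
  pt : ∀ D : Subgroup G, D ≤ V → D ≠ ⊥ → V ≤ o2 (centralizer (D : Set G)) ∨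
    ∃ c ∈ V, c ∉ D ∧ c ∈ centralizer ((o2 (centralizer (D : Set G)) : Subgroup G) : Set G)

theorem cj_bot' (g : G) : cj g (⊥ : Subgroup G) = ⊥ := Subgroup.map_bot _

theorem cj_ne_bot {g : G} {A : Subgroup G} (h : A ≠ ⊥) : cj g A ≠ ⊥ := by
  intro h0
  apply h
  have := congrArg (cj g⁻¹) h0
  rwa [cj_inv_cj, cj_bot'] at this

namespace Lin

variable [Finite G] {V : Subgroup G} (h : Lin V)
include h

omit [Finite G] in
theorem isPGroup : IsPGroup 2 V := fun x => ⟨1, Subtype.ext (by simpa using h.sq x x.2)⟩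

omit [Finite G] in
theorem cj_sq (g : G) : ∀ v ∈ cj g V, v ^ 2 = 1 := by
  intro v hv
  have h1 := h.sq _ (mem_cj.1 hv)
  have e : v ^ 2 = g * (g⁻¹ * v * g) ^ 2 * g⁻¹ := by rw [pow_two, pow_two]; group
  rw [e, h1]; group

omit [Finite G] in
/-- Two lines which normalise each other commute. -/
theorem comm_lines {a b : G} (h1 : cj a V ≤ normalizer ((cj b V : Subgroup G) : Set G))
    (h2 : cj b V ≤ normalizer ((cj a V : Subgroup G) : Set G)) :
    cj a V ≤ centralizer ((cj b V : Subgroup G) : Set G) :=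
  comm_of_norm (h.nff.cj a) (h.nff.cj b) (h.cj_sq a) (h.cj_sq b) (cj_cent h.comm) (cj_cent h.comm) h1 h2

omit [Finite G] in
/-- If `V ≤ O₂(C_G(D₁))` and `V ≤ O₂(C_G(D₁^(g⁻¹)))` for `D₁ ≤ V ∩ V^g`, then `V` and `V^g` commute. -/
theorem comm_of_good {g : G} {D : Subgroup G} (hD : D ≠ ⊥) (hDV : D ≤ V) (hDg : D ≤ cj g V)
    (h1 : V ≤ o2 (centralizer (D : Set G)))
    (h2 : V ≤ o2 (centralizer ((cj g⁻¹ D : Subgroup G) : Set G))) :
    V ≤ centralizer ((cj g V : Subgroup G) : Set G) := by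
  have h3 : cj g V ≤ o2 (centralizer (D : Set G)) := by
    have h4 := cj_mono g h2
    rwa [← o2_cj, cj_centralizer, cj_cj_inv] at h4
  have h5 : o2 (centralizer (D : Set G)) ≤ normalizer ((cj g V : Subgroup G) : Set G) := by
    have h6 := h.o2n (cj g⁻¹ D) (by rw [cj_le_iff, inv_inv]; exact hDg) (cj_ne_bot hD)
    have h7 := cj_norm (g := g) h6
    rwa [← o2_cj, cj_centralizer, cj_cj_inv] at h7
  have h8 := h.comm_lines (a := 1) (b := g) (by rw [cj_one]; exact h1.trans h5)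
    (by rw [cj_one]; exact h3.trans (h.o2n D hDV hD))
  rwa [cj_one] at h8

/-- **THEOREM EMPTY**: `V ≤ O₂(C_G(D))` for all `1 ≠ D ≤ V`. -/
theorem empty (D : Subgroup G) (hDV : D ≤ V) (hD : D ≠ ⊥) : V ≤ o2 (centralizer (D : Set G)) := by
  by_contra hbad
  obtain ⟨F, hF, hmax⟩ := Set.exists_max_image
    {D : Subgroup G | D ≤ V ∧ D ≠ ⊥ ∧ ¬ V ≤ o2 (centralizer (D : Set G))}
    (fun D => Nat.card D) (Set.toFinite _) ⟨D, hDV, hD, hbad⟩
  obtain ⟨hFV, hF1, hFb⟩ := hF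
  have good : ∀ E : Subgroup G, E ≤ V → Nat.card F < Nat.card E → V ≤ o2 (centralizer (E : Set G)) := by
    intro E hE hlt
    by_contra hcon
    refine absurd (hmax E ⟨hE, ?_, hcon⟩) (not_le.2 hlt)
    rintro rfl
    have := Nat.card_pos (α := F)
    rw [Subgroup.card_bot] at hlt
    omega
  have hc := (h.pt F hFV hF1).resolve_left hFb
  refine hFb (le_o2 h.sq h.comm h.nff (h.comm.trans (centralizer_le hFV)) (h.char2 F hFV hF1)
    (h.o2n F hFV hF1) hFV le_rfl hc fun g hg hn => ?_)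
  -- `V ∩ V^g = F`
  by_contra hlt
  have hFg : F ≤ cj g V := by
    have h1 := cj_mono g hFV
    rwa [cj_eq_of_mem_normalizer (centralizer_le_normalizer _ hg)] at h1
  have h1 : F < V ⊓ cj g V := lt_of_le_not_ge (le_inf hFV hFg) hlt
  have hcard : Nat.card F < Nat.card ↥(V ⊓ cj g V) := by
    refine lt_of_le_of_ne (card_le_of_le h1.le) fun h2 => ?_
    exact h1.ne (eq_of_le_of_card_ge h1.le h2.ge)
  have hne : V ⊓ cj g V ≠ ⊥ := fun h0 => hF1 (le_bot_iff.1 (h1.le.trans h0.le))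
  refine hn (h.comm_of_good hne inf_le_left inf_le_right (good _ inf_le_left hcard) (good _ ?_ ?_))
  · rw [cj_le_iff, inv_inv]; exact inf_le_right
  · rwa [card_cj]

/-- **THEOREM TI**: lines which meet nontrivially commute. -/
theorem ti {g : G} (hD : V ⊓ cj g V ≠ ⊥) : V ≤ centralizer ((cj g V : Subgroup G) : Set G) :=
  h.comm_of_good hD inf_le_left inf_le_right (h.empty _ inf_le_left hD) (h.empty _ (by
    rw [cj_le_iff, inv_inv]; exact inf_le_right) (cj_ne_bot hD))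

theorem ti' {a b : G} (hD : cj a V ⊓ cj b V ≠ ⊥) :
    cj a V ≤ centralizer ((cj b V : Subgroup G) : Set G) := by
  have h1 := h.ti (g := a⁻¹ * b) (by
    intro h0
    apply hD
    have h1 := congrArg (cj a) h0
    rwa [cj_inf, cj_cj, mul_inv_cancel_left, cj_bot'] at h1)
  have h2 := cj_cent (g := a) h1
  rwa [cj_cj, mul_inv_cancel_left] at h2

omit h in
/-- a 2-group acting on a nontrivial 2-group has a nontrivial fixed point -/
theorem exists_fixed {A Q : Subgroup G} (hA : IsPGroup 2 A) (hA1 : A ≠ ⊥) (hQ : IsPGroup 2 Q)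
    (hn : Q ≤ normalizer (A : Set G)) : ∃ c ∈ A, c ≠ 1 ∧ c ∈ centralizer (Q : Set G) := by
  have hf : Fact (Nat.Prime 2) := ⟨Nat.prime_two⟩
  have h1 := PLocal.OffenderStep.inf_centralizer_ne_bot A Q hA hQ hn hA1
  obtain ⟨c, hc1⟩ := Subgroup.ne_bot_iff_exists_ne_one.1 h1
  exact ⟨c, c.2.1, fun h0 => hc1 (Subtype.ext h0), c.2.2⟩

/-- **COROLLARY (★)**: `V ≤ O₂(X)` for every `X ≥ V` of characteristic 2 with `O₂(X) ≤ N_G(V)`. -/
theorem le_o2 {X : Subgroup G} (hVX : V ≤ X) (hchar : X ⊓ centralizer ((o2 X : Subgroup G) : Set G) ≤ o2 X)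
    (hO : o2 X ≤ normalizer (V : Set G)) : V ≤ o2 X := by
  by_cases hV : V = ⊥
  · rw [hV]; exact bot_le
  obtain ⟨c, hc, hc1, hcO⟩ := exists_fixed h.isPGroup hV (ChoiceSit.isPGroup_o2 X) hO
  refine TI.le_o2 (D := ⊥) h.sq h.comm h.nff hVX hchar hO bot_le ?_ ⟨c, hc, by rwa [mem_bot], hcO⟩
    fun g _ hn => ?_
  · rw [Subgroup.le_centralizer_iff]; exact bot_le
  · by_contra h0
    exact hn (h.ti fun h1 => h0 h1.le)

/-- ... and then `⟨V^X⟩` is elementary abelian: the lines `V^x` commute. -/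
theorem comm_of_le_o2 {X : Subgroup G} (hVX : V ≤ X)
    (hchar : X ⊓ centralizer ((o2 X : Subgroup G) : Set G) ≤ o2 X)
    (hO : o2 X ≤ normalizer (V : Set G)) {x y : G} (hx : x ∈ X) (hy : y ∈ X) :
    cj x V ≤ centralizer ((cj y V : Subgroup G) : Set G) := by
  have h1 := h.le_o2 hVX hchar hO
  have h2 : ∀ z ∈ X, cj z V ≤ o2 X := fun z hz => by
    have := cj_mono z h1
    rwa [cj_eq_of_mem_normalizer (ChoiceSit.le_normalizer_o2 X hz)] at this
  have h3 : ∀ z ∈ X, o2 X ≤ normalizer ((cj z V : Subgroup G) : Set G) := fun z hz => by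
    have := cj_norm (g := z) hO
    rwa [cj_eq_of_mem_normalizer (ChoiceSit.le_normalizer_o2 X hz)] at this
  exact h.comm_lines ((h2 x hx).trans (h3 y hy)) ((h2 y hy).trans (h3 x hx))

end Lin

/-! ### Sylow control -/

/-- **`Lin V` from Sylow control**: `V` has no offender, `S ≤ N(V)`, `Z = Ω₁(Z(S)) ≤ V ≤ O₂(C_G(Z))`, and for
`1 ≠ D ≤ V` a Sylow 2-subgroup of `C_{N(V)}(D)` is Sylow in `C_G(D)`. -/
theorem Lin.of_syl [Finite G] (hG : IsCharacteristicTwoType G) {S : Sylow 2 G} {V : Subgroup G}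
    (hsq : ∀ v ∈ V, v ^ 2 = 1) (hcm : V ≤ centralizer (V : Set G)) (nff : NotFF V)
    (hS : (S : Subgroup G) ≤ normalizer (V : Set G)) (hZ : zc (S : Subgroup G) ≤ V)
    (low : V ≤ o2 (centralizer (zc (S : Subgroup G) : Set G)))
    (hi : ∀ D : Subgroup G, D ≤ V → D ≠ ⊥ → ∃ T : Subgroup G, T ≤ normalizer (V : Set G) ∧
      Syl T (centralizer (D : Set G))) : Lin V := by
  have hVp : IsPGroup 2 V := fun x => ⟨1, Subtype.ext (by simpa using hsq x x.2)⟩
  refine ⟨hsq, hcm, nff, fun D hD hD1 => ?_, fun D hD hD1 => ?_, fun D hD hD1 => ?_⟩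
  · exact NOne.LemmaT.char2_centralizer hG (hVp.to_le hD) hD1
  · obtain ⟨T, hT, hTs⟩ := hi D hD hD1
    exact (o2_le_syl hTs).trans hT
  · obtain ⟨T, hT, hTs⟩ := hi D hD hD1
    obtain ⟨S₁, hS₁, hTS₁⟩ := exists_syl hTs.2.1 hT
    obtain ⟨m, hm, hmS⟩ := syl_conj (MinSimple.EmptyTI.syl_of_le hS) hS₁
    by_cases hle : zc S₁ ≤ D
    · left
      -- `C_G(D) ≤ C_G(Z₁)`
      have h1 : V ≤ o2 (centralizer (zc S₁ : Set G)) := by
        have h2 := cj_mono m low
        rwa [← o2_cj, cj_centralizer, ← zc_cj, hmS, mem_normalizer_iff_cj.1 hm] at h2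
      have h3 : centralizer (D : Set G) ≤ centralizer (zc S₁ : Set G) := centralizer_le hle
      have h4 : centralizer (D : Set G) ⊓ o2 (centralizer (zc S₁ : Set G)) ≤ o2 (centralizer (D : Set G)) :=
        ChoiceSit.le_o2 ((ChoiceSit.isPGroup_o2 _).to_le inf_le_right) inf_le_left
          (NO3S.NotFF.normalizer_inf le_normalizer (h3.trans (ChoiceSit.le_normalizer_o2 _)))
      exact (le_inf (hcm.trans (centralizer_le hD)) h1).trans h4
    · right
      obtain ⟨c, hc, hcD⟩ := SetLike.not_le_iff_exists.1 hle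
      refine ⟨c, ?_, hcD, ?_⟩
      · have h2 := cj_mono m hZ
        rw [← zc_cj, hmS, mem_normalizer_iff_cj.1 hm] at h2
        exact h2 hc
      · refine mem_centralizer_iff.2 fun y hy => ?_
        exact (ChoiceBase.mem_zc.1 hc).2.2 y (hTS₁ (o2_le_syl hTs hy))

end Cfsg.Agent.Omega.NO3b.TI
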