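import Cfsg.Agent.Omega.MinPar

/-!
# NO-3S, `V` not FF: the U-method for an element `a` centralised by a subgroup of index 2 of `S`

Text: helper498, OMEGA #13906 (5). `S` is a Sylow 2-subgroup with `Ω₁(Z(S)) = ⟨z⟩`, `V` a line on the point `z`,
normalised by `S`, `a ∈ V`, `|S : C_S(a)| = 2`, `U_a = ⟨z^{C(a)}⟩ = uu a z`.

* `Dat S V z a` : the data;
* `Dat.le_inf` : `C_{O₂(C(a))}(z) ≤ S ∩ C(a)`;
* `Dat.uu_comm`, `Dat.uu_le_o2`, `Dat.uu_le` : (i) `U_a` is abelian and lies in `O₂(C(a))` and in `S`;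
* `Dat.cent` : (ii) `[U_a, V] = 1` if `|V : V₀| < MU`, `V₀ = ⟨z^{N(V) ∩ C(a)}⟩`;
* `Dat.le_o2` : `[U_a, V] = 1` implies `V ≤ O₂(C(a))` (LEMMA U);
* `Dat.norm` : (iii) for two such lines `V`, `V'` with the same `a` and `z' = z^g`, `g ∈ C(a)`: `V ≤ N(V')`;
* `Dat.false` : (iii);
* `Dat.norm_of_z` : (iv) `V` normalises every line on the point `a`.
-/

set_option autoImplicit false
set_option linter.unusedSectionVars false

namespace Cfsg.Agent.Omega.NO3b.UFive

open Subgroup Cfsg Cfsg.Agent.ZN Cfsg.Agent.MinSimple.Basic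
open Cfsg.Agent.MinSimple.VModule (o2_isPGroup le_normalizer_o2 le_o2 o2_le_of_sylow)

variable {G : Type*} [Group G]

/-- `C_G(a)` -/
abbrev cen (a : G) : Subgroup G := centralizer ({a} : Set G)

theorem mem_cen {a x : G} : x ∈ cen a ↔ x * a = a * x := mem_centralizer_singleton_iff

/-- `U_a = ⟨z^{C(a)}⟩` -/
def uu (a z : G) : Subgroup G := closure {x | ∃ c : G, c * a = a * c ∧ c * z * c⁻¹ = x}

/-- `V₀ = ⟨z^{N(V) ∩ C(a)}⟩` -/
def v0 (V : Subgroup G) (a z : G) : Subgroup G :=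
  closure {x | ∃ c ∈ normalizer (V : Set G), c * a = a * c ∧ c * z * c⁻¹ = x}

theorem conj_mem_uu {a z c : G} (hc : c * a = a * c) : c * z * c⁻¹ ∈ uu a z := subset_closure ⟨c, hc, rfl⟩

theorem mem_uu (a z : G) : z ∈ uu a z := by
  have h := conj_mem_uu (a := a) (z := z) (c := 1) (by rw [one_mul, mul_one])
  rwa [one_mul, inv_one, mul_one] at h

theorem v0_le_uu (V : Subgroup G) (a z : G) : v0 V a z ≤ uu a z :=
  closure_mono fun _ ⟨c, _, hc, hx⟩ => ⟨c, hc, hx⟩

/-- a subgroup normalised by `C(a)` and containing `z` contains `U_a` -/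
theorem uu_le_of {a z : G} {T : Subgroup G} (hz : z ∈ T) (hT : cen a ≤ normalizer (T : Set G)) :
    uu a z ≤ T := by
  unfold uu
  rw [closure_le]
  rintro _ ⟨c, hc, rfl⟩
  exact ((mem_normalizer_iff.1 (hT (mem_cen.2 hc))) z).1 hz

/-- `C(a)` normalises `U_a` -/
theorem le_normalizer_uu (a z : G) : cen a ≤ normalizer (uu a z : Set G) := by
  have h : ∀ c : G, c * a = a * c → ∀ x ∈ uu a z, c * x * c⁻¹ ∈ uu a z := by
    intro c hc x hx
    unfold uu at hx
    induction hx using closure_induction with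
    | mem x hx =>
      obtain ⟨d, hd, rfl⟩ := hx
      have h1 : (c * d) * z * (c * d)⁻¹ ∈ uu a z := conj_mem_uu (by
        rw [mul_assoc, hd, ← mul_assoc, hc, mul_assoc])
      have e : (c * d) * z * (c * d)⁻¹ = c * (d * z * d⁻¹) * c⁻¹ := by group
      rwa [e] at h1
    | one => rw [mul_one, mul_inv_cancel]; exact one_mem _
    | mul x y _ _ hx hy =>
      have e : c * (x * y) * c⁻¹ = (c * x * c⁻¹) * (c * y * c⁻¹) := by group
      rw [e]; exact mul_mem hx hy
    | inv x _ hx =>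
      have e : c * x⁻¹ * c⁻¹ = (c * x * c⁻¹)⁻¹ := by group
      rw [e]; exact inv_mem hx
  intro c hc
  have hc' : c * a = a * c := mem_cen.1 hc
  have hci : c⁻¹ * a = a * c⁻¹ := by
    rw [inv_mul_eq_iff_eq_mul, ← mul_assoc, hc', mul_inv_cancel_right]
  rw [mem_normalizer_iff]
  intro x
  constructor
  · exact fun hx => h c hc' x hx
  · intro hx
    have h1 := h c⁻¹ hci _ hx
    have e : c⁻¹ * (c * x * c⁻¹) * c⁻¹⁻¹ = x := by group
    rwa [e] at h1

theorem normalizer_le_normalizer_o2 (K : Subgroup G) :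
    normalizer (K : Set G) ≤ normalizer (o2 K : Set G) := by
  have h : ∀ g ∈ normalizer (K : Set G), ∀ x ∈ o2 K, g * x * g⁻¹ ∈ o2 K := by
    intro g hg x hx
    have h1 : K.map (MulAut.conj g).toMonoidHom = K := by
      ext y
      constructor
      · rintro ⟨k, hk, rfl⟩
        exact ((mem_normalizer_iff.1 hg) k).1 hk
      · intro hy
        refine ⟨g⁻¹ * y * g, ?_, ?_⟩
        · have h2 := ((mem_normalizer_iff.1 (Subgroup.inv_mem _ hg)) y).1 hy
          rwa [inv_inv] at h2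
        · show g * (g⁻¹ * y * g) * g⁻¹ = y
          group
    have h2 := o2_map (MulAut.conj g).toMonoidHom (MulAut.conj g).injective K
    rw [h1] at h2
    rw [h2]
    exact ⟨x, hx, rfl⟩
  intro g hg
  rw [mem_normalizer_iff]
  intro x
  constructor
  · exact fun hx => h g hg x hx
  · intro hx
    have h1 := h g⁻¹ (Subgroup.inv_mem _ hg) _ hx
    have e : g⁻¹ * (g * x * g⁻¹) * g⁻¹⁻¹ = x := by group
    rwa [e] at h1

/-- The data of #13906 (5). -/
structure Dat (S : Sylow 2 G) (V : Subgroup G) (z a : G) : Prop where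
  zz : z * z = 1
  z1 : z ≠ 1
  aa : a * a = 1
  a1 : a ≠ 1
  az : a ≠ z
  zV : z ∈ V
  aV : a ∈ V
  comm : ∀ x ∈ V, ∀ y ∈ V, x * y = y * x
  SV : (S : Subgroup G) ≤ normalizer (V : Set G)
  Sz : ∀ s ∈ S, s * z = z * s
  /-- `Ω₁(Z(S)) = ⟨z⟩` -/
  cz : ∀ x ∈ S, x * x = 1 → (∀ s ∈ S, s * x = x * s) → x = 1 ∨ x = z
  /-- `|S : C_S(a)| = 2` -/
  idx : ((S : Subgroup G) ⊓ cen a).relIndex S = 2
  /-- `V ≤ O₂(C(z))` -/
  low : V ≤ o2 (cen z)
  /-- `⟨V^{C(z)}⟩` is abelian -/
  abel : ∀ c d : G, c * z = z * c → d * z = z * d → ∀ x ∈ V, ∀ y ∈ V,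
    (c * x * c⁻¹) * (d * y * d⁻¹) = (d * y * d⁻¹) * (c * x * c⁻¹)

namespace Dat

variable {S : Sylow 2 G} {V : Subgroup G} {z a : G}

section

variable [Finite G] (D : Dat S V z a)
include D

theorem S_le_cen : (S : Subgroup G) ≤ cen z := fun _ hs => mem_cen.2 (D.Sz _ hs)

theorem V_le : V ≤ (S : Subgroup G) := by
  refine D.low.trans (o2_le_of_sylow S.isPGroup' (not_dvd_relIndex S D.S_le_cen))

theorem zS : z ∈ S := D.V_le D.zV

theorem aS : a ∈ S := D.V_le D.aV

theorem comm_az : a * z = z * a := D.comm a D.aV z D.zV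

theorem card_S : Nat.card S = Nat.card ((S : Subgroup G) ⊓ cen a : Subgroup G) * 2 := by
  have h := relIndex_mul_card_eq D
  exact h
where
  relIndex_mul_card_eq (D : Dat S V z a) :
      Nat.card S = Nat.card ((S : Subgroup G) ⊓ cen a : Subgroup G) * 2 := by
    have h1 := Subgroup.card_mul_index (((S : Subgroup G) ⊓ cen a).subgroupOf (S : Subgroup G))
    have h2 : Nat.card (((S : Subgroup G) ⊓ cen a).subgroupOf (S : Subgroup G)) =
        Nat.card ((S : Subgroup G) ⊓ cen a : Subgroup G) :=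
      Nat.card_congr (Subgroup.subgroupOfEquivOfLe inf_le_left).toEquiv
    have h3 : (((S : Subgroup G) ⊓ cen a).subgroupOf (S : Subgroup G)).index = 2 := D.idx
    rw [h2, h3] at h1
    exact h1.symm

/-- no Sylow 2-subgroup of `G` centralises `a` and `z` -/
theorem not_both (T : Sylow 2 G) (ha : (T : Subgroup G) ≤ cen a) (hz : (T : Subgroup G) ≤ cen z) : False := by
  have hfact : Fact (Nat.Prime 2) := ⟨Nat.prime_two⟩
  obtain ⟨g, hg⟩ := MulAction.exists_smul_eq G S T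
  -- a 2-element centralising `T` lies in `T`
  have hself : ∀ y : G, y * y = 1 → (∀ x ∈ T, x * y = y * x) → y ∈ T := by
    intro y hyy hy
    have h1 : zpowers y ≤ (T : Subgroup G) := by
      refine MinPar.le_of_le_normalizer T (isPGroup_zpowers (by rw [pow_two, hyy])) ?_
      rw [normalizer_zpowers_eq (by rw [pow_two, hyy])]
      exact fun x hx => mem_cen.2 (hy x hx)
    exact h1 (mem_zpowers y)
  have hmem : ∀ s ∈ S, g * s * g⁻¹ ∈ T := by
    intro s hs
    rw [← hg]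
    exact ⟨s, hs, rfl⟩
  have hmem' : ∀ t ∈ T, g⁻¹ * t * g ∈ S := by
    intro t ht
    rw [← hg] at ht
    obtain ⟨s, hs, hst⟩ := ht
    have e1 : t = g * s * g⁻¹ := hst.symm
    have e : g⁻¹ * t * g = s := by rw [e1]; group
    rw [e]; exact hs
  have key : ∀ y : G, y * y = 1 → y ≠ 1 → (∀ x ∈ T, x * y = y * x) → g⁻¹ * y * g = z := by
    intro y hyy hy1 hy
    have h1 : g⁻¹ * y * g ∈ S := hmem' y (hself y hyy hy)
    rcases D.cz _ h1 (by
      calc g⁻¹ * y * g * (g⁻¹ * y * g) = g⁻¹ * (y * y) * g := by group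
        _ = 1 := by rw [hyy]; group) (fun s hs => by
      have h2 := hy _ (hmem s hs)
      calc s * (g⁻¹ * y * g) = g⁻¹ * (g * s * g⁻¹ * y) * g := by group
        _ = g⁻¹ * (y * (g * s * g⁻¹)) * g := by rw [h2]
        _ = g⁻¹ * y * g * s := by group) with h | h
    · exfalso
      apply hy1
      have e : y = g * (g⁻¹ * y * g) * g⁻¹ := by group
      rw [e, h]; group
    · exact h
  have h1 := key a D.aa D.a1 fun x hx => mem_cen.1 (ha hx)
  have h2 := key z D.zz D.z1 fun x hx => mem_cen.1 (hz hx)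
  exact D.az (mul_left_cancel (mul_right_cancel (h1.trans h2.symm)))

/-- a 2-subgroup properly containing `C_S(a)` has at least the order of `S` -/
theorem sylow_of_lt {T : Subgroup G} (hT : IsPGroup 2 T) (hle : (S : Subgroup G) ⊓ cen a ≤ T)
    (hne : ¬ T ≤ (S : Subgroup G) ⊓ cen a) : ∃ T' : Sylow 2 G, (T' : Subgroup G) = T := by
  have hfact : Fact (Nat.Prime 2) := ⟨Nat.prime_two⟩
  obtain ⟨T', hT'⟩ := hT.exists_le_sylow
  refine ⟨T', ?_⟩
  obtain ⟨g, hg⟩ := MulAction.exists_smul_eq G S T'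
  have hc : Nat.card T' = Nat.card S := by
    rw [← hg]
    exact (Nat.card_congr (Sylow.equivSMul S g).toEquiv).symm
  have h1 : Nat.card ((S : Subgroup G) ⊓ cen a : Subgroup G) ∣ Nat.card T := Subgroup.card_dvd_of_le hle
  have h2 : Nat.card ((S : Subgroup G) ⊓ cen a : Subgroup G) ≠ Nat.card T := by
    intro h
    exact hne (Subgroup.eq_of_le_of_card_ge hle h.ge).ge
  have h3 : Nat.card S ≤ Nat.card T := by
    obtain ⟨k, hk⟩ := h1
    have hpos : 0 < Nat.card T := Nat.card_pos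
    have hk2 : 2 ≤ k := by
      rcases Nat.lt_or_ge k 2 with h | h
      · exfalso
        interval_cases k
        · omega
        · rw [mul_one] at hk; exact h2 hk.symm
      · exact h
    rw [D.card_S, hk]
    exact Nat.mul_le_mul_left _ hk2
  exact (Subgroup.eq_of_le_of_card_ge hT' (by rw [← hc] at h3; exact h3)).symm

theorem le_Sa {T : Subgroup G} (hT : IsPGroup 2 T) (ha : T ≤ cen a) (hz : T ≤ cen z)
    (hle : (S : Subgroup G) ⊓ cen a ≤ T) : T ≤ (S : Subgroup G) ⊓ cen a := by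
  by_contra hne
  obtain ⟨T', rfl⟩ := D.sylow_of_lt hT hle hne
  exact D.not_both T' ha hz

/-- `O₂(C(a) ∩ C(z)) ≤ C_S(a)` -/
theorem o2_inf_le : o2 (cen a ⊓ cen z) ≤ (S : Subgroup G) ⊓ cen a := by
  have hfact : Fact (Nat.Prime 2) := ⟨Nat.prime_two⟩
  have hSa : (S : Subgroup G) ⊓ cen a ≤ cen a ⊓ cen z := le_inf inf_le_right (inf_le_left.trans D.S_le_cen)
  have h2 : IsPGroup 2 ((S : Subgroup G) ⊓ cen a ⊔ o2 (cen a ⊓ cen z) : Subgroup G) :=
    (S.isPGroup'.to_le inf_le_left).to_sup_of_normal_right' (o2_isPGroup _)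
      (hSa.trans (le_normalizer_o2 _))
  have h3 : (S : Subgroup G) ⊓ cen a ⊔ o2 (cen a ⊓ cen z) ≤ cen a ⊓ cen z :=
    sup_le hSa (MinSimple.VModule.o2_le _)
  exact le_sup_right.trans (D.le_Sa h2 (h3.trans inf_le_left) (h3.trans inf_le_right) le_sup_left)

/-- `C_{O₂(C(a))}(z) ≤ C_S(a)` -/
theorem le_inf' : o2 (cen a) ⊓ cen z ≤ (S : Subgroup G) ⊓ cen a := by
  refine le_trans (le_o2 (inf_le_inf (MinSimple.VModule.o2_le _) le_rfl)
    ((o2_isPGroup _).to_le inf_le_left) ?_) D.o2_inf_le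
  intro x hx
  rw [mem_normalizer_iff]
  intro y
  have h1 := (mem_normalizer_iff.1 (le_normalizer_o2 _ hx.1)) y
  have hxz : x * z = z * x := mem_cen.1 hx.2
  constructor
  · rintro ⟨hy1, hy2⟩
    refine ⟨h1.1 hy1, mem_cen.2 ?_⟩
    have c1 : Commute x z := hxz
    have c2 : Commute y z := mem_cen.1 hy2
    exact (c1.mul_left c2).mul_left c1.inv_left
  · rintro ⟨hy1, hy2⟩
    refine ⟨h1.2 hy1, mem_cen.2 ?_⟩
    have c1 : Commute x z := hxz
    have c2 : Commute (x * y * x⁻¹) z := mem_cen.1 hy2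
    have c3 := (c1.inv_left.mul_left c2).mul_left c1
    have e : x⁻¹ * (x * y * x⁻¹) * x = y := by group
    rw [e] at c3
    exact c3

/-- `x x^s ∈ ⟨z⟩` for `x ∈ Ω₁(Z(C_S(a)))`, `s ∈ S - C(a)` -/
theorem omega_aux {s : G} (hs : s ∈ S) (hsa : s * a ≠ a * s) (x : G)
    (hx : x ∈ (S : Subgroup G) ⊓ cen a) (hxx : x * x = 1)
    (hxc : ∀ y ∈ (S : Subgroup G) ⊓ cen a, y * x = x * y) :
    x * (s * x * s⁻¹) = 1 ∨ x * (s * x * s⁻¹) = z := by
  -- `C_S(a)` is normal of index 2 in `S`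
  have hidx : (((S : Subgroup G) ⊓ cen a).subgroupOf (S : Subgroup G)).index = 2 := D.idx
  have hmul : ∀ u v : G, u ∈ S → v ∈ S → ((u * v) * a = a * (u * v) ↔ (u * a = a * u ↔ v * a = a * v)) := by
    intro u v hu hv
    have h1 := Subgroup.mul_mem_iff_of_index_two hidx (a := ⟨u, hu⟩) (b := ⟨v, hv⟩)
    simp only [mem_subgroupOf, mem_inf, mem_cen, MulMemClass.mk_mul_mk] at h1
    have hu' : u ∈ (S : Subgroup G) := hu
    have hv' : v ∈ (S : Subgroup G) := hv
    simpa only [hu', hv', Subgroup.mul_mem (S : Subgroup G) hu' hv', true_and] using h1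
  have hinv : ∀ u : G, u ∈ S → (u⁻¹ * a = a * u⁻¹ ↔ u * a = a * u) := by
    intro u hu
    constructor
    · intro h
      rw [inv_mul_eq_iff_eq_mul] at h
      rw [← mul_assoc] at h
      exact (eq_mul_inv_iff_mul_eq.1 h).symm
    · intro h
      rw [inv_mul_eq_iff_eq_mul, ← mul_assoc, h, mul_inv_cancel_right]
  have hcon : ∀ u v : G, u ∈ S → v ∈ S → v * a = a * v → (u * v * u⁻¹) * a = a * (u * v * u⁻¹) := by
    intro u v hu hv hva
    rw [hmul _ _ (Subgroup.mul_mem (S : Subgroup G) hu hv) (Subgroup.inv_mem (S : Subgroup G) hu), hmul _ _ hu hv,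
      hinv u hu]
    tauto
  set x' : G := s * x * s⁻¹ with hx'
  have hx'S : x' ∈ (S : Subgroup G) ⊓ cen a :=
    ⟨Subgroup.mul_mem _ (Subgroup.mul_mem _ hs hx.1) (Subgroup.inv_mem _ hs),
      mem_cen.2 (hcon s x hs hx.1 (mem_cen.1 hx.2))⟩
  have hx'x : x' * x = x * x' := hxc x' hx'S
  have hx'x' : x' * x' = 1 := by
    rw [hx']
    calc s * x * s⁻¹ * (s * x * s⁻¹) = s * (x * x) * s⁻¹ := by group
      _ = 1 := by rw [hxx]; group
  have hx'c : ∀ y ∈ (S : Subgroup G) ⊓ cen a, y * x' = x' * y := by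
    intro y hy
    have h1 : s⁻¹ * y * s ∈ (S : Subgroup G) ⊓ cen a := by
      refine ⟨Subgroup.mul_mem _ (Subgroup.mul_mem _ (Subgroup.inv_mem _ hs) hy.1) hs, mem_cen.2 ?_⟩
      have := hcon s⁻¹ y (Subgroup.inv_mem (S : Subgroup G) hs) hy.1 (mem_cen.1 hy.2)
      rwa [inv_inv] at this
    have h2 := hxc _ h1
    rw [hx']
    calc y * (s * x * s⁻¹) = s * (s⁻¹ * y * s * x) * s⁻¹ := by group
      _ = s * (x * (s⁻¹ * y * s)) * s⁻¹ := by rw [h2]
      _ = s * x * s⁻¹ * y := by group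
  apply D.cz
  · exact Subgroup.mul_mem (S : Subgroup G) hx.1 hx'S.1
  · calc x * x' * (x * x') = x * (x' * x) * x' := by group
      _ = (x * x) * (x' * x') := by rw [hx'x]; group
      _ = 1 := by rw [hxx, hx'x', one_mul]
  · intro u hu
    have hone : ∀ y ∈ (S : Subgroup G) ⊓ cen a, y * (x * x') = x * x' * y := by
      intro y hy
      calc y * (x * x') = (y * x) * x' := by group
        _ = x * (y * x') := by rw [hxc y hy]; group
        _ = x * x' * y := by rw [hx'c y hy]; group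
    -- `s` commutes with `x x'`
    have hss : s * s * a = a * (s * s) := by
      rw [hmul s s hs hs]
    have hsx : s * (x * x') = x * x' * s := by
      have h1 : (s * s) * x = x * (s * s) := hxc _ ⟨Subgroup.mul_mem _ hs hs, mem_cen.2 hss⟩
      have h2 : s * x' * s⁻¹ = x := by
        rw [hx']
        calc s * (s * x * s⁻¹) * s⁻¹ = (s * s * x) * (s * s)⁻¹ := by group
          _ = x := by rw [h1]; group
      calc s * (x * x') = (s * x * s⁻¹) * (s * x' * s⁻¹) * s := by group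
        _ = x' * x * s := by rw [h2]
        _ = x * x' * s := by rw [hx'x]
    by_cases hua : u * a = a * u
    · exact hone u ⟨hu, mem_cen.2 hua⟩
    · have h3 : s⁻¹ * u ∈ (S : Subgroup G) ⊓ cen a := by
        refine ⟨Subgroup.mul_mem _ (Subgroup.inv_mem _ hs) hu, mem_cen.2 ?_⟩
        rw [hmul _ _ (Subgroup.inv_mem (S : Subgroup G) hs) hu, hinv s hs]
        exact iff_of_false hsa hua
      have h4 := hone _ h3
      calc u * (x * x') = s * (s⁻¹ * u * (x * x')) := by group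
        _ = s * (x * x' * (s⁻¹ * u)) := by rw [h4]
        _ = (s * (x * x')) * (s⁻¹ * u) := by group
        _ = x * x' * s * (s⁻¹ * u) := by rw [hsx]
        _ = x * x' * u := by group

/-- elements of `S` outside `C(a)` move `a` to `a z`; `Ω₁(Z(C_S(a))) = {1, z, a, a z}` -/
theorem conj_a {s : G} (hs : s ∈ S) (hsa : s * a ≠ a * s) : s * a * s⁻¹ = a * z := by
  have h := D.omega_aux hs hsa a ⟨D.aS, mem_cen.2 rfl⟩ D.aa ?_
  · rcases h with h | h
    · exfalso
      apply hsa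
      have e : s * a * s⁻¹ = a := by
        have h3 : a * (s * a * s⁻¹) = a * a := by rw [h, D.aa]
        exact mul_left_cancel h3
      exact mul_inv_eq_iff_eq_mul.1 e
    · have h3 : a * (s * a * s⁻¹) = a * (a * z) := by rw [h, ← mul_assoc, D.aa, one_mul]
      exact mul_left_cancel h3
  · intro x hx
    exact mem_cen.1 hx.2

theorem exists_s : ∃ s ∈ S, s * a ≠ a * s := by
  by_contra hcon
  push Not at hcon
  have h1 : (S : Subgroup G) ⊓ cen a = S := inf_eq_left.2 fun s hs => mem_cen.2 (hcon s hs)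
  have h2 := D.idx
  rw [h1, relIndex_self] at h2
  omega

/-- an involution centralised by `C_S(a)` and by some `s ∈ S - C(a)` is `z` -/
theorem eq_of_comm {s : G} (hs : s ∈ S) (hsa : s * a ≠ a * s) (x : G) (hx : x ∈ S) (hxx : x * x = 1)
    (hxc : ∀ y ∈ (S : Subgroup G) ⊓ cen a, y * x = x * y) (hsx : s * x = x * s) : x = 1 ∨ x = z := by
  have hidx : (((S : Subgroup G) ⊓ cen a).subgroupOf (S : Subgroup G)).index = 2 := D.idx
  refine D.cz x hx hxx fun u hu => ?_
  by_cases hua : u * a = a * u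
  · exact hxc u ⟨hu, mem_cen.2 hua⟩
  · have h3 : s⁻¹ * u ∈ (S : Subgroup G) ⊓ cen a := by
      have h1 := Subgroup.mul_mem_iff_of_index_two hidx (a := ⟨s⁻¹, Subgroup.inv_mem _ hs⟩) (b := ⟨u, hu⟩)
      rw [mem_subgroupOf, mem_subgroupOf, mem_subgroupOf] at h1
      refine h1.2 (iff_of_false ?_ ?_)
      · intro h
        apply hsa
        have h4 := mem_cen.1 (Subgroup.inv_mem _ h).2
        simpa using h4
      · exact fun h => hua (mem_cen.1 h.2)
    have h4 := hxc _ h3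
    calc u * x = s * (s⁻¹ * u * x) := by group
      _ = s * (x * (s⁻¹ * u)) := by rw [h4]
      _ = (s * x) * (s⁻¹ * u) := by group
      _ = x * s * (s⁻¹ * u) := by rw [hsx]
      _ = x * u := by group

/-- `Ω₁(Z(C_S(a))) = {1, z, a, a z}` -/
theorem omega_eq {x : G} (hx : x ∈ (S : Subgroup G) ⊓ cen a) (hxx : x * x = 1)
    (hxc : ∀ y ∈ (S : Subgroup G) ⊓ cen a, y * x = x * y) : x = 1 ∨ x = z ∨ x = a ∨ x = a * z := by
  obtain ⟨s, hs, hsa⟩ := D.exists_s
  have hxa : x * a = a * x := mem_cen.1 hx.2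
  have haS : a ∈ (S : Subgroup G) ⊓ cen a := ⟨D.aS, mem_cen.2 rfl⟩
  -- the first case, for an arbitrary element
  have key : ∀ y : G, y ∈ S → y * y = 1 → (∀ w ∈ (S : Subgroup G) ⊓ cen a, w * y = y * w) →
      y * (s * y * s⁻¹) = 1 → y = 1 ∨ y = z := by
    intro y hy hyy hyc h
    refine D.eq_of_comm hs hsa y hy hyy hyc ?_
    have h1 : s * y * s⁻¹ = y := by
      have h2 : y * (s * y * s⁻¹) = y * y := by rw [h, hyy]
      exact mul_left_cancel h2
    exact mul_inv_eq_iff_eq_mul.1 h1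
  rcases D.omega_aux hs hsa x hx hxx hxc with h | h
  · rcases key x hx.1 hxx hxc h with h1 | h1
    · exact Or.inl h1
    · exact Or.inr (Or.inl h1)
  · have h1 : (x * a) * (x * a) = 1 := by
      calc (x * a) * (x * a) = x * (a * x) * a := by group
        _ = (x * x) * (a * a) := by rw [← hxa]; group
        _ = 1 := by rw [hxx, D.aa, one_mul]
    have h2 : (x * a) * (s * (x * a) * s⁻¹) = 1 := by
      have h3 := D.conj_a hs hsa
      have h4 : (s * x * s⁻¹) * a = a * (s * x * s⁻¹) := by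
        -- `x^s ∈ C_S(a)`: `x^s = x z`
        have h5 : s * x * s⁻¹ = x * z := by
          have h6 : x * (s * x * s⁻¹) = x * (x * z) := by rw [h, ← mul_assoc, hxx, one_mul]
          exact mul_left_cancel h6
        rw [h5]
        calc x * z * a = x * (z * a) := by group
          _ = (x * a) * z := by rw [← D.comm_az]; group
          _ = a * (x * z) := by rw [hxa]; group
      calc (x * a) * (s * (x * a) * s⁻¹) = x * (a * (s * x * s⁻¹)) * (s * a * s⁻¹) := by group
        _ = x * ((s * x * s⁻¹) * a) * (a * z) := by rw [← h4, h3]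
        _ = (x * (s * x * s⁻¹)) * (a * a) * z := by group
        _ = 1 := by rw [h, D.aa, mul_one, D.zz]
    have h3 := key (x * a) (Subgroup.mul_mem (S : Subgroup G) hx.1 D.aS) h1 (by
      intro w hw
      have hwa : w * a = a * w := mem_cen.1 hw.2
      calc w * (x * a) = (w * x) * a := by group
        _ = x * (w * a) := by rw [hxc w hw]; group
        _ = x * a * w := by rw [hwa]; group) h2
    have e : x = (x * a) * a := by rw [mul_assoc, D.aa, mul_one]
    rcases h3 with h3 | h3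
    · right; right; left
      rw [e, h3, one_mul]
    · right; right; right
      rw [e, h3, ← D.comm_az]

/-- **(i)**, `U_a` is abelian -/
theorem uu_comm (hG : IsCharacteristicTwoType G) : ∀ x ∈ uu a z, ∀ y ∈ uu a z, x * y = y * x := by
  have hfact : Fact (Nat.Prime 2) := ⟨Nat.prime_two⟩
  have key : (∀ c d : G, c * a = a * c → d * a = a * d →
      (c * z * c⁻¹) * (d * z * d⁻¹) = (d * z * d⁻¹) * (c * z * c⁻¹)) →
      ∀ x ∈ uu a z, ∀ y ∈ uu a z, x * y = y * x := by
    intro h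
    have h1 : uu a z ≤ centralizer {x | ∃ c : G, c * a = a * c ∧ c * z * c⁻¹ = x} := by
      unfold uu
      rw [closure_le]
      rintro _ ⟨c, hc, rfl⟩
      rw [SetLike.mem_coe, mem_centralizer_iff]
      rintro _ ⟨d, hd, rfl⟩
      exact h d c hd hc
    intro x hx y hy
    have h2 : uu a z ≤ centralizer ({x} : Set G) := by
      conv_lhs => unfold uu
      rw [closure_le]
      intro w hw
      rw [SetLike.mem_coe, mem_centralizer_iff]
      intro x' hx'
      rw [Set.mem_singleton_iff.1 hx']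
      exact ((mem_centralizer_iff.1 (h1 hx)) w hw).symm
    exact (mem_centralizer_iff.1 (h2 hy)) x rfl
  by_cases h : ∃ T : Sylow 2 G, (S : Subgroup G) ⊓ cen a ≤ T ∧ (T : Subgroup G) ≤ cen a
  · -- `a` is 2-central
    obtain ⟨T, hST, hTa⟩ := h
    have hTz : ¬ (T : Subgroup G) ≤ cen z := fun h => D.not_both T hTa h
    obtain ⟨t, ht, htz⟩ : ∃ t ∈ (T : Subgroup G), t * z ≠ z * t := by
      by_contra hcon
      push Not at hcon
      exact hTz fun t ht => mem_cen.2 (hcon t ht)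
    -- `T` normalises `C_S(a)`
    have hcT : Nat.card T = Nat.card ((S : Subgroup G) ⊓ cen a : Subgroup G) * 2 := by
      rw [← D.card_S]
      obtain ⟨g, hg⟩ := MulAction.exists_smul_eq G S T
      rw [← hg]
      exact (Nat.card_congr (Sylow.equivSMul S g).toEquiv).symm
    have hidx : (((S : Subgroup G) ⊓ cen a).subgroupOf (T : Subgroup G)).index = 2 := by
      have h1 := Subgroup.card_mul_index (((S : Subgroup G) ⊓ cen a).subgroupOf (T : Subgroup G))
      have h2 : Nat.card (((S : Subgroup G) ⊓ cen a).subgroupOf (T : Subgroup G)) =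
          Nat.card ((S : Subgroup G) ⊓ cen a : Subgroup G) :=
        Nat.card_congr (Subgroup.subgroupOfEquivOfLe hST).toEquiv
      rw [h2] at h1
      have h3 : 0 < Nat.card ((S : Subgroup G) ⊓ cen a : Subgroup G) := Nat.card_pos
      exact Nat.eq_of_mul_eq_mul_left h3 (h1.trans hcT)
    have hnorm : ∀ u ∈ (T : Subgroup G), ∀ y ∈ (S : Subgroup G) ⊓ cen a,
        u * y * u⁻¹ ∈ (S : Subgroup G) ⊓ cen a := by
      intro u hu y hy
      have hn := Subgroup.normal_of_index_eq_two hidx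
      have h1 := hn.conj_mem ⟨y, hST hy⟩ (mem_subgroupOf.2 hy) ⟨u, hu⟩
      exact mem_subgroupOf.1 h1
    have hzSa : z ∈ (S : Subgroup G) ⊓ cen a := ⟨D.zS, mem_cen.2 D.comm_az.symm⟩
    -- elements of `T - C(z)` move `z` to `a z`
    have hmove : ∀ u ∈ (T : Subgroup G), u * z ≠ z * u → u * z * u⁻¹ = a * z := by
      intro u hu huz
      have hua : u * a = a * u := mem_cen.1 (hTa hu)
      rcases D.omega_eq (hnorm u hu z hzSa) (by
        calc u * z * u⁻¹ * (u * z * u⁻¹) = u * (z * z) * u⁻¹ := by group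
          _ = 1 := by rw [D.zz]; group) (by
        intro y hy
        have h1 := hnorm u⁻¹ (Subgroup.inv_mem _ hu) y hy
        rw [inv_inv] at h1
        have h2 : (u⁻¹ * y * u) * z = z * (u⁻¹ * y * u) := D.Sz _ h1.1
        calc y * (u * z * u⁻¹) = u * ((u⁻¹ * y * u) * z) * u⁻¹ := by group
          _ = u * (z * (u⁻¹ * y * u)) * u⁻¹ := by rw [h2]
          _ = u * z * u⁻¹ * y := by group) with h1 | h1 | h1 | h1
      · exfalso
        apply D.z1
        have e : z = u⁻¹ * (u * z * u⁻¹) * u := by group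
        rw [e, h1]; group
      · exact absurd (mul_inv_eq_iff_eq_mul.1 h1) huz
      · exfalso
        apply D.az
        have e : z = u⁻¹ * (u * z * u⁻¹) * u := by group
        rw [e, h1, mul_assoc, ← hua, inv_mul_cancel_left]
      · exact h1
    have h1 := hmove t ht htz
    have h2 := hmove t⁻¹ (Subgroup.inv_mem _ ht) (by
      intro h
      apply htz
      rw [inv_mul_eq_iff_eq_mul, ← mul_assoc] at h
      exact (eq_mul_inv_iff_mul_eq.1 h).symm)
    rw [inv_inv] at h2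
    obtain ⟨s, hs, hsa⟩ := D.exists_s
    have h3 := D.conj_a hs hsa
    -- `n = s⁻¹ t` maps `z` to `a` and `a z` to `z`
    have hn1 : (s⁻¹ * t) * z * (s⁻¹ * t)⁻¹ = a := by
      calc (s⁻¹ * t) * z * (s⁻¹ * t)⁻¹ = s⁻¹ * (t * z * t⁻¹) * s := by group
        _ = s⁻¹ * (s * a * s⁻¹) * s := by rw [h1, h3]
        _ = a := by group
    have hn2 : (s⁻¹ * t) * (a * z) * (s⁻¹ * t)⁻¹ = z := by
      have h4 : s⁻¹ * z * s = z := by
        have h5 : s * z = z * s := D.Sz s hs
        rw [mul_assoc, ← h5, inv_mul_cancel_left]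
      calc (s⁻¹ * t) * (a * z) * (s⁻¹ * t)⁻¹ = s⁻¹ * (t * (a * z) * t⁻¹) * s := by group
        _ = s⁻¹ * (t * (t⁻¹ * z * t) * t⁻¹) * s := by rw [h2]
        _ = s⁻¹ * z * s := by group
        _ = z := h4
    refine key fun c d hc hd => ?_
    have hcom : ∀ c : G, c * a = a * c →
        ((s⁻¹ * t)⁻¹ * c * (s⁻¹ * t)) * z = z * ((s⁻¹ * t)⁻¹ * c * (s⁻¹ * t)) := by
      intro c hc
      calc ((s⁻¹ * t)⁻¹ * c * (s⁻¹ * t)) * z
          = (s⁻¹ * t)⁻¹ * (c * ((s⁻¹ * t) * z * (s⁻¹ * t)⁻¹)) * (s⁻¹ * t) := by group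
        _ = (s⁻¹ * t)⁻¹ * (((s⁻¹ * t) * z * (s⁻¹ * t)⁻¹) * c) * (s⁻¹ * t) := by rw [hn1, hc]
        _ = z * ((s⁻¹ * t)⁻¹ * c * (s⁻¹ * t)) := by group
    have hform : ∀ c : G, c * z * c⁻¹ = (s⁻¹ * t) * (((s⁻¹ * t)⁻¹ * c * (s⁻¹ * t)) * (a * z) *
        ((s⁻¹ * t)⁻¹ * c * (s⁻¹ * t))⁻¹) * (s⁻¹ * t)⁻¹ := by
      intro c
      calc c * z * c⁻¹ = c * ((s⁻¹ * t) * (a * z) * (s⁻¹ * t)⁻¹) * c⁻¹ := by rw [hn2]
        _ = _ := by group
    have haz : a * z ∈ V := V.mul_mem D.aV D.zV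
    have h4 := D.abel _ _ (hcom c hc) (hcom d hd) _ haz _ haz
    rw [hform c, hform d]
    set n := s⁻¹ * t
    set A := (n⁻¹ * c * n) * (a * z) * (n⁻¹ * c * n)⁻¹
    set B := (n⁻¹ * d * n) * (a * z) * (n⁻¹ * d * n)⁻¹
    calc n * A * n⁻¹ * (n * B * n⁻¹) = n * (A * B) * n⁻¹ := by group
      _ = n * (B * A) * n⁻¹ := by rw [h4]
      _ = n * B * n⁻¹ * (n * A * n⁻¹) := by group
  · -- `C_S(a)` is Sylow in `C(a)`
    have hle : o2 (cen a) ≤ (S : Subgroup G) ⊓ cen a := by
      have h2 : IsPGroup 2 ((S : Subgroup G) ⊓ cen a ⊔ o2 (cen a) : Subgroup G) :=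
        (S.isPGroup'.to_le inf_le_left).to_sup_of_normal_right' (o2_isPGroup _)
          (inf_le_right.trans (le_normalizer_o2 _))
      have h3 : (S : Subgroup G) ⊓ cen a ⊔ o2 (cen a) ≤ cen a :=
        sup_le inf_le_right (MinSimple.VModule.o2_le _)
      by_contra hcon
      obtain ⟨T, hT⟩ := D.sylow_of_lt h2 le_sup_left fun h4 => hcon (le_sup_right.trans h4)
      exact h ⟨T, by rw [hT]; exact le_sup_left, by rw [hT]; exact h3⟩
    have hz : z ∈ o2 (cen a) := by
      refine char2_centralizer hG (by rw [pow_two, D.aa]) D.a1 ⟨mem_cen.2 D.comm_az.symm, ?_⟩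
      exact mem_centralizer_iff.2 fun x hx => D.Sz x (hle hx).1
    refine key fun c d hc hd => ?_
    have h1 : c⁻¹ * (d * z * d⁻¹) * c ∈ o2 (cen a) := by
      have h2 : d * z * d⁻¹ ∈ o2 (cen a) := ((mem_normalizer_iff.1 (le_normalizer_o2 _ (mem_cen.2 hd))) z).1 hz
      have h3 := ((mem_normalizer_iff.1 (le_normalizer_o2 _ (Subgroup.inv_mem _ (mem_cen.2 hc)))) (d * z * d⁻¹)).1 h2
      rwa [inv_inv] at h3
    have h2 := D.Sz _ (hle h1).1
    calc c * z * c⁻¹ * (d * z * d⁻¹) = c * (z * (c⁻¹ * (d * z * d⁻¹) * c)) * c⁻¹ := by group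
      _ = c * ((c⁻¹ * (d * z * d⁻¹) * c) * z) * c⁻¹ := by rw [h2]
      _ = d * z * d⁻¹ * (c * z * c⁻¹) := by group

/-- `U_a` is elementary -/
theorem uu_sq (hG : IsCharacteristicTwoType G) : ∀ x ∈ uu a z, x * x = 1 := by
  intro x hx
  have hab := D.uu_comm hG
  have key : ∀ x, (hx : x ∈ closure {x | ∃ c : G, c * a = a * c ∧ c * z * c⁻¹ = x}) → x * x = 1 := by
    intro x hx
    induction hx using closure_induction with
    | mem x hx =>
      obtain ⟨c, _, rfl⟩ := hx
      calc c * z * c⁻¹ * (c * z * c⁻¹) = c * (z * z) * c⁻¹ := by group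
        _ = 1 := by rw [D.zz]; group
    | one => exact one_mul 1
    | mul x y hx' hy' hx hy =>
      calc x * y * (x * y) = x * (y * x) * y := by group
        _ = (x * x) * (y * y) := by rw [hab y hy' x hx']; group
        _ = 1 := by rw [hx, hy, one_mul]
    | inv x _ hx =>
      rw [← mul_inv_rev, hx, inv_one]
  exact key x hx

/-- **(i)**, `U_a ≤ O₂(C(a))` -/
theorem uu_le_o2 (hG : IsCharacteristicTwoType G) : uu a z ≤ o2 (cen a) := by
  refine le_o2 ?_ ?_ (le_normalizer_uu a z)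
  · unfold uu
    rw [closure_le]
    rintro _ ⟨c, hc, rfl⟩
    refine mem_cen.2 ?_
    have c1 : Commute c a := hc
    have c2 : Commute z a := D.comm_az.symm
    exact (c1.mul_left c2).mul_left c1.inv_left
  · rintro ⟨x, hx⟩
    refine ⟨1, Subtype.ext ?_⟩
    show x ^ 2 ^ 1 = 1
    rw [pow_one, pow_two, D.uu_sq hG x hx]

/-- **(i)**, `U_a ≤ C_S(a)` -/
theorem uu_le (hG : IsCharacteristicTwoType G) : uu a z ≤ (S : Subgroup G) ⊓ cen a :=
  (le_inf (D.uu_le_o2 hG) fun _ hx => mem_cen.2 (D.uu_comm hG _ hx _ (mem_uu a z))).trans D.le_inf'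

/-- **(ii)** `[U_a, V] = 1` if `|V : V₀| < MU` -/
theorem cent (hG : IsCharacteristicTwoType G) {mu : ℕ}
    (hmu : ∀ u ∈ normalizer (V : Set G), u * u = 1 → (∃ v ∈ V, u * v ≠ v * u) → mu ≤ (cen u).relIndex V)
    (h0 : (v0 V a z).relIndex V < mu) : ∀ u ∈ uu a z, ∀ v ∈ V, u * v = v * u := by
  by_contra hcon
  push Not at hcon
  obtain ⟨u, hu, hv⟩ := hcon
  have h1 := hmu u (D.SV (D.uu_le hG hu).1) (D.uu_sq hG u hu) hv
  have h2 : v0 V a z ≤ cen u := fun x hx => mem_cen.2 (D.uu_comm hG x (v0_le_uu V a z hx) u hu)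
  have h3 : (cen u).relIndex V ≤ (v0 V a z).relIndex V :=
    Subgroup.relIndex_le_of_le_left h2 (by rw [relIndex]; exact Subgroup.index_ne_zero_of_finite)
  omega

omit [Finite G] in
/-- **LEMMA U**: `[U_a, V] = 1` implies `V ≤ O₂(C(a))`. -/
theorem le_o2 (hcent : ∀ u ∈ uu a z, ∀ v ∈ V, u * v = v * u) : V ≤ o2 (cen a) := by
  set K : Subgroup G := cen a ⊓ centralizer (uu a z : Set G) with hK
  have hVK : V ≤ K := by
    refine le_inf (fun v hv => mem_cen.2 (D.comm v hv a D.aV)) fun v hv => ?_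
    rw [mem_centralizer_iff]
    exact fun u hu => hcent u hu v hv
  have hKz : K ≤ cen z := by
    intro k hk
    have h1 := (mem_centralizer_iff.1 hk.2) z (mem_uu a z)
    exact mem_cen.2 h1.symm
  have hKn : cen a ≤ normalizer (K : Set G) := by
    have h : ∀ c ∈ cen a, ∀ x ∈ K, c * x * c⁻¹ ∈ K := by
      intro c hc x hx
      refine ⟨(cen a).mul_mem ((cen a).mul_mem hc hx.1) ((cen a).inv_mem hc), ?_⟩
      refine mem_centralizer_iff.2 fun u hu => ?_
      have h1 : c⁻¹ * u * c ∈ uu a z := by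
        have := ((mem_normalizer_iff.1 (le_normalizer_uu a z ((cen a).inv_mem hc))) u).1 hu
        rwa [inv_inv] at this
      have h2 := (mem_centralizer_iff.1 hx.2) _ h1
      calc u * (c * x * c⁻¹) = c * ((c⁻¹ * u * c) * x) * c⁻¹ := by group
        _ = c * (x * (c⁻¹ * u * c)) * c⁻¹ := by rw [h2]
        _ = c * x * c⁻¹ * u := by group
    intro c hc
    rw [mem_normalizer_iff]
    intro x
    constructor
    · exact fun hx => h c hc x hx
    · intro hx
      have h1 := h c⁻¹ ((cen a).inv_mem hc) _ hx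
      have e : c⁻¹ * (c * x * c⁻¹) * c⁻¹⁻¹ = x := by group
      rwa [e] at h1
  have h1 : V ≤ o2 K := by
    refine (le_inf D.low hVK).trans (MinSimple.VModule.le_o2 inf_le_right ((o2_isPGroup _).to_le inf_le_left) ?_)
    intro k hk
    rw [mem_normalizer_iff]
    intro x
    have h2 := (mem_normalizer_iff.1 (le_normalizer_o2 _ (hKz hk))) x
    constructor
    · rintro ⟨hx1, hx2⟩
      exact ⟨h2.1 hx1, K.mul_mem (K.mul_mem hk hx2) (K.inv_mem hk)⟩
    · rintro ⟨hx1, hx2⟩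
      refine ⟨h2.2 hx1, ?_⟩
      have e : k⁻¹ * (k * x * k⁻¹) * k = x := by group
      rw [← e]
      exact K.mul_mem (K.mul_mem (K.inv_mem hk) hx2) hk
  refine h1.trans (MinSimple.VModule.le_o2 ((MinSimple.VModule.o2_le _).trans inf_le_left) (o2_isPGroup _)
    (hKn.trans (normalizer_le_normalizer_o2 K)))

/-- **(iii)**, one half: `V ≤ N(V')`. -/
theorem norm {S' : Sylow 2 G} {V' : Subgroup G} {z' : G} (D' : Dat S' V' z' a)
    (hg : ∃ g, g * a = a * g ∧ g * z * g⁻¹ = z') (hcent : ∀ u ∈ uu a z, ∀ v ∈ V, u * v = v * u) :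
    V ≤ normalizer (V' : Set G) := by
  obtain ⟨g, hga, rfl⟩ := hg
  refine le_trans (le_inf (D.le_o2 hcent) fun v hv => ?_) ((D'.le_inf').trans (inf_le_left.trans D'.SV))
  exact mem_cen.2 (hcent _ (conj_mem_uu hga) v hv).symm

/-- **(iii)**: two lines `V`, `V'` with the same `a`, `z' = z^g`, `g ∈ C(a)`, `[U_a, V] = 1 = [U_a, V']`
normalise each other. -/
theorem norm_both {S' : Sylow 2 G} {V' : Subgroup G} {z' : G} (D' : Dat S' V' z' a)
    (hg : ∃ g, g * a = a * g ∧ g * z * g⁻¹ = z') (hcent : ∀ u ∈ uu a z, ∀ v ∈ V, u * v = v * u)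
    (hcent' : ∀ u ∈ uu a z', ∀ v ∈ V', u * v = v * u) :
    V ≤ normalizer (V' : Set G) ∧ V' ≤ normalizer (V : Set G) := by
  refine ⟨D.norm D' hg hcent, D'.norm D ?_ hcent'⟩
  obtain ⟨g, hga, rfl⟩ := hg
  refine ⟨g⁻¹, ?_, by group⟩
  rw [inv_mul_eq_iff_eq_mul, ← mul_assoc, hga, mul_inv_cancel_right]

/-- **(iv)** `V` normalises every line on the point `a`. -/
theorem norm_of_z (hcent : ∀ u ∈ uu a z, ∀ v ∈ V, u * v = v * u) (T : Sylow 2 G)
    (hT : (T : Subgroup G) ≤ cen a) {V' : Subgroup G} (hV' : (T : Subgroup G) ≤ normalizer (V' : Set G)) :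
    V ≤ normalizer (V' : Set G) :=
  ((D.le_o2 hcent).trans (o2_le_of_sylow T.isPGroup' (not_dvd_relIndex T hT))).trans hV'

end

end Dat

end Cfsg.Agent.Omega.NO3b.UFive
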